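import Cfsg.Agent.H848.Setup
import Cfsg.Agent.MonsterU.ModelChart
import Cfsg.Agent.MonsterU.Uncond
import Cfsg.Agent.MonsterP.Equiv

/-!
# The chart of the Monster

`exists_chart`: a chart of `Spor.Monster`; `exists_setup`: with an element `y` of `Q` over the frame class and an
element `τ` permuting `z, y, z y`.
-/

set_option autoImplicit false

open Cfsg

namespace Cfsg.Agent.H848.MonsterSetup

open Cfsg.Agent.MonsterU.Lam2 (L2)
open Cfsg.Agent.MonsterU.CoFrameL2
open Cfsg.Agent.MonsterU.Ch
open Cfsg.Spor (Co1)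

theorem simple : IsSimpleGroup Spor.Monster := Cfsg.Agent.MonsterP.Equiv.isM.1

theorem card : Nat.card Spor.Monster = 808017424794512875886459904961710757005754368000000000 :=
  Cfsg.Agent.MonsterP.Equiv.isM.2

theorem finite : Finite Spor.Monster := Nat.finite_of_card_ne_zero (by rw [card]; norm_num)

/-- **The chart of the Monster.** -/
theorem exists_chart : ∃ (Q : Subgroup Spor.Monster) (z : Spor.Monster) (eta : Spor.Monster → L2)
    (pi : Subgroup.centralizer ({z} : Set Spor.Monster) →* Co1), Chart Q z eta pi := by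
  have A := Cfsg.Agent.MonsterU.Uncond.all
  obtain ⟨eta, pi, c⟩ := Cfsg.Agent.MonsterU.ModelChart.chart A.hG A.hR A.hL A.hO A.hT
  obtain ⟨e⟩ := Cfsg.Agent.MonsterP.Equiv.equiv
  exact ⟨_, _, _, _, Setup.chart_transport e c⟩

/-- **The standard setup of the Monster.** -/
theorem exists_setup : ∃ (Q : Subgroup Spor.Monster) (z : Spor.Monster) (eta : Spor.Monster → L2)
    (pi : Subgroup.centralizer ({z} : Set Spor.Monster) →* Co1) (y τ : Spor.Monster),
      Chart Q z eta pi ∧ y ∈ Q ∧ eta y = f0 ∧ τ * z * τ⁻¹ = y ∧ τ * y * τ⁻¹ = z * y := by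
  have := simple
  have := finite
  obtain ⟨Q, z, eta, pi, h⟩ := exists_chart
  obtain ⟨eta', pi', y, τ, h'⟩ := Setup.exists_setup h
  exact ⟨Q, z, eta', pi', y, τ, h'⟩

end Cfsg.Agent.H848.MonsterSetup
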