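import Cfsg.Agent.H848.McLSeven
import Cfsg.Agent.H419.Spor.McL
import Cfsg.Agent.H461.Cop.McL

/-!
# Local facts about `McL`

`mcl_eleven`, `mcl_seven`, `mcl_E`, `mcl_invol` (for S4901).
-/

set_option autoImplicit false

namespace Cfsg.Agent.H848.McLLocal

open Cfsg Subgroup Equiv
open Cfsg.Agent.H729.PairBase Cfsg.Agent.TypeM.Two Cfsg.Agent.SporRec.TwoAn
open Cfsg.Agent.CpAutBig
open Cfsg.Agent.H848.McLSeven
open Cfsg.Agent.BpSpor

/-! ### General facts -/

section

variable {S : Type*} [Group S]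

/-- `x` of order `r`, `r` dividing `|S|` once: the number `e = |N : C|`. -/
theorem data_of [Finite S] [IsSimpleGroup S] {r : ℕ} (hr : r.Prime) (h2 : ¬ r ^ 2 ∣ Nat.card S)
    (hne : Nat.card S ≠ r) {x : S} (hx : orderOf x = r) :
    ∃ (e n : ℕ), e ∣ r - 1 ∧ e ≠ 1 ∧ n % r = 1 ∧
      Nat.card (normalizer ((zpowers x : Subgroup S) : Set S)) = Nat.card (centralizer ({x} : Set S)) * e ∧
      Nat.card S = n * (Nat.card (centralizer ({x} : Set S)) * e) ∧ r ∣ Nat.card (centralizer ({x} : Set S)) := by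
  have : Fact r.Prime := ⟨hr⟩
  have h1 : r ∣ Nat.card S := hx ▸ orderOf_dvd_natCard x
  have hc : Nat.card (zpowers x) = r := by rw [Nat.card_zpowers, hx]
  have hfac : (Nat.card S).factorization r = 1 := by
    have h0 : Nat.card S ≠ 0 := Nat.card_pos.ne'
    have ha : 1 ≤ (Nat.card S).factorization r := (hr.dvd_iff_one_le_factorization h0).1 h1
    have hb : ¬ 2 ≤ (Nat.card S).factorization r := fun h => h2 ((hr.pow_dvd_iff_le_factorization h0).2 h)
    omega
  have hP : Nat.card (zpowers x) = r ^ (Nat.card S).factorization r := by rw [hfac, pow_one, hc]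
  let P : Sylow r S := Sylow.ofCard (zpowers x) hP
  have hPx : (P : Subgroup S) = zpowers x := rfl
  have hPs : (P : Set S) = ((zpowers x : Subgroup S) : Set S) := rfl
  obtain ⟨e, he, he1, -, h3, h4, h5⟩ :=
    SmallSimple.BurnsideNC.exists_automizer_of_card_eq_prime hne P (by rw [hPx, hc])
  rw [hPs, centralizer_zpowers_eq] at h3
  rw [hPs, centralizer_zpowers_eq] at h5
  refine ⟨e, Nat.card (Sylow r S), he, he1, ?_, h3, ?_, h5⟩
  · have := card_sylow_modEq_one r S
    rw [Nat.ModEq, Nat.mod_eq_of_lt hr.one_lt] at this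
    exact this
  · rw [← h4, hPs, h3]

/-- an involution generating a Sylow subgroup of the centralizer -/
theorem not_four_dvd [Finite S] {t x : S} (ht : orderOf t = 2) (hc : Commute t x)
    (h : ¬ 4 ∣ Nat.card (centralizer ({t} : Set S) ⊓ centralizer ({x} : Set S) : Subgroup S)) :
    ¬ 4 ∣ Nat.card (centralizer ({x} : Set S)) := by
  intro h4
  apply h
  have hp2 : Fact (Nat.Prime 2) := ⟨Nat.prime_two⟩
  have htx : t ∈ centralizer ({x} : Set S) := mem_centralizer_singleton_iff.2 hc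
  let t' : centralizer ({x} : Set S) := ⟨t, htx⟩
  have ht' : orderOf t' = 2 := by rw [← ht]; exact Subgroup.orderOf_mk _ _
  obtain ⟨K, hK, hle⟩ := Sylow.exists_subgroup_card_pow_prime_le 2 (n := 1) (m := 2)
    (by norm_num; exact h4) (zpowers t') (by rw [Nat.card_zpowers, ht', pow_one]) (by norm_num)
  have htK : t' ∈ K := hle (mem_zpowers t')
  have hab : ∀ a b : K, a * b = b * a := fun a b =>
    (IsPGroup.isMulCommutative_of_card_eq_prime_sq hK).is_comm.comm a b
  have h5 : Nat.card (K.map (centralizer ({x} : Set S)).subtype) = 4 := by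
    rw [Nat.card_congr (K.equivMapOfInjective _ (subtype_injective _)).toEquiv.symm, hK]
    norm_num
  rw [← h5]
  apply card_dvd_of_le
  rintro _ ⟨g, hg, rfl⟩
  refine mem_inf.2 ⟨?_, g.2⟩
  rw [mem_centralizer_singleton_iff]
  have := congrArg Subtype.val (hab ⟨g, hg⟩ ⟨t', htK⟩)
  exact congrArg Subtype.val this

end

/-! ### `McL` in `Co0` -/

/-- the embedding -/
def iota : Spor.McL →* Co0 := Subgroup.inclusion (fun _ hx => hx.1.1)

theorem iota_injective : Function.Injective iota := Subgroup.inclusion_injective _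

theorem facts : Finite Spor.McL ∧ IsSimpleGroup Spor.McL ∧ Nat.card Spor.McL = 898128000 ∧
    Nonempty (MT 8 Spor.McL) := TypeM.FactsMcL.exists_mt_mcl

theorem card_t (L : MT 8 Spor.McL) {s : Spor.McL} (hs : orderOf s = 2) :
    Nat.card (centralizer ({s} : Set Spor.McL)) = 40320 := by
  obtain ⟨hfin, -, -, -⟩ := facts
  obtain ⟨h1, h2⟩ := MT.sq_of_orderOf hs
  obtain ⟨L', rfl⟩ := L.exists_rebase h1 h2
  rw [TypeM.FactsAut.card_centralizer L' (by norm_num)]
  decide

theorem center_bot : center Spor.McL = ⊥ := by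
  obtain ⟨hfin, hs, hc, ⟨L⟩⟩ := facts
  rcases (Subgroup.Normal.eq_bot_or_eq_top (inferInstance : (center Spor.McL).Normal)) with h | h
  · exact h
  · exfalso
    have h1 : centralizer ({L.t} : Set Spor.McL) = ⊤ := by
      rw [eq_top_iff]
      intro g _
      rw [mem_centralizer_singleton_iff]
      have h2 : L.t ∈ center Spor.McL := by rw [h]; trivial
      exact mem_center_iff.1 h2 g
    have h2 := card_t L L.orderOf_t
    rw [h1, card_top, hc] at h2
    omega

theorem card_cent_dvd_co0 (x : Spor.McL) : 2 * Nat.card (centralizer ({x} : Set Spor.McL)) ∣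
    Nat.card (centralizer ({iota x} : Set Co0)) := by
  have h := card_cent_dvd iota iota_injective center_bot x
  rw [show Nat.card (center Co0) = 2 from Cfsg.Agent.S0398.result] at h
  rwa [mul_comm] at h

/-! ### Order 11 -/

/-- the embedding in `Co1` -/
noncomputable def jota : Spor.McL →* Spor.Co1 := (QuotientGroup.mk' (center Co0)).comp iota

theorem jota_injective : Function.Injective jota := by
  rw [injective_iff_map_eq_one]
  intro x hx
  have h1 : iota x ∈ center Co0 := (QuotientGroup.eq_one_iff _).1 hx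
  have h3 : x ∈ center Spor.McL := by
    rw [mem_center_iff]
    intro y
    apply iota_injective
    rw [map_mul, map_mul]
    exact mem_center_iff.1 h1 (iota y)
  rwa [center_bot, mem_bot] at h3

theorem card_eleven_le {x : Spor.McL} (hx : orderOf x = 11) : Nat.card (centralizer ({x} : Set Spor.McL)) ≤ 132 := by
  have hfin := MBigCo.finite_co1
  have h1 : orderOf (jota x) = 11 := by rw [orderOf_injective jota jota_injective, hx]
  refine le_trans ?_ (MBigCo.card_cent h1)
  refine Nat.card_le_card_of_injective (fun u : centralizer ({x} : Set Spor.McL) => ⟨jota u.1, ?_⟩) ?_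
  · rw [mem_centralizer_singleton_iff, ← map_mul, mem_centralizer_singleton_iff.1 u.2, map_mul]
  · intro a b hab
    exact Subtype.ext (jota_injective (congrArg Subtype.val hab))

theorem card_eleven {x : Spor.McL} (hx : orderOf x = 11) : Nat.card (centralizer ({x} : Set Spor.McL)) = 11 := by
  obtain ⟨hfin, hs, hc, ⟨L⟩⟩ := facts
  have hodd : ¬ 2 ∣ Nat.card (centralizer ({x} : Set Spor.McL)) := by
    refine NoTwo.odd_cent (r := 11) (NoTwo.of_card fun u hu => ?_) hx
    rw [card_t L hu]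
    norm_num
  obtain ⟨e, n, he, he1, hn, -, h3, ⟨k, hk⟩⟩ := data_of (r := 11) (by norm_num) (by rw [hc]; norm_num)
    (by rw [hc]; norm_num) hx
  have hle := card_eleven_le hx
  rw [hk] at hle hodd h3 ⊢
  rw [hc] at h3
  have hk12 : k ≤ 12 := by omega
  have hk0 : k ≠ 0 := by
    rintro rfl
    omega
  have he10 : e ∣ 10 := he
  have h10 : e ≤ 10 := Nat.le_of_dvd (by norm_num) he10
  interval_cases e <;> first | omega | skip
  all_goals interval_cases k <;> omega

theorem mcl_eleven : ∃ x : Cfsg.Spor.McL, orderOf x = 11 ∧ Nat.card (Subgroup.centralizer ({x} : Set Cfsg.Spor.McL)) = 11 := by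
  obtain ⟨hfin, hs, hc, -⟩ := facts
  have : Fact (Nat.Prime 11) := ⟨by norm_num⟩
  obtain ⟨x, hx⟩ := exists_prime_orderOf_dvd_card' (G := Spor.McL) 11 (by rw [hc]; norm_num)
  exact ⟨x, hx, card_eleven hx⟩

/-! ### Order 7 -/

theorem card_seven_dvd {x : Spor.McL} (hx : orderOf x = 7) :
    ∃ j ≤ 12, Nat.card (centralizer ({iota x} : Set Co0)) = 392 * j := by
  have hfin := CoZero.finite_co0
  have h1 : orderOf (iota x) = 7 := by rw [orderOf_injective iota iota_injective, hx]
  have hv : iota x • Spor.leechU = Spor.leechU := MulAction.mem_stabilizer_iff.1 x.2.2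
  have hu : Spor.leechU ≠ 0 := by
    intro h
    have h2 : Spor.vecU = 0 := congrArg Subtype.val h
    exact absurd h2 (by decide)
  obtain ⟨g, hg⟩ := SevenFix.conj_seven h1 hu hv
  have h2 : Nat.card (centralizer ({iota x} : Set Co0)) = Nat.card (centralizer ({SevenFix.r7} : Set Co0)) :=
    CoZero.card_centralizer_of_conj (by norm_num) h1 SevenFix.orderOf_r7 hg
  obtain ⟨j, hj⟩ := McLSeven.card_dvd
  refine ⟨j, ?_, h2.trans hj⟩
  have h3 := SevenFix.card_le_r7
  omega

open Cfsg.Agent.H419.Spor.McL (s7 exists_lift_odd orderOf_s7)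

theorem three_dvd (L : MT 8 Spor.McL) {g7 : centralizer ({L.t} : Set Spor.McL)} (hg7 : L.K.π g7 = s7)
    (h7 : orderOf g7 = 7) :
    3 ∣ Nat.card (normalizer ((zpowers (g7 : Spor.McL) : Subgroup Spor.McL) : Set Spor.McL)) := by
  obtain ⟨hfin, -⟩ := facts
  obtain ⟨ρ, hρ1, hρ2, hρ3⟩ : ∃ ρ : Perm (Fin 8), Perm.sign ρ = 1 ∧ orderOf ρ = 3 ∧ ρ * s7 * ρ⁻¹ = s7 ^ 2 := by
    refine ⟨c[1, 2, 4] * c[3, 6, 5], by decide +kernel, ?_, by decide +kernel⟩
    have : Fact (Nat.Prime 3) := ⟨by norm_num⟩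
    exact orderOf_eq_prime (by decide +kernel) (by decide +kernel)
  obtain ⟨g3, hg3, h3⟩ := exists_lift_odd L.K hρ1 (n := 3) (by decide) hρ2
  have hc : g3 * g7 * g3⁻¹ = g7 ^ 2 := by
    refine L.K.odd_lift_unique (n := 7) (by decide) ?_ ?_ ?_
    · rw [conj_pow, ← h7, pow_orderOf_eq_one, mul_one, mul_inv_cancel]
    · rw [← pow_mul, mul_comm, pow_mul, ← h7, pow_orderOf_eq_one, one_pow]
    · rw [map_mul, map_mul, map_inv, map_pow, hg3, hg7, hρ3]
  have hm : (g3 : Spor.McL) ∈ normalizer ((zpowers (g7 : Spor.McL) : Subgroup Spor.McL) : Set Spor.McL) := by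
    apply mem_normalizer_of_conj_pow (k := 2)
    exact congrArg Subtype.val hc
  have ho : orderOf (⟨(g3 : Spor.McL), hm⟩ :
      normalizer ((zpowers (g7 : Spor.McL) : Subgroup Spor.McL) : Set Spor.McL)) = 3 := by
    rw [Subgroup.orderOf_mk, Subgroup.orderOf_coe, h3]
  rw [← ho]
  exact orderOf_dvd_natCard _

theorem mcl_seven : ∃ x : Cfsg.Spor.McL, orderOf x = 7 ∧ Nat.card (Subgroup.centralizer ({x} : Set Cfsg.Spor.McL)) = 14 := by
  obtain ⟨hfin, hs, hcard, ⟨L⟩⟩ := facts
  obtain ⟨g7, hg7, h7⟩ := exists_lift_odd L.K (σ := s7) (by decide +kernel) (by decide) orderOf_s7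
  have hx : orderOf (g7 : Spor.McL) = 7 := by rw [Subgroup.orderOf_coe, h7]
  refine ⟨g7, hx, ?_⟩
  have hcomm : Commute L.t (g7 : Spor.McL) := (L.mem_iff.1 g7.2).symm
  -- the centralizer of `t` and `g7`
  have h14 : Nat.card (centralizer ({L.t} : Set Spor.McL) ⊓ centralizer ({(g7 : Spor.McL)} : Set Spor.McL) :
      Subgroup Spor.McL) ∣ 14 := by
    have hx14 : orderOf (L.t * (g7 : Spor.McL)) = 14 := by
      rw [hcomm.orderOf_mul_eq_mul_orderOf_of_coprime, L.orderOf_t, hx]
      rw [L.orderOf_t, hx]; decide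
    rw [← hx14, ← Nat.card_zpowers]
    apply card_dvd_of_le
    intro g hg
    rw [mem_inf] at hg
    have h1 : g * g7 = g7 * g := mem_centralizer_singleton_iff.1 hg.2
    have h2 : L.K.π ⟨g, hg.1⟩ * s7 = s7 * L.K.π ⟨g, hg.1⟩ := by
      rw [← hg7, ← map_mul, ← map_mul]
      congr 1
      exact Subtype.ext h1
    obtain ⟨k, hk⟩ := Cfsg.Agent.H419.Spor.McL.eq_pow_of_comm h2
    have htz : L.t ∈ zpowers (L.t * (g7 : Spor.McL)) := by
      refine mem_zpowers_iff.2 ⟨7, ?_⟩
      have e1 : (g7 : Spor.McL) ^ 7 = 1 := by rw [← hx]; exact pow_orderOf_eq_one _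
      have e2 : L.t ^ 7 = L.t := by
        calc L.t ^ 7 = (L.t * L.t) ^ 3 * L.t := by rw [← pow_two, ← pow_mul, ← pow_succ]
          _ = L.t := by rw [L.t_mul_t, one_pow, one_mul]
      rw [show (7 : ℤ) = ((7 : ℕ) : ℤ) from rfl, zpow_natCast, hcomm.mul_pow, e1, mul_one, e2]
    have hgz : (g7 : Spor.McL) ∈ zpowers (L.t * (g7 : Spor.McL)) := by
      have := (zpowers (L.t * (g7 : Spor.McL))).mul_mem ((zpowers (L.t * (g7 : Spor.McL))).inv_mem htz)
        (mem_zpowers (L.t * (g7 : Spor.McL)))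
      rwa [inv_mul_cancel_left] at this
    rw [← hg7, ← map_pow] at hk
    rcases L.K.lift_eq hk with h3 | h3
    · have h4 : g = (g7 : Spor.McL) ^ k := congrArg Subtype.val h3
      rw [h4]
      exact pow_mem hgz k
    · have h4 : g = (g7 : Spor.McL) ^ k * L.t :=
        (congrArg Subtype.val h3).trans (congrArg (fun z => (g7 : Spor.McL) ^ k * z) L.hz)
      rw [h4]
      exact mul_mem (pow_mem hgz k) htz
  have h4 := not_four_dvd L.orderOf_t hcomm (fun h => absurd (h.trans h14) (by norm_num))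
  have h2 : 2 ∣ Nat.card (centralizer ({(g7 : Spor.McL)} : Set Spor.McL)) := by
    rw [← L.orderOf_t]
    have hm : L.t ∈ centralizer ({(g7 : Spor.McL)} : Set Spor.McL) := mem_centralizer_singleton_iff.2 hcomm
    rw [← Subgroup.orderOf_mk L.t hm]
    exact orderOf_dvd_natCard _
  obtain ⟨e, n, he, he1, hn, hN, h3, h7C⟩ := data_of (r := 7) (by norm_num) (by rw [hcard]; norm_num)
    (by rw [hcard]; norm_num) hx
  have h3N := three_dvd L hg7 h7
  obtain ⟨m, hm⟩ : 14 ∣ Nat.card (centralizer ({(g7 : Spor.McL)} : Set Spor.McL)) :=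
    Nat.Coprime.mul_dvd_of_dvd_of_dvd (m := 2) (n := 7) (by norm_num) h2 h7C
  obtain ⟨j, hj, hj2⟩ := card_seven_dvd hx
  have hd := card_cent_dvd_co0 (g7 : Spor.McL)
  rw [hN] at h3N
  have h11 : ¬ 11 ∣ Nat.card (centralizer ({(g7 : Spor.McL)} : Set Spor.McL)) := by
    intro h11
    have : Fact (Nat.Prime 11) := ⟨by norm_num⟩
    obtain ⟨y, hy⟩ := exists_prime_orderOf_dvd_card' 11 h11
    have hy' : orderOf (y : Spor.McL) = 11 := by rw [Subgroup.orderOf_coe, hy]
    have h5 := card_eleven hy'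
    have hm : (g7 : Spor.McL) ∈ centralizer ({(y : Spor.McL)} : Set Spor.McL) :=
      mem_centralizer_singleton_iff.2 (mem_centralizer_singleton_iff.1 y.2).symm
    have h6 : 7 ∣ Nat.card (centralizer ({(y : Spor.McL)} : Set Spor.McL)) := by
      rw [← hx, ← Subgroup.orderOf_mk (g7 : Spor.McL) hm]
      exact orderOf_dvd_natCard _
    rw [h5] at h6
    omega
  rw [hm] at h4 h3 h3N h11 hd ⊢
  rw [hj2] at hd
  rw [hcard] at h3
  have hj0 : j ≠ 0 := by
    rintro rfl
    have : Finite (centralizer ({iota (g7 : Spor.McL)} : Set Co0)) := by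
      have := CoZero.finite_co0
      infer_instance
    have := Nat.card_pos (α := centralizer ({iota (g7 : Spor.McL)} : Set Co0))
    omega
  have hodd : ¬ 2 ∣ m := by
    rintro ⟨c, rfl⟩
    exact h4 ⟨7 * c, by ring⟩
  have h7m : ¬ 7 ∣ m := by
    rintro ⟨c, rfl⟩
    have h8 : 49 ∣ 898128000 := by
      rw [h3]
      exact ⟨n * (2 * c * e), by ring⟩
    omega
  have hmj : m ∣ j := by
    have h8 : 28 * m ∣ 28 * (14 * j) := by
      have : 2 * (14 * m) ∣ 392 * j := hd
      rw [show 28 * (14 * j) = 392 * j by ring, show 28 * m = 2 * (14 * m) by ring]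
      exact this
    have h9 : m ∣ 14 * j := Nat.dvd_of_mul_dvd_mul_left (by norm_num) h8
    refine Nat.Coprime.dvd_of_dvd_mul_left ?_ h9
    rw [show 14 = 2 * 7 from rfl]
    apply Nat.Coprime.mul_right
    · exact ((Nat.Prime.coprime_iff_not_dvd Nat.prime_two).2 hodd).symm
    · exact ((Nat.Prime.coprime_iff_not_dvd (by norm_num)).2 h7m).symm
  have hm12 : m ≤ 12 := (Nat.le_of_dvd (by omega) hmj).trans hj
  have he6 : e ∣ 6 := he
  have h6 : e ≤ 6 := Nat.le_of_dvd (by norm_num) he6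
  interval_cases e <;> first | omega | skip
  all_goals interval_cases m <;> omega

/-! ### Involutions -/

theorem mcl_invol : ∀ a b : Cfsg.Spor.McL, orderOf a = 2 → orderOf b = 2 → IsConj a b := by
  intro a b ha hb
  obtain ⟨hfin, hs, hcard, ⟨L⟩⟩ := facts
  obtain ⟨ha1, ha2⟩ := MT.sq_of_orderOf ha
  obtain ⟨hb1, hb2⟩ := MT.sq_of_orderOf hb
  obtain ⟨g, hg⟩ := L.one a ha1 ha2
  obtain ⟨g', hg'⟩ := L.one b hb1 hb2
  exact (isConj_iff.2 ⟨g, hg⟩).symm.trans (isConj_iff.2 ⟨g', hg'⟩)

/-! ### The elementary abelian subgroup of order 16 -/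

open Cfsg.Agent.H461.Cop (pa pb pc E8 mem_E8 tb sq_of_comm pa_mem pb_mem pc_mem)

/-- the elements of the regular subgroup -/
def tau (i : Fin 8) : Perm (Fin 8) :=
  (if Nat.testBit i 0 then pa else 1) * ((if Nat.testBit i 1 then pb else 1) * (if Nat.testBit i 2 then pc else 1))

theorem tau_mem : ∀ i, tau i ∈ E8 := by
  intro i
  unfold tau
  refine mul_mem ?_ (mul_mem ?_ ?_) <;> split_ifs
  exacts [pa_mem, one_mem _, pb_mem, one_mem _, pc_mem, one_mem _]

theorem tau_sign : ∀ i, tau i ∈ alternatingGroup (Fin 8) := by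
  intro i
  have ha : pa ∈ alternatingGroup (Fin 8) := Perm.mem_alternatingGroup.2 (by decide +kernel)
  have hb : pb ∈ alternatingGroup (Fin 8) := Perm.mem_alternatingGroup.2 (by decide +kernel)
  have hc : pc ∈ alternatingGroup (Fin 8) := Perm.mem_alternatingGroup.2 (by decide +kernel)
  unfold tau
  refine mul_mem ?_ (mul_mem ?_ ?_) <;> split_ifs
  exacts [ha, one_mem _, hb, one_mem _, hc, one_mem _]

theorem tau_zero : ∀ i, tau i 0 = i := by decide

theorem apply_eq {σ : Perm (Fin 8)} (h : σ ∈ E8) : ∀ i, σ i = tb i (σ 0) := by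
  obtain ⟨ha, hb, hc⟩ := mem_E8.1 h
  have ea : ∀ i, σ (pa i) = pa (σ i) := fun i => DFunLike.congr_fun ha i
  have eb : ∀ i, σ (pb i) = pb (σ i) := fun i => DFunLike.congr_fun hb i
  have ec : ∀ i, σ (pc i) = pc (σ i) := fun i => DFunLike.congr_fun hc i
  intro i
  have h1 : i = tb i 0 := by revert i; decide
  conv_lhs => rw [h1]
  unfold tb
  split_ifs <;> simp only [ea, eb, ec, Perm.one_apply]

theorem eq_tau {σ : Perm (Fin 8)} (h : σ ∈ E8) : σ = tau (σ 0) := by
  ext i
  rw [apply_eq h i, apply_eq (tau_mem (σ 0)) i, tau_zero]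

theorem support_tau : ∀ i : Fin 8, i ≠ 0 → (tau i).support.card = 8 := by decide +kernel
theorem tau_one : tau 0 = 1 := by decide

theorem card_E8 : Nat.card E8 = 8 := by
  have h : Function.Bijective (fun σ : E8 => (σ : Perm (Fin 8)) 0) := by
    constructor
    · intro a b hab
      apply Subtype.ext
      rw [eq_tau a.2, eq_tau b.2]
      exact congrArg tau hab
    · intro i
      exact ⟨⟨tau i, tau_mem i⟩, tau_zero i⟩
  rw [Nat.card_eq_of_bijective _ h, Nat.card_fin]

theorem mcl_E : ∃ E : Subgroup Cfsg.Spor.McL, Nat.card E = 16 ∧ ∀ a ∈ E, a * a = 1 := by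
  obtain ⟨hfin, hs, hcard, ⟨L⟩⟩ := facts
  refine ⟨(E8.comap L.K.π).map (centralizer ({L.t} : Set Spor.McL)).subtype, ?_, ?_⟩
  · rw [Nat.card_congr ((E8.comap L.K.π).equivMapOfInjective _ (subtype_injective _)).toEquiv.symm]
    have h1 : (E8.comap L.K.π).index = E8.relIndex L.K.π.range := Subgroup.index_comap E8 L.K.π
    have h3 : E8 ≤ L.K.π.range := by
      rw [L.K.range_eq]
      intro σ hσ
      rw [eq_tau hσ]
      exact tau_sign _
    have h2 : Nat.card (E8.subgroupOf L.K.π.range) * E8.relIndex L.K.π.range = Nat.card L.K.π.range :=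
      Subgroup.card_mul_index (E8.subgroupOf L.K.π.range)
    rw [Nat.card_congr (Subgroup.subgroupOfEquivOfLe h3).toEquiv, card_E8, L.K.range_eq, nat_card_alternatingGroup,
      Nat.card_fin] at h2
    have h4 := Subgroup.card_mul_index (E8.comap L.K.π)
    rw [h1, card_t L L.orderOf_t, L.K.range_eq] at h4
    have h5 : (8 : ℕ).factorial / 2 = 20160 := by decide
    rw [h5] at h2
    have h6 : E8.relIndex (alternatingGroup (Fin 8)) = 2520 := by omega
    rw [h6] at h4
    omega
  · rintro _ ⟨g, hg, rfl⟩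
    have hg' : L.K.π g ∈ E8 := hg
    have h1 : g * g = 1 := by
      rw [L.K.sq_eq_one_iff]
      have h2 := eq_tau hg'
      refine ⟨?_, ?_⟩
      · obtain ⟨ha, hb, hc⟩ := mem_E8.1 hg'
        exact sq_of_comm ha hb hc
      · rw [h2]
        by_cases h0 : L.K.π g 0 = 0
        · rw [h0, tau_one, Perm.support_one, Finset.card_empty]
          exact dvd_zero _
        · rw [support_tau _ h0]
    exact congrArg Subtype.val h1

end Cfsg.Agent.H848.McLLocal
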