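import Cfsg.Agent.H848.NormFour
import Cfsg.Agent.MonsterU.AmalSideOf

/-!
# The standard setup in a finite simple group with a chart

`chart_transport`: charts are transported along isomorphisms; `exists_setup`: in a finite simple group with a chart
there are a chart, an element `y ∈ Q` over the frame class and an element `τ` permuting `z, y, z y` cyclically;
`normFour`: the shape of the normaliser of the four group `⟨z, y⟩`.
-/

set_option autoImplicit false

open Cfsg

namespace Cfsg.Agent.H848.Setup

open Cfsg.Agent.MonsterU.Lam2 (L2)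
open Cfsg.Agent.MonsterU.CoFrameL2
open Cfsg.Agent.MonsterU.Ch
open Cfsg.Agent.Co2Type.Quad
open Cfsg.Spor (Co1)

variable {G : Type*} [Group G] {Q : Subgroup G} {z : G} {eta : G → L2}
  {pi : Subgroup.centralizer ({z} : Set G) →* Co1}

/-- the map of centralisers -/
def centMap {G' : Type*} [Group G'] (e : G' ≃* G) (z : G) :
    Subgroup.centralizer ({e.symm z} : Set G') →* Subgroup.centralizer ({z} : Set G) where
  toFun c := ⟨e c, by
    have h1 := Subgroup.mem_centralizer_singleton_iff.1 c.2
    rw [Subgroup.mem_centralizer_singleton_iff]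
    have h2 := congrArg e h1
    rwa [map_mul, map_mul, MulEquiv.apply_symm_apply] at h2⟩
  map_one' := Subtype.ext (map_one e)
  map_mul' a b := Subtype.ext (map_mul e _ _)

theorem large_transport {G' : Type*} [Group G'] (e : G' ≃* G) (h : Large Q z) :
    Large (Q.comap e.toMonoidHom) (e.symm z) := by
  have hm : ∀ x : G', x ∈ Q.comap e.toMonoidHom ↔ e x ∈ Q := fun x => Iff.rfl
  have he : ∀ x y : G', x = y ↔ e x = e y := fun x y => e.injective.eq_iff.symm
  refine
    { z_mem := ?_
      z_ne := ?_
      z_sq := ?_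
      comm_z := ?_
      conj_mem := ?_
      sq := ?_
      comm := ?_
      cent := ?_
      self := ?_ }
  · rw [hm, MulEquiv.apply_symm_apply]; exact h.z_mem
  · intro h1
    rw [he, MulEquiv.apply_symm_apply, map_one] at h1
    exact h.z_ne h1
  · rw [he, map_mul, MulEquiv.apply_symm_apply, map_one]; exact h.z_sq
  · intro x hx
    rw [he, map_mul, map_mul, MulEquiv.apply_symm_apply]
    exact h.comm_z _ hx
  · intro g hg x hx
    rw [he, map_mul, map_mul, MulEquiv.apply_symm_apply] at hg
    rw [hm, map_mul, map_mul, map_inv]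
    exact h.conj_mem _ hg _ hx
  · intro x hx
    rw [he, he (x * x), map_mul, map_one, MulEquiv.apply_symm_apply]
    exact h.sq _ hx
  · intro x hx y hy
    rw [he, he (x * y), map_mul, map_mul, map_mul, map_mul, MulEquiv.apply_symm_apply]
    exact h.comm _ hx _ hy
  · intro x hx h1
    rw [he, he x, map_one, MulEquiv.apply_symm_apply]
    refine h.cent _ hx fun y hy => ?_
    have h2 := h1 (e.symm y) (by rw [hm, MulEquiv.apply_symm_apply]; exact hy)
    have h3 := congrArg e h2
    rwa [map_mul, map_mul, MulEquiv.apply_symm_apply] at h3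
  · intro g hg h1
    rw [he, map_mul, map_mul, MulEquiv.apply_symm_apply] at hg
    refine h.self _ hg fun y hy => ?_
    have h2 := h1 (e.symm y) (by rw [hm, MulEquiv.apply_symm_apply]; exact hy)
    have h3 := congrArg e h2
    rwa [map_mul, map_mul, MulEquiv.apply_symm_apply] at h3

/-- **Transport of charts.** -/
theorem chart_transport {G' : Type*} [Group G'] (e : G' ≃* G) (h : Chart Q z eta pi) :
    Chart (Q.comap e.toMonoidHom) (e.symm z) (fun x => eta (e x)) (pi.comp (centMap e z)) := by
  have hm : ∀ x : G', x ∈ Q.comap e.toMonoidHom ↔ e x ∈ Q := fun x => Iff.rfl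
  refine
    { large := large_transport e h.large
      fin := ?_
      eta_mul := ?_
      eta_zero := ?_
      eta_surj := ?_
      eta_conj := ?_
      pi_surj := ?_ }
  · have := h.fin
    refine Finite.of_injective (fun x : Q.comap e.toMonoidHom => (⟨e x, x.2⟩ : Q)) ?_
    intro a b hab
    exact Subtype.ext (e.injective (congrArg Subtype.val hab))
  · intro x hx y hy
    show eta (e (x * y)) = _
    rw [map_mul]
    exact h.eta_mul _ hx _ hy
  · intro x hx
    show eta (e x) = 0 ↔ _
    refine (h.eta_zero (e x) hx).trans ?_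
    constructor
    · rintro (h1 | h1)
      · left; exact e.injective (by rw [h1, map_one])
      · right; exact e.injective (by rw [h1, MulEquiv.apply_symm_apply])
    · rintro (h1 | h1)
      · left; rw [h1, map_one]
      · right; rw [h1, MulEquiv.apply_symm_apply]
  · intro v
    obtain ⟨x, hx, hv⟩ := h.eta_surj v
    refine ⟨e.symm x, ?_, ?_⟩
    · rw [hm, MulEquiv.apply_symm_apply]; exact hx
    · show eta (e (e.symm x)) = v
      rw [MulEquiv.apply_symm_apply]; exact hv
  · intro c x hx
    show eta (e ((c : G') * x * (c : G')⁻¹)) = _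
    rw [map_mul, map_mul, map_inv]
    exact h.eta_conj (centMap e z c) _ hx
  · refine h.pi_surj.comp ?_
    rintro ⟨c, hc⟩
    refine ⟨⟨e.symm c, ?_⟩, ?_⟩
    · have h1 := Subgroup.mem_centralizer_singleton_iff.1 hc
      rw [Subgroup.mem_centralizer_singleton_iff, ← map_mul, ← map_mul, h1]
    · apply Subtype.ext
      show e (e.symm c) = c
      rw [MulEquiv.apply_symm_apply]

/-- **The standard setup.** -/
theorem exists_setup [Finite G] [IsSimpleGroup G] (h : Chart Q z eta pi) :
    ∃ (eta' : G → L2) (pi' : Subgroup.centralizer ({z} : Set G) →* Co1) (y τ : G),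
      Chart Q z eta' pi' ∧ y ∈ Q ∧ eta' y = f0 ∧ τ * z * τ⁻¹ = y ∧ τ * y * τ⁻¹ = z * y := by
  obtain ⟨g, h1, h2, -⟩ := Cfsg.Agent.MonsterU.Fused.exists_type_four h
  obtain ⟨s, τ, h3, h4, h5⟩ := Cfsg.Agent.MonsterU.AmalSideOf.exists_frame h h1 h2 ⟨g, rfl⟩
  exact ⟨_, _, g * z * g⁻¹, τ, h.smul s, h1, h5, h3, h4⟩

/-- **The normaliser of a four group** in a finite simple group with a chart. -/
theorem normFour [Finite G] [IsSimpleGroup G] (h : Chart Q z eta pi) :
    ∃ (E N : Subgroup G) (O : Subgroup ↥N), IsKleinFour ↥E ∧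
    N = Subgroup.normalizer (E : Set G) ∧ O = Cfsg.pCore 2 ↥N ∧ Nat.card ↥O = 2 ^ 35 ∧
    (Subgroup.center ↥O).map O.subtype = E.subgroupOf N ∧
    ∃ _ : O.Normal, Nonempty (↥N ⧸ O ≃* ↥Cfsg.M24 × Equiv.Perm (Fin 3)) := by
  obtain ⟨eta', pi', y, τ, h', hyQ, hy, τz, τy⟩ := exists_setup h
  exact NormFour.main h' hyQ hy τz τy

end Cfsg.Agent.H848.Setup
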