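import Cfsg.Agent.H848.NormFive
import Cfsg.Agent.H848.Setup
import Cfsg.Agent.MonsterU.AmalQuot

/-!
# The normaliser of an elementary abelian subgroup of order 32 in a finite simple group with a chart
-/

set_option autoImplicit false

open Cfsg

namespace Cfsg.Agent.H848.SetupFive

open Cfsg.Agent.MonsterU.Lam2 (L2)
open Cfsg.Agent.MonsterU.CoFrameL2
open Cfsg.Agent.MonsterU.Ch
open Cfsg.Agent.MonsterU.AmalGen (pre pre_W1 EE)
open Cfsg.Agent.MonsterU.AmalQuot (mk mk_eq hat mem_hat tauHat tauHat_mk tauHat_three tauHat_x tauHat_E pinHyp)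
open Cfsg.Spor (Co1)

variable {G : Type*} [Group G] {Q : Subgroup G} {z : G} {eta : G → L2}
  {pi : Subgroup.centralizer ({z} : Set G) →* Co1}

/-- the setup with an element of order three trivial on `pre h W12` modulo the four group -/
theorem exists_setup [Finite G] [IsSimpleGroup G] (h : Chart Q z eta pi) :
    ∃ (eta' : G → L2) (pi' : Subgroup.centralizer ({z} : Set G) →* Co1) (h' : Chart Q z eta' pi') (y τ : G),
      y ∈ Q ∧ eta' y = f0 ∧ τ * z * τ⁻¹ = y ∧ τ * y * τ⁻¹ = z * y ∧ τ * τ * τ = 1 ∧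
      ∀ e ∈ EE h', τ * e * τ⁻¹ * e⁻¹ ∈ pre h' W1 := by
  obtain ⟨g, h1, h2, -⟩ := Cfsg.Agent.MonsterU.Fused.exists_type_four h
  obtain ⟨eta', pi', h', τ, x, u, q₀, e₁, a₁, S, hy, -⟩ :=
    Cfsg.Agent.MonsterU.AmalSideOf.exists_side h h1 h2 ⟨g, rfl⟩
  refine ⟨eta', pi', h', _, τ, h1, hy, S.τz, S.τy, S.τ3, fun e he => ?_⟩
  have key := (pinHyp S).fixE (tauHat S) (tauHat_three S) (tauHat_x S) (fun e he => tauHat_E S he)
    (mk e (S.EB he)) (mem_hat.2 ⟨e, S.EB he, he, rfl⟩)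
  rw [tauHat_mk, mk_eq] at key
  rw [pre_W1 h' h1 hy]
  exact key

/-- **The normaliser of a subgroup of order 32.** -/
theorem normFive [Finite G] [IsSimpleGroup G] (h : Chart Q z eta pi) :
    ∃ (E N : Subgroup G) (O : Subgroup ↥N), Cfsg.IsElementaryAbelian 2 E ∧ Nat.card ↥E = 2 ^ 5 ∧
    N = Subgroup.normalizer (E : Set G) ∧ O = Cfsg.pCore 2 ↥N ∧ Nat.card ↥O = 2 ^ 35 ∧
    (Subgroup.center ↥O).map O.subtype = E.subgroupOf N ∧
    ∃ _ : O.Normal, Nonempty (↥N ⧸ O ≃* Equiv.Perm (Fin 3) × Matrix.SpecialLinearGroup (Fin 5) (ZMod 2)) := by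
  obtain ⟨eta', pi', h', y, τ, hyQ, hy, τz, -, -, τE⟩ := exists_setup h
  exact NormFive.main h' hyQ hy τz τE

end Cfsg.Agent.H848.SetupFive
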