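import Cfsg.Agent.H848.SpSixLarge
import Cfsg.Agent.H336.SpSix.Equiv
import Cfsg.Agent.H848.MonsterSetup
import Cfsg.Agent.Foote.Row.Baby
import Cfsg.Agent.CTwoTab.FiTF

/-!
# S3405: the rows `Fi24'`, `B`, `M`

`row_fi24`, `row_b`, `row_m` : no `Sit` in these groups.
-/

set_option autoImplicit false

namespace Cfsg.Agent.H848.SpSixRows

open Cfsg Subgroup Cfsg.Agent.H336.SpSix Cfsg.Agent.Co2Type.Quad

/-! ### `Fi24'` -/

section Fi

open Cfsg.Spor
open Cfsg.Agent.CTwoTab.FiTF (z0 R0 R0_le R0_norm R0_card R0_cent z0_mem)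
open Cfsg.Agent.R08.FiTwentyFour (L finite_Fi24)

theorem large_fi : Large R0 z0 where
  z_mem := z0_mem
  z_ne h := KFacts.FiTF.frame.z1 (congrArg Subtype.val h)
  z_sq := Subtype.ext KFacts.FiTF.frame.zz
  comm_z x hx := mem_centralizer_singleton_iff.1 (R0_le hx)
  conj_mem g hg x hx := R0_norm g (mem_centralizer_singleton_iff.2 hg) x hx
  sq x hx := by
    rcases KFacts.FiTF.frame.sq x (mem_subgroupOf.1 hx) with h | h
    · exact Or.inl (Subtype.ext h)
    · exact Or.inr (Subtype.ext h)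
  comm x hx y hy := by
    rcases (KFacts.FiTF.Abs.large KFacts.FiTF.frame).comm x (mem_subgroupOf.1 hx) y (mem_subgroupOf.1 hy) with h | h
    · exact Or.inl (Subtype.ext h)
    · exact Or.inr (Subtype.ext h)
  cent x _ hc := R0_cent x hc
  self g _ hc := by
    rcases R0_cent g hc with rfl | rfl
    · exact R0.one_mem
    · exact z0_mem

theorem card_fi : Nat.card Spor.Fi24' = 1255205709190661721292800 := R08.FiTwentyFour.card_commutator

theorem row_fi24 {K : Type*} [Group K] (hK : Spor.IsoFi24' K) {th : V → K} {O K0 : Subgroup K} (h : Sit th O K0) :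
    False := by
  obtain ⟨e⟩ := hK
  have : Finite Spor.Fi24' := Nat.finite_of_card_ne_zero (by rw [card_fi]; norm_num)
  refine SpSixLarge.false_of_card (h.equiv e) large_fi (le_of_eq R0_card.symm) ?_
  rw [card_fi]
  norm_num

end Fi

/-! ### `M` -/

theorem row_m {K : Type*} [Group K] (hK : Spor.IsoM K) {th : V → K} {O K0 : Subgroup K} (h : Sit th O K0) :
    False := by
  obtain ⟨e⟩ := hK
  have := MonsterSetup.finite
  obtain ⟨Q, z, eta, pi, c⟩ := MonsterSetup.exists_chart
  have hc : Nat.card Q = 2 ^ 25 := c.card_Q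
  exact SpSixLarge.false_of_large (h.equiv e) c.large (by rw [hc]; norm_num) (by rw [hc]; norm_num)

/-! ### `B` -/

section Baby

open Cfsg.Agent.BabyM Cfsg.Agent.BabyM.Model Cfsg.Agent.BabyU.ClosModel
open Cfsg.Agent.BabyU.ClosLane Cfsg.Agent.KFacts

theorem card_baby : Nat.card (PP Inst.M) = 2 ^ 23 := by
  rw [← A.grp.Q_card]
  exact Nat.card_congr (Subgroup.subgroupOfEquivOfLe (A.grp.Q_le.trans A.C_le_G)).toEquiv

theorem row_b {K : Type*} [Group K] (hK : Spor.IsoB K) {th : V → K} {O K0 : Subgroup K} (h : Sit th O K0) :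
    False := by
  obtain ⟨e⟩ := hK
  have := A.finite_G
  exact SpSixLarge.false_of_large (h.equiv (e.trans BM.KHAll.iso)) (Baby.Inst.large A) (by rw [card_baby]; norm_num)
    (by rw [card_baby]; norm_num)

end Baby

end Cfsg.Agent.H848.SpSixRows
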