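import Cfsg.Agent.H848.NoEM
import Cfsg.Agent.H196.T5.MSeven
import Cfsg.Agent.H301.SY.Tv

/-!
# S3846: the row of the Monster (helper848, with the primes 5, 7, 13 of helper847, helper961, helper196, helper301)
-/

set_option autoImplicit false

namespace Cfsg.Agent.H848.NoEM

open Cfsg Subgroup Cfsg.Agent.H301.SY Cfsg.Agent.H459.Rad
open Cfsg.Agent.BpSpor.MBigModel (MG card_M finite simple)

theorem na_MG : ¬ IsMulCommutative MG := by
  have := simple
  exact H51.SY.not_comm_of_card (by rw [card_M]; norm_num)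

theorem noE_five : NoE 5 MG := by
  have hfin := finite
  have hs := simple
  exact fun x hx hR _ => Cfsg.Agent.H196.T5.M.noR_five x hx (RC.of_re hR)

theorem noE_seven : NoE 7 MG := by
  have hfin := finite
  have hs := simple
  have hp : Fact (Nat.Prime 7) := ⟨by norm_num⟩
  exact NoE.of_noT na_MG (by norm_num) Cfsg.Agent.H196.T5.M.noT_seven

theorem noE_thirteen : NoE 13 MG := by
  have hfin := finite
  have hs := simple
  have hp : Fact (Nat.Prime 13) := ⟨by norm_num⟩
  exact NoE.of_noT na_MG (by norm_num) Cfsg.Agent.H196.T5.M.noT_thirteen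

/-- **The Monster.** -/
theorem noE_m {K : Type*} [Group K] [Finite K] [IsSimpleGroup K] (h : Cfsg.Spor.IsoM K) {p : ℕ} [hp : Fact p.Prime]
    (hp5 : 5 ≤ p) (hb : Cfsg.Agent.H301.SY.Blk p K) (hO : Cfsg.Agent.H301.SY.ThO p K) : Cfsg.Agent.H301.SY.NoE p K := by
  have hfin := finite
  have φ : Nonempty (K ≃* MG) := by
    obtain ⟨f⟩ := h
    obtain ⟨e⟩ := MonsterP.Equiv.equiv
    exact ⟨f.trans e⟩
  obtain ⟨φ⟩ := φ
  by_cases h5 : p = 5
  · subst h5
    exact NoE.congr φ noE_five
  by_cases h7 : p = 7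
  · subst h7
    exact NoE.congr φ noE_seven
  by_cases h13 : p = 13
  · subst h13
    exact NoE.congr φ noE_thirteen
  exact noE_m_of h hp5 h5 h7 h13 hb hO

end Cfsg.Agent.H848.NoEM
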