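import Cfsg.Agent.H848.ProdQuot
import Cfsg.Agent.MonsterU.AmalInf
import Cfsg.Agent.MonsterU.AmalPerf
import Cfsg.Agent.MonsterU.CoFrameF

/-!
# The normaliser of the four group `⟨z, y⟩` in a group with a chart

`h : Chart Q z eta pi`, `y ∈ Q` over the frame class, `τ` permutes `z, y, z y` cyclically.  The normaliser `N` of
`V = ⟨z, y⟩` has `O_2(N)` of order `2 ^ 35` with centre `V` and `N / O_2(N) ≃ M24 × S3`.
-/

set_option autoImplicit false
set_option linter.unusedSectionVars false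

open Cfsg

namespace Cfsg.Agent.H848.NormFour

open Cfsg.Agent.SporadicA
open Cfsg.Agent.SporadicA.Co1Simple
open Cfsg.Agent.CoOneType.CoOneE (pr E)
open Cfsg.Agent.MonsterU.Lam2 (L2 cl cl_surjective bf qf add_self neg_eq)
open Cfsg.Agent.MonsterU.CoFrameL2
open Cfsg.Agent.MonsterU.CoFrameIrr
open Cfsg.Agent.MonsterU.AmalSide (cent2 four mem_cent2)
open Cfsg.Agent.MonsterU.AmalGen (pre mem_pre pre_W1 comm_y)
open Cfsg.Agent.MonsterU.AmalInf (AA CA mem_AA mem_CA)
open Cfsg.Agent.MonsterU.Ch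
open Cfsg.Agent.MonsterU.CoFrameF (toM24 toM24_surjective toM24_eq_one_iff)
open Cfsg.Agent.H848.ProdQuot
open Cfsg.Spor (Co1)

variable {G : Type*} [Group G] {Q : Subgroup G} {z : G} {eta : G → L2}
  {pi : Subgroup.centralizer ({z} : Set G) →* Co1}

/-- the order of the inverse image in `Q` of a subgroup of `Λ/2Λ` -/
theorem card_pre (h : Chart Q z eta pi) (W : AddSubgroup L2) :
    Nat.card (pre h W) = 2 * Nat.card W := by
  let f : pre h W →* Multiplicative W :=
    { toFun q := Multiplicative.ofAdd ⟨eta q, q.2.2⟩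
      map_one' := by
        apply Multiplicative.toAdd.injective
        exact Subtype.ext h.eta_one
      map_mul' a b := by
        apply Multiplicative.toAdd.injective
        exact Subtype.ext (h.eta_mul a a.2.1 b b.2.1) }
  have hf : Function.Surjective f := by
    intro w
    obtain ⟨q, hq, hqw⟩ := h.eta_surj ((Multiplicative.toAdd w : W) : L2)
    refine ⟨⟨q, hq, by rw [hqw]; exact (Multiplicative.toAdd w).2⟩, ?_⟩
    apply Multiplicative.toAdd.injective
    exact Subtype.ext hqw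
  have hz : z ∈ pre h W := Cfsg.Agent.MonsterU.AmalGen.z_mem_pre h W
  have hker : (f.ker : Set (pre h W)) = {1, ⟨z, hz⟩} := by
    ext q
    rw [SetLike.mem_coe, MonoidHom.mem_ker]
    have h1 : f q = 1 ↔ eta q = 0 := by
      constructor
      · intro h2
        exact congrArg (fun w => ((Multiplicative.toAdd w : W) : L2)) h2
      · intro h2
        apply Multiplicative.toAdd.injective
        exact Subtype.ext h2
    rw [h1, h.eta_zero q q.2.1]
    constructor
    · rintro (h2 | h2)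
      · left; exact Subtype.ext h2
      · right; exact Subtype.ext h2
    · rintro (h2 | h2)
      · left; rw [h2]; rfl
      · right; rw [h2]
  have hcard : Nat.card f.ker = 2 := by
    have h2 : (f.ker : Set (pre h W)).ncard = 2 := by
      rw [hker, Set.ncard_pair]
      intro h3
      exact h.large.z_ne (congrArg Subtype.val h3).symm
    exact h2
  have h3 := f.ker.card_mul_index
  rw [hcard, Subgroup.index_ker, MonoidHom.range_eq_top.2 hf, Subgroup.card_top] at h3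
  exact h3.symm

section

variable (h : Chart Q z eta pi) {y : G} (hyQ : y ∈ Q) (hy : eta y = f0) {τ : G}
  (τz : τ * z * τ⁻¹ = y) (τy : τ * y * τ⁻¹ = z * y)

/-- the normaliser of the four group -/
abbrev NN (z y : G) : Subgroup G := Subgroup.normalizer (four z y : Set G)

/-- the centraliser of the four group in the normaliser -/
abbrev BB (z y : G) : Subgroup (NN z y) := (cent2 z y).subgroupOf (NN z y)

section

include h hyQ hy

theorem mem_four {v : G} : v ∈ four z y ↔ v = 1 ∨ v = z ∨ v = y ∨ v = z * y :=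
  Cfsg.Agent.MonsterU.AmalPerf.mem_four h hyQ hy

/-- the three involutions -/
def P (z y : G) : Fin 3 → G := ![z, y, z * y]

theorem P_inj : Function.Injective (P z y) := by
  have h1 := Cfsg.Agent.MonsterU.AmalPerf.y_ne_z h hy
  have h2 := Cfsg.Agent.MonsterU.AmalPerf.y_ne h hyQ hy
  have h3 := h.large.z_ne
  have e1 : z ≠ z * y := fun e => h2 (left_eq_mul.1 e)
  have e2 : y ≠ z * y := fun e => h3 (right_eq_mul.1 e)
  intro i j hij
  fin_cases i <;> fin_cases j <;> simp_all [P]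

theorem zy_ne : z * y ≠ 1 := by
  intro e
  apply Cfsg.Agent.MonsterU.AmalPerf.y_ne_z h hy
  have h2 := h.large.z_sq
  calc y = z * z * y := by rw [h2, one_mul]
    _ = z * (z * y) := by group
    _ = z := by rw [e, mul_one]

theorem P_mem (i : Fin 3) : P z y i ∈ four z y := by
  rw [mem_four h hyQ hy]
  fin_cases i
  · right; left; rfl
  · right; right; left; rfl
  · right; right; right; rfl

theorem P_ne (i : Fin 3) : P z y i ≠ 1 := by
  fin_cases i
  · exact h.large.z_ne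
  · exact Cfsg.Agent.MonsterU.AmalPerf.y_ne h hyQ hy
  · exact zy_ne h hyQ hy

theorem exists_P {v : G} (hv : v ∈ four z y) (h1 : v ≠ 1) : ∃ i, P z y i = v := by
  rcases (mem_four h hyQ hy).1 hv with rfl | rfl | rfl | rfl
  · exact absurd rfl h1
  · exact ⟨0, rfl⟩
  · exact ⟨1, rfl⟩
  · exact ⟨2, rfl⟩

theorem conj_mem_four {n : G} (hn : n ∈ NN z y) {v : G} (hv : v ∈ four z y) :
    n * v * n⁻¹ ∈ four z y := (Subgroup.mem_normalizer_iff.1 hn v).1 hv

theorem finite_four : Finite (four z y : Set G) := by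
  have h1 : (four z y : Set G) = {1, z, y, z * y} := by
    ext v
    rw [SetLike.mem_coe, mem_four h hyQ hy]
    rfl
  rw [h1]
  exact Set.Finite.to_subtype (by simp)

theorem mem_NN_of {n : G} (hn : ∀ i, n * P z y i * n⁻¹ ∈ four z y) : n ∈ NN z y := by
  have := finite_four h hyQ hy
  refine Subgroup.mem_normalizer_fintype fun v hv => ?_
  by_cases h1 : v = 1
  · rw [h1, mul_one, mul_inv_cancel]
    exact Subgroup.one_mem _
  · obtain ⟨i, rfl⟩ := exists_P h hyQ hy hv h1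
    exact hn i

theorem exists_beta : ∃ β : NN z y →* Equiv.Perm (Fin 3),
    ∀ (n : NN z y) (i : Fin 3), P z y (β n i) = (n : G) * P z y i * (n : G)⁻¹ := by
  have h1 : ∀ (n : NN z y) (i : Fin 3), ∃ j, P z y j = (n : G) * P z y i * (n : G)⁻¹ := by
    intro n i
    apply exists_P h hyQ hy (conj_mem_four h hyQ hy n.2 (P_mem h hyQ hy i))
    intro e
    apply P_ne h hyQ hy i
    calc P z y i = (n : G)⁻¹ * ((n : G) * P z y i * (n : G)⁻¹) * n := by group
      _ = 1 := by rw [e]; group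
  choose s hs using h1
  have hinj : ∀ n, Function.Injective (s n) := by
    intro n i j hij
    have h2 := hs n i
    rw [hij, hs n j] at h2
    exact P_inj h hyQ hy (mul_left_cancel (mul_right_cancel h2)).symm
  let b : NN z y → Equiv.Perm (Fin 3) := fun n =>
    Equiv.ofBijective (s n) (Finite.injective_iff_bijective.1 (hinj n))
  have hb : ∀ n i, P z y (b n i) = (n : G) * P z y i * (n : G)⁻¹ := hs
  refine ⟨MonoidHom.mk' b fun n m => ?_, hb⟩
  apply Equiv.ext
  intro i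
  apply P_inj h hyQ hy
  rw [hb, Equiv.Perm.mul_apply, hb, hb]
  show ((n : G) * m) * P z y i * ((n : G) * m)⁻¹ = _
  group

theorem cent2_of_fix {n : G} (h1 : n * z * n⁻¹ = z) (h2 : n * y * n⁻¹ = y) : n ∈ cent2 z y :=
  mem_cent2.2 ⟨mul_inv_eq_iff_eq_mul.1 h1, mul_inv_eq_iff_eq_mul.1 h2⟩

theorem cent2_le : cent2 z y ≤ NN z y := by
  intro n hn
  obtain ⟨h1, h2⟩ := mem_cent2.1 hn
  apply mem_NN_of h hyQ hy
  have h3 : n * z * n⁻¹ = z := by rw [h1]; group
  have h4 : n * y * n⁻¹ = y := by rw [h2]; group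
  have h5 : n * (z * y) * n⁻¹ = z * y := by
    have e : n * (z * y) * n⁻¹ = (n * z * n⁻¹) * (n * y * n⁻¹) := by group
    rw [e, h3, h4]
  intro i
  have h6 := P_mem h hyQ hy i
  fin_cases i
  · show n * z * n⁻¹ ∈ _
    rw [h3]; exact h6
  · show n * y * n⁻¹ ∈ _
    rw [h4]; exact h6
  · show n * (z * y) * n⁻¹ ∈ _
    rw [h5]; exact h6

theorem ker_beta (β : NN z y →* Equiv.Perm (Fin 3))
    (hβ : ∀ (n : NN z y) (i : Fin 3), P z y (β n i) = (n : G) * P z y i * (n : G)⁻¹) :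
    β.ker = BB z y := by
  ext n
  rw [MonoidHom.mem_ker, Subgroup.mem_subgroupOf]
  constructor
  · intro h1
    have h2 := hβ n 0
    have h3 := hβ n 1
    rw [h1] at h2 h3
    exact cent2_of_fix h hyQ hy h2.symm h3.symm
  · intro h1
    obtain ⟨h2, h3⟩ := mem_cent2.1 h1
    have h4 : (n : G) * z * (n : G)⁻¹ = z := by rw [h2]; group
    have h5 : (n : G) * y * (n : G)⁻¹ = y := by rw [h3]; group
    have h6 : (n : G) * (z * y) * (n : G)⁻¹ = z * y := by
      have e : (n : G) * (z * y) * (n : G)⁻¹ = ((n : G) * z * (n : G)⁻¹) * ((n : G) * y * (n : G)⁻¹) := by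
        group
      rw [e, h4, h5]
    apply Equiv.ext
    intro i
    apply P_inj h hyQ hy
    rw [hβ]
    fin_cases i
    · exact h4
    · exact h5
    · exact h6

theorem BB_mem (b : BB z y) : ((b : NN z y) : G) * z = z * ((b : NN z y) : G) ∧
    ((b : NN z y) : G) * y = y * ((b : NN z y) : G) := mem_cent2.1 b.2

/-- an element of `BB` as an element of the centraliser of `z` -/
def toC : BB z y →* Subgroup.centralizer ({z} : Set G) where
  toFun b := ⟨((b : NN z y) : G), Subgroup.mem_centralizer_singleton_iff.2 (BB_mem h hyQ hy b).1⟩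
  map_one' := rfl
  map_mul' _ _ := rfl

theorem toC_mem_F (b : BB z y) : pi (toC h hyQ hy b) ∈ Cfsg.Agent.MonsterU.CoFrameL2.F :=
  Cfsg.Agent.MonsterU.AmalGen.pi_mem_F h hyQ hy _ (BB_mem h hyQ hy b).2

/-- the map of the centraliser of the four group onto `M24` -/
noncomputable def rho : BB z y →* M24 where
  toFun b := toM24 ⟨pi (toC h hyQ hy b), toC_mem_F h hyQ hy b⟩
  map_one' := by
    have h1 : pi (toC h hyQ hy 1) = 1 := by rw [map_one, map_one]
    have h2 : (⟨pi (toC h hyQ hy 1), toC_mem_F h hyQ hy 1⟩ : Cfsg.Agent.MonsterU.CoFrameF.F) = 1 :=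
      Subtype.ext h1
    rw [h2, map_one]
  map_mul' a b := by
    have h1 : pi (toC h hyQ hy (a * b)) = pi (toC h hyQ hy a) * pi (toC h hyQ hy b) := by
      rw [map_mul, map_mul]
    rw [← map_mul]
    congr 1
    exact Subtype.ext h1

theorem rho_eq_one (b : BB z y) : rho h hyQ hy b = 1 ↔ pi (toC h hyQ hy b) ∈ E := by
  show toM24 ⟨pi (toC h hyQ hy b), toC_mem_F h hyQ hy b⟩ = 1 ↔ _
  rw [toM24_eq_one_iff]

/-- an element of `cent2 z y` as an element of `BB` -/
def ofCent (c : G) (hc : c ∈ cent2 z y) : BB z y := ⟨⟨c, cent2_le h hyQ hy hc⟩, hc⟩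

theorem exists_BB {s : Co1} (hs : s ∈ Cfsg.Agent.MonsterU.CoFrameL2.F) : ∃ b : BB z y, pi (toC h hyQ hy b) = s := by
  obtain ⟨c, hc, hcy⟩ := Cfsg.Agent.MonsterU.AmalInf.exists_lift h hyQ hy hs
  have h1 : (c : G) ∈ cent2 z y := mem_cent2.2 ⟨Subgroup.mem_centralizer_singleton_iff.1 c.2, hcy⟩
  exact ⟨ofCent h hyQ hy c h1, hc⟩

theorem rho_surj : Function.Surjective (rho h hyQ hy) := by
  intro σ
  obtain ⟨f, hf⟩ := toM24_surjective σ
  obtain ⟨b, hb⟩ := exists_BB h hyQ hy f.2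
  refine ⟨b, ?_⟩
  show toM24 ⟨pi (toC h hyQ hy b), toC_mem_F h hyQ hy b⟩ = σ
  rw [← hf]
  congr 1
  exact Subtype.ext hb

/-- the kernel of `rho` as a subgroup of the normaliser -/
noncomputable def OO : Subgroup (NN z y) := (rho h hyQ hy).ker.map (BB z y).subtype

theorem mem_OO {n : NN z y} : n ∈ OO h hyQ hy ↔ ∃ hb : n ∈ BB z y, pi (toC h hyQ hy ⟨n, hb⟩) ∈ E := by
  rw [OO, Subgroup.mem_map]
  constructor
  · rintro ⟨b, hb, rfl⟩
    exact ⟨b.2, (rho_eq_one h hyQ hy b).1 hb⟩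
  · rintro ⟨hb, h1⟩
    exact ⟨⟨n, hb⟩, (rho_eq_one h hyQ hy _).2 h1, rfl⟩

/-- the order of the kernel -/
theorem card_ker : Nat.card (rho h hyQ hy).ker = 2 ^ 35 := by
  -- the map to `E`
  let f : (rho h hyQ hy).ker →* E :=
    { toFun b := ⟨pi (toC h hyQ hy b), (rho_eq_one h hyQ hy b).1 b.2⟩
      map_one' := Subtype.ext (by
        show pi (toC h hyQ hy 1) = 1
        rw [map_one, map_one])
      map_mul' a b := Subtype.ext (by
        show pi (toC h hyQ hy (a * b)) = pi (toC h hyQ hy a) * pi (toC h hyQ hy b)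
        rw [map_mul, map_mul]) }
  have hf : Function.Surjective f := by
    rintro ⟨s, hs⟩
    obtain ⟨b, hb⟩ := exists_BB h hyQ hy (Cfsg.Agent.MonsterU.CoFrameL2.E_le_F hs)
    refine ⟨⟨b, (rho_eq_one h hyQ hy b).2 (by rw [hb]; exact hs)⟩, Subtype.ext hb⟩
  have hfk : Nat.card f.ker = Nat.card (pre h W23) := by
    apply Nat.card_congr
    refine
      { toFun b := ⟨(((b : (rho h hyQ hy).ker) : BB z y) : NN z y), ?_⟩
        invFun q := ⟨⟨ofCent h hyQ hy q (mem_cent2.2 ⟨h.large.comm_z q q.2.1,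
          (comm_y h hyQ hy q.2.1).2 q.2.2⟩), ?_⟩, ?_⟩
        left_inv b := ?_
        right_inv q := ?_ }
    · have h1 : f b = 1 := b.2
      have h2 : pi (toC h hyQ hy (b : (rho h hyQ hy).ker)) = 1 := congrArg Subtype.val h1
      have h3 := (h.pi_eq_one _).1 h2
      exact ⟨h3, (comm_y h hyQ hy h3).1 (BB_mem h hyQ hy _).2⟩
    · rw [MonoidHom.mem_ker, rho_eq_one]
      have h3 : pi (toC h hyQ hy (ofCent h hyQ hy q (mem_cent2.2 ⟨h.large.comm_z q q.2.1,
          (comm_y h hyQ hy q.2.1).2 q.2.2⟩))) = 1 := (h.pi_eq_one _).2 q.2.1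
      rw [h3]
      exact E.one_mem
    · rw [MonoidHom.mem_ker]
      apply Subtype.ext
      exact (h.pi_eq_one _).2 q.2.1
    · rfl
    · rfl
  have h3 := f.ker.card_mul_index
  rw [hfk, card_pre, card_W23, Subgroup.index_ker, MonoidHom.range_eq_top.2 hf, Subgroup.card_top,
    card_E] at h3
  rw [← h3]
  norm_num

theorem card_OO : Nat.card (OO h hyQ hy) = 2 ^ 35 := by
  rw [← card_ker h hyQ hy]
  exact Nat.card_congr ((rho h hyQ hy).ker.equivMapOfInjective _
    (Subgroup.subtype_injective _)).toEquiv.symm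

theorem BB_normal : (BB z y).Normal := by
  obtain ⟨β, hβ⟩ := exists_beta h hyQ hy
  rw [← ker_beta h hyQ hy β hβ]
  infer_instance

/-- the centre of the kernel -/
theorem center_OO : (Subgroup.center (OO h hyQ hy)).map (OO h hyQ hy).subtype =
    (four z y).subgroupOf (NN z y) := by
  ext n
  rw [Subgroup.mem_subgroupOf, Subgroup.mem_map]
  constructor
  · rintro ⟨⟨o, ho⟩, hc, rfl⟩
    show (o : G) ∈ four z y
    obtain ⟨hb, hE⟩ := (mem_OO h hyQ hy).1 ho
    obtain ⟨hz, hy'⟩ := mem_cent2.1 hb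
    -- `o` commutes with `pre h W23`
    have h1 : ∀ q ∈ pre h W23, (o : G) * q = q * (o : G) := by
      intro q hq
      have hq2 : q ∈ cent2 z y := mem_cent2.2 ⟨h.large.comm_z q hq.1, (comm_y h hyQ hy hq.1).2 hq.2⟩
      have hq3 : (⟨q, cent2_le h hyQ hy hq2⟩ : NN z y) ∈ OO h hyQ hy := by
        rw [mem_OO]
        refine ⟨hq2, ?_⟩
        have h3 : pi (toC h hyQ hy ⟨⟨q, cent2_le h hyQ hy hq2⟩, hq2⟩) = 1 := (h.pi_eq_one _).2 hq.1
        rw [h3]
        exact E.one_mem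
      have h4 := Subgroup.mem_center_iff.1 hc ⟨_, hq3⟩
      exact (congrArg (fun t : OO h hyQ hy => ((t : NN z y) : G)) h4).symm
    have h2 : pi (toC h hyQ hy ⟨o, hb⟩) = 1 := by
      apply E_eq_one_of_W23 hE
      intro x hx
      obtain ⟨q, hq, rfl⟩ := h.eta_surj x
      rw [← h.eta_conj _ q hq]
      have h3 : ((toC h hyQ hy ⟨o, hb⟩ : Subgroup.centralizer ({z} : Set G)) : G) * q *
          ((toC h hyQ hy ⟨o, hb⟩ : Subgroup.centralizer ({z} : Set G)) : G)⁻¹ = q := by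
        show (o : G) * q * (o : G)⁻¹ = q
        rw [h1 q ⟨hq, hx⟩]; group
      rw [h3, sub_self]
      exact W1.zero_mem
    have h3 : (o : G) ∈ Q := (h.pi_eq_one _).1 h2
    rw [← pre_W1 h hyQ hy]
    refine ⟨h3, Cfsg.Agent.MonsterU.AmalPerf.mem_W1_of_bf fun x hx => ?_⟩
    obtain ⟨q, hq, rfl⟩ := h.eta_surj x
    rw [← h.comm_iff h3 hq]
    exact h1 q ⟨hq, hx⟩
  · intro hn
    have hcomm : ∀ b ∈ cent2 z y, b * (n : G) = (n : G) * b := by
      intro b hb
      obtain ⟨h1, h2⟩ := mem_cent2.1 hb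
      rcases (mem_four h hyQ hy).1 hn with e | e | e | e
      · rw [e]; group
      · rw [e]; exact h1
      · rw [e]; exact h2
      · rw [e, ← mul_assoc, h1, mul_assoc, h2, mul_assoc]
    have hnQ : (n : G) ∈ Q := by
      rw [← pre_W1 h hyQ hy] at hn
      exact hn.1
    have hnB : (n : G) ∈ cent2 z y := by
      have hyB : y ∈ cent2 z y := mem_cent2.2 ⟨h.large.comm_z y hyQ, rfl⟩
      exact mem_cent2.2 ⟨h.large.comm_z _ hnQ, (hcomm y hyB).symm⟩
    have hnO : n ∈ OO h hyQ hy := by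
      rw [mem_OO]
      refine ⟨hnB, ?_⟩
      have h3 : pi (toC h hyQ hy ⟨n, hnB⟩) = 1 := (h.pi_eq_one _).2 hnQ
      rw [h3]
      exact E.one_mem
    refine ⟨⟨n, hnO⟩, ?_, rfl⟩
    rw [Subgroup.mem_center_iff]
    rintro ⟨o, ho⟩
    obtain ⟨hb, -⟩ := (mem_OO h hyQ hy).1 ho
    apply Subtype.ext
    apply Subtype.ext
    exact hcomm _ hb

end

section

include h hyQ hy

theorem acts_Q (hB : (BB z y).Normal) {q : G} (hq : q ∈ Q) (hqN : q ∈ NN z y) :
    Acts (BB z y) hB (rho h hyQ hy) ⟨q, hqN⟩ 1 := by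
  intro x hx
  rw [one_mul, inv_one, mul_one]
  have h1 : rho h hyQ hy (⟨⟨q, hqN⟩ * x * ⟨q, hqN⟩⁻¹, hB.conj_mem x hx _⟩ * ⟨x, hx⟩⁻¹) = 1 := by
    rw [rho_eq_one]
    have h2 : pi (toC h hyQ hy (⟨⟨q, hqN⟩ * x * ⟨q, hqN⟩⁻¹, hB.conj_mem x hx _⟩ * ⟨x, hx⟩⁻¹)) = 1 := by
      rw [h.pi_eq_one]
      show q * (x : G) * q⁻¹ * (x : G)⁻¹ ∈ Q
      have h3 := h.large.conj_mem _ (mem_cent2.1 hx).1 _ (Q.inv_mem hq)
      have e : q * (x : G) * q⁻¹ * (x : G)⁻¹ = q * ((x : G) * q⁻¹ * (x : G)⁻¹) := by group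
      rw [e]
      exact Q.mul_mem hq h3
    rw [h2]
    exact E.one_mem
  rw [map_mul, map_inv, mul_inv_eq_one] at h1
  exact h1

include τz τy in
theorem acts_AA (hB : (BB z y).Normal) {q : G} (hq : q ∈ AA Q τ) (hqN : q ∈ NN z y) :
    Acts (BB z y) hB (rho h hyQ hy) ⟨q, hqN⟩ 1 := by
  intro x hx
  rw [one_mul, inv_one, mul_one]
  have h1 : rho h hyQ hy (⟨⟨q, hqN⟩ * x * ⟨q, hqN⟩⁻¹, hB.conj_mem x hx _⟩ * ⟨x, hx⟩⁻¹) = 1 := by
    rw [rho_eq_one]
    have h4 := (mem_cent2.1 (hB.conj_mem x hx ⟨q, hqN⟩)).1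
    have h5 := (mem_cent2.1 (Subgroup.inv_mem _ hx)).1
    have h3 := Cfsg.Agent.MonsterU.AmalInf.conj_AA h hyQ hy τz τy (mem_cent2.1 hx).2 (Subgroup.inv_mem _ hq)
    have e : q * (x : G) * q⁻¹ * (x : G)⁻¹ = q * ((x : G) * q⁻¹ * (x : G)⁻¹) := by group
    have h6 : q * (x : G) * q⁻¹ * (x : G)⁻¹ ∈ CA Q z τ := by
      refine ⟨?_, ?_⟩
      · rw [e]
        exact Subgroup.mul_mem _ hq h3
      · exact Subgroup.mul_mem _ (Subgroup.mem_centralizer_singleton_iff.2 h4)
          (Subgroup.mem_centralizer_singleton_iff.2 h5)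
    exact Cfsg.Agent.MonsterU.AmalInf.pi_CA_mem_E h hyQ hy τz τy h6 h6.2
  rw [map_mul, map_inv, mul_inv_eq_one] at h1
  exact h1

include τz τy in
/-- the symmetric group is induced by elements acting trivially on `M24` -/
theorem exists_word (hB : (BB z y).Normal) (β : NN z y →* Equiv.Perm (Fin 3))
    (hβ : ∀ (n : NN z y) (i : Fin 3), P z y (β n i) = (n : G) * P z y i * (n : G)⁻¹)
    (σ : Equiv.Perm (Fin 3)) : ∃ n : NN z y, β n = σ ∧ Acts (BB z y) hB (rho h hyQ hy) n 1 := by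
  obtain ⟨q, hq, hqy⟩ := Cfsg.Agent.MonsterU.AmalPerf.exists_not_comm h hyQ hy
  have hzy := Cfsg.Agent.MonsterU.AmalPerf.zy h hyQ
  have z_sq := h.large.z_sq
  have hqz := h.large.comm_z q hq
  have a0 : q * z * q⁻¹ = z := by rw [hqz]; group
  have a1 : q * y * q⁻¹ = z * y := by
    rw [hqy, hzy]
    calc y * q * z * q⁻¹ = y * (q * z * q⁻¹) := by group
      _ = y * z := by rw [a0]
  have a2 : q * (z * y) * q⁻¹ = y := by
    have e : q * (z * y) * q⁻¹ = (q * z * q⁻¹) * (q * y * q⁻¹) := by group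
    rw [e, a0, a1, ← mul_assoc, z_sq, one_mul]
  have hm := fun i => P_mem h hyQ hy i
  have hqN : q ∈ NN z y := by
    apply mem_NN_of h hyQ hy
    intro i
    fin_cases i
    · show q * z * q⁻¹ ∈ _
      rw [a0]; exact hm 0
    · show q * y * q⁻¹ ∈ _
      rw [a1]; exact hm 2
    · show q * (z * y) * q⁻¹ ∈ _
      rw [a2]; exact hm 1
  -- the conjugate
  have t1 := Cfsg.Agent.MonsterU.AmalInf.τz' h hyQ hy τz τy
  have t2 := Cfsg.Agent.MonsterU.AmalInf.τy' h hyQ hy τz τy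
  have t3 := Cfsg.Agent.MonsterU.AmalInf.τzy' h hyQ hy τz τy
  have t4 := Cfsg.Agent.MonsterU.AmalInf.τzy h hyQ hy τz τy
  set r := τ * q * τ⁻¹ with hr
  have hrA : r ∈ AA Q τ := by
    rw [mem_AA, hr]
    have : τ⁻¹ * (τ * q * τ⁻¹) * τ = q := by group
    rw [this]; exact hq
  have hre : ∀ v : G, r * v * r⁻¹ = τ * (q * (τ⁻¹ * v * τ) * q⁻¹) * τ⁻¹ := by
    intro v; rw [hr]; group
  have b0 : r * z * r⁻¹ = z * y := by rw [hre, t1, a2, τy]
  have b1 : r * y * r⁻¹ = y := by rw [hre, t2, a0, τz]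
  have b2 : r * (z * y) * r⁻¹ = z := by rw [hre, t3, a1, t4]
  have hrN : r ∈ NN z y := by
    apply mem_NN_of h hyQ hy
    intro i
    fin_cases i
    · show r * z * r⁻¹ ∈ _
      rw [b0]; exact hm 2
    · show r * y * r⁻¹ ∈ _
      rw [b1]; exact hm 1
    · show r * (z * y) * r⁻¹ ∈ _
      rw [b2]; exact hm 0
  have A1 := acts_Q h hyQ hy hB hq hqN
  have A2 := acts_AA h hyQ hy τz τy hB hrA hrN
  set q' : NN z y := ⟨q, hqN⟩ with hq'
  set r' : NN z y := ⟨r, hrN⟩ with hr'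
  have B1 : β q' = Equiv.swap 1 2 := by
    apply Equiv.ext
    intro i
    apply P_inj h hyQ hy
    rw [hβ]
    fin_cases i
    · exact a0
    · exact a1
    · exact a2
  have B2 : β r' = Equiv.swap 0 2 := by
    apply Equiv.ext
    intro i
    apply P_inj h hyQ hy
    rw [hβ]
    fin_cases i
    · exact b0
    · exact b1
    · exact b2
  have hσ : ∀ σ : Equiv.Perm (Fin 3), σ = 1 ∨ σ = Equiv.swap 1 2 ∨ σ = Equiv.swap 0 2 ∨
      σ = Equiv.swap 1 2 * Equiv.swap 0 2 ∨ σ = Equiv.swap 0 2 * Equiv.swap 1 2 ∨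
      σ = Equiv.swap 1 2 * Equiv.swap 0 2 * Equiv.swap 1 2 := by decide
  have A0 : Acts (BB z y) hB (rho h hyQ hy) 1 1 := by
    have := acts_self (hB := hB) (ρ := rho h hyQ hy) (1 : BB z y)
    rwa [map_one] at this
  have M : ∀ {m n : NN z y}, Acts (BB z y) hB (rho h hyQ hy) m 1 →
      Acts (BB z y) hB (rho h hyQ hy) n 1 → Acts (BB z y) hB (rho h hyQ hy) (m * n) 1 := by
    intro m n h1 h2
    have := h1.mul h2
    rwa [one_mul] at this
  rcases hσ σ with rfl | rfl | rfl | rfl | rfl | rfl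
  · exact ⟨1, map_one β, A0⟩
  · exact ⟨q', B1, A1⟩
  · exact ⟨r', B2, A2⟩
  · exact ⟨q' * r', by rw [map_mul, B1, B2], M A1 A2⟩
  · exact ⟨r' * q', by rw [map_mul, B1, B2], M A2 A1⟩
  · exact ⟨q' * r' * q', by rw [map_mul, map_mul, B1, B2], M (M A1 A2) A1⟩

omit h hyQ hy in
theorem M24_center (m : M24) (hm : ∀ x : M24, m * x = x * m) : m = 1 := by
  have h1 : m ∈ Subgroup.center M24 := by
    rw [Subgroup.mem_center_iff]
    intro x
    exact (hm x).symm
  have : IsSimpleGroup M24 := Cfsg.Agent.S0365.result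
  rcases Cfsg.Agent.S0365.result.eq_bot_or_eq_top_of_normal (Subgroup.center M24) inferInstance with e | e
  · rw [e, Subgroup.mem_bot] at h1
    exact h1
  · exfalso
    have hcomm : ∀ a b : M24, a * b = b * a := by
      intro a b
      have h2 : b ∈ Subgroup.center M24 := by rw [e]; exact Subgroup.mem_top b
      exact Subgroup.mem_center_iff.1 h2 a
    let _ : CommGroup M24 := { (inferInstance : Group M24) with mul_comm := hcomm }
    have h2 : (Nat.card M24).Prime := IsSimpleGroup.prime_card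
    rw [Cfsg.Agent.S0364.result] at h2
    exact absurd h2 (by norm_num)

set_option maxRecDepth 10000 in
omit h hyQ hy in
/-- a normal 2-subgroup of `M24 × S3` is trivial -/
theorem core_trivial (K : Subgroup (M24 × Equiv.Perm (Fin 3))) (hK : K.Normal) (h2 : IsPGroup 2 K) :
    K = ⊥ := by
  have h3 : K.map (MonoidHom.fst _ _) = ⊥ := by
    have hn : (K.map (MonoidHom.fst M24 (Equiv.Perm (Fin 3)))).Normal :=
      hK.map _ Prod.fst_surjective
    have hp : IsPGroup 2 (K.map (MonoidHom.fst M24 (Equiv.Perm (Fin 3)))) := h2.map _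
    rcases Cfsg.Agent.S0365.result.eq_bot_or_eq_top_of_normal _ hn with e | e
    · exact e
    · exfalso
      rw [e] at hp
      obtain ⟨n, hn⟩ := IsPGroup.iff_card.1 hp
      rw [Subgroup.card_top, Cfsg.Agent.S0364.result] at hn
      have h5 : 23 ∣ 2 ^ n := by rw [← hn]; norm_num
      have h6 := (by norm_num : Nat.Prime 23).dvd_of_dvd_pow h5
      exact absurd h6 (by norm_num)
  have h4 : K.map (MonoidHom.snd _ _) = ⊥ := by
    have hn : (K.map (MonoidHom.snd M24 (Equiv.Perm (Fin 3)))).Normal :=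
      hK.map _ Prod.snd_surjective
    have hp : IsPGroup 2 (K.map (MonoidHom.snd M24 (Equiv.Perm (Fin 3)))) := h2.map _
    generalize K.map (MonoidHom.snd M24 (Equiv.Perm (Fin 3))) = L at hn hp ⊢
    -- an element of `L` has order a power of two; the conjugates generate a 3-cycle
    rw [eq_bot_iff]
    intro σ hσ
    rw [Subgroup.mem_bot]
    by_contra h1
    have h5 : ∃ τ : Equiv.Perm (Fin 3), (σ * (τ * σ * τ⁻¹)) ^ 3 = 1 ∧ σ * (τ * σ * τ⁻¹) ≠ 1 := by
      revert h1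
      revert σ
      have : ∀ σ : Equiv.Perm (Fin 3), ¬ σ = 1 →
        ∃ τ : Equiv.Perm (Fin 3), (σ * (τ * σ * τ⁻¹)) ^ 3 = 1 ∧ σ * (τ * σ * τ⁻¹) ≠ 1 := by decide
      exact fun σ _ => this σ
    obtain ⟨τ, h6, h7⟩ := h5
    have h8 : σ * (τ * σ * τ⁻¹) ∈ L := L.mul_mem hσ (hn.conj_mem _ hσ _)
    obtain ⟨k, hk⟩ := hp ⟨_, h8⟩
    have h9 : (σ * (τ * σ * τ⁻¹)) ^ 2 ^ k = 1 := congrArg Subtype.val hk
    have h10 : orderOf (σ * (τ * σ * τ⁻¹)) ∣ 2 ^ k := orderOf_dvd_of_pow_eq_one h9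
    have h11 : orderOf (σ * (τ * σ * τ⁻¹)) ∣ 3 := orderOf_dvd_of_pow_eq_one h6
    have h12 : Nat.Coprime 3 (2 ^ k) := Nat.Coprime.pow_right k (by norm_num)
    have h13 := Nat.eq_one_of_dvd_coprimes h12 h11 h10
    exact h7 (orderOf_eq_one_iff.1 h13)
  rw [eq_bot_iff]
  rintro ⟨a, b⟩ hab
  have h5 : a ∈ K.map (MonoidHom.fst M24 (Equiv.Perm (Fin 3))) := ⟨(a, b), hab, rfl⟩
  have h6 : b ∈ K.map (MonoidHom.snd M24 (Equiv.Perm (Fin 3))) := ⟨(a, b), hab, rfl⟩
  rw [h3, Subgroup.mem_bot] at h5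
  rw [h4, Subgroup.mem_bot] at h6
  rw [Subgroup.mem_bot, h5, h6]
  rfl

theorem klein : IsKleinFour (four z y) := by
  have h1 : Nat.card (four z y) = 4 := by
    have h2 := card_pre h W1
    rw [pre_W1 h hyQ hy, card_W1] at h2
    exact h2
  refine ⟨h1, ?_⟩
  have z_sq := h.large.z_sq
  have y_sq := Cfsg.Agent.MonsterU.AmalPerf.y_sq h hyQ hy
  have hzy := Cfsg.Agent.MonsterU.AmalPerf.zy h hyQ
  have h2 : ∀ v : four z y, v ^ 2 = 1 := by
    rintro ⟨v, hv⟩
    apply Subtype.ext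
    show v ^ 2 = 1
    rw [pow_two]
    rcases (mem_four h hyQ hy).1 hv with rfl | rfl | rfl | rfl
    · exact one_mul _
    · exact z_sq
    · exact y_sq
    · calc z * y * (z * y) = z * (y * z) * y := by group
        _ = z * (z * y) * y := by rw [hzy]
        _ = (z * z) * (y * y) := by group
        _ = 1 := by rw [z_sq, y_sq, one_mul]
  have h3 : Monoid.exponent (four z y) ∣ 2 := Monoid.exponent_dvd_of_forall_pow_eq_one h2
  rcases (Nat.dvd_prime Nat.prime_two).1 h3 with e | e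
  · exfalso
    have h4 : z ∈ four z y := (mem_four h hyQ hy).2 (Or.inr (Or.inl rfl))
    have h5 := Monoid.pow_exponent_eq_one (⟨z, h4⟩ : four z y)
    rw [e, pow_one] at h5
    exact h.large.z_ne (congrArg Subtype.val h5)
  · exact e

include τz τy in
/-- **The normaliser of the four group.** -/
theorem main : ∃ (E N : Subgroup G) (O : Subgroup ↥N), IsKleinFour ↥E ∧
    N = Subgroup.normalizer (E : Set G) ∧ O = Cfsg.pCore 2 ↥N ∧ Nat.card ↥O = 2 ^ 35 ∧
    (Subgroup.center ↥O).map O.subtype = E.subgroupOf N ∧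
    ∃ _ : O.Normal, Nonempty (↥N ⧸ O ≃* ↥Cfsg.M24 × Equiv.Perm (Fin 3)) := by
  obtain ⟨β, hβ⟩ := exists_beta h hyQ hy
  have hk := ker_beta h hyQ hy β hβ
  have hB := BB_normal h hyQ hy
  have hw := exists_word h hyQ hy τz τy hB β hβ
  have hβs : Function.Surjective β := fun σ => ⟨(hw σ).choose, (hw σ).choose_spec.1⟩
  have hact : ∀ n : NN z y, ∃ b : M24, Acts (BB z y) hB (rho h hyQ hy) n b := by
    intro n
    obtain ⟨w, h1, h2⟩ := hw (β n)
    have h3 : n * w⁻¹ ∈ BB z y := by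
      rw [← hk, MonoidHom.mem_ker, map_mul, map_inv, h1, mul_inv_cancel]
    have h4 := (acts_self (hB := hB) (ρ := rho h hyQ hy) ⟨n * w⁻¹, h3⟩).mul h2
    have h5 : ((⟨n * w⁻¹, h3⟩ : BB z y) : NN z y) * w = n := by
      show n * w⁻¹ * w = n
      group
    rw [h5] at h4
    exact ⟨_, h4⟩
  obtain ⟨f, hf, hker, -, -⟩ := exists_hom (hB := hB) (rho_surj h hyQ hy) M24_center β hβs hk hact
  have hker' : f.ker = OO h hyQ hy := hker
  have hc : Nat.card (OO h hyQ hy) = 2 ^ 35 := card_OO h hyQ hy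
  have hp : IsPGroup 2 f.ker := by
    rw [hker']
    exact IsPGroup.of_card hc
  have hcore := pCore_eq_ker f hf hp core_trivial
  refine ⟨four z y, NN z y, OO h hyQ hy, klein h hyQ hy, rfl, ?_, hc, center_OO h hyQ hy, ?_⟩
  · rw [hcore, hker']
  · have hn : (OO h hyQ hy).Normal := by rw [← hker']; infer_instance
    refine ⟨hn, ⟨?_⟩⟩
    exact (QuotientGroup.quotientMulEquivOfEq hker'.symm).trans
      (QuotientGroup.quotientKerEquivOfSurjective f hf)

end

end

end Cfsg.Agent.H848.NormFour
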