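import Cfsg.Agent.CTwoTab.B
import Cfsg.Agent.CpAut.TwoInnerB
import Cfsg.Agent.MonsterU.InvPairOdd
import Cfsg.Agent.H848.CubeM

/-!
# `|T| < |C_T(α)| ^ 3` for the Baby Monster

Every involution of `B` is the product of two commuting transpositions, or the image of an involution of
`2.B = C_M(ι x₀)` which is conjugate to `f₁` or to an element of the extraspecial group.
-/

set_option autoImplicit false

open Subgroup Cfsg Cfsg.Agent.H383.Cube

namespace Cfsg.Agent.H848.CubeB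

open Cfsg.Agent.Bimonster Cfsg.Agent.BabyComp Cfsg.Agent.BabyU
open Cfsg.Agent.MonsterX.KSide Cfsg.Agent.MonsterX.KLift Cfsg.Agent.MonsterX.KModel
open Cfsg.Agent.MonsterX.Model Cfsg.Agent.MonsterX.MainPack Cfsg.Agent.MonsterX.MainSimple
open Cfsg.Agent.MonsterX.MainBasic Cfsg.Agent.MonsterU.Assembly Cfsg.Agent.MonsterN.Lit
open Cfsg.Agent.MonsterN Cfsg.Agent.MonsterN.LitInst Cfsg.Agent.MonsterU.Lam2 Cfsg.Agent.MonsterU.TwoCls
open Cfsg.Agent.R01.Lifts Cfsg.Agent.BabyComp.Main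
open Cfsg.Agent.TwoESix Cfsg.Agent.TwoESix.Cox10 Cfsg.Agent.TwoESix.Lift Cfsg.Agent.TwoESix.Cover
open Cfsg.Lie

section gen

variable {X : Type*} [Group X] [Finite X]

/-- the index of the centralizer is at most the number of conjugates -/
theorem card_le_of_orbit (K : Subgroup X) (x : X) {S : Set X} (hS : ∀ k ∈ K, k * x * k⁻¹ ∈ S) {N : ℕ}
    (hN : Nat.card ↥S ≤ N) : Nat.card ↥K ≤ N * Nat.card ↥(K ⊓ centralizer ({x} : Set X)) := by
  have h1 : ((K ⊓ centralizer ({x} : Set X)).subgroupOf K).index ≤ N := by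
    refine le_trans ?_ hN
    let f : ↥K ⧸ ((K ⊓ centralizer ({x} : Set X)).subgroupOf K) → ↥S :=
      Quotient.lift (fun k : ↥K => (⟨(k : X) * x * (k : X)⁻¹, hS k k.2⟩ : ↥S)) (by
        intro a b hab
        have h2 : a⁻¹ * b ∈ (K ⊓ centralizer ({x} : Set X)).subgroupOf K := QuotientGroup.leftRel_apply.1 hab
        rw [mem_subgroupOf, mem_inf, mem_centralizer_singleton_iff] at h2
        have h3 : (a : X)⁻¹ * b * x = x * ((a : X)⁻¹ * b) := h2.2
        apply Subtype.ext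
        show (a : X) * x * (a : X)⁻¹ = (b : X) * x * (b : X)⁻¹
        symm
        calc (b : X) * x * (b : X)⁻¹ = (a : X) * ((a : X)⁻¹ * b * x) * (b : X)⁻¹ := by group
          _ = (a : X) * (x * ((a : X)⁻¹ * b)) * (b : X)⁻¹ := by rw [h3]
          _ = _ := by group)
    refine Nat.card_le_card_of_injective f ?_
    intro a b
    obtain ⟨a, rfl⟩ := QuotientGroup.mk_surjective a
    obtain ⟨b, rfl⟩ := QuotientGroup.mk_surjective b
    intro hab
    have h2 : (a : X) * x * (a : X)⁻¹ = (b : X) * x * (b : X)⁻¹ := congrArg Subtype.val hab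
    rw [QuotientGroup.eq, mem_subgroupOf, mem_inf, mem_centralizer_singleton_iff]
    refine ⟨K.mul_mem (K.inv_mem a.2) b.2, ?_⟩
    show (a : X)⁻¹ * b * x = x * ((a : X)⁻¹ * b)
    calc (a : X)⁻¹ * b * x = (a : X)⁻¹ * (b * x * (b : X)⁻¹) * b := by group
      _ = (a : X)⁻¹ * (a * x * (a : X)⁻¹) * b := by rw [h2]
      _ = _ := by group
  have h2 := ((K ⊓ centralizer ({x} : Set X)).subgroupOf K).index_mul_card
  have h3 : Nat.card ↥((K ⊓ centralizer ({x} : Set X)).subgroupOf K) =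
      Nat.card ↥(K ⊓ centralizer ({x} : Set X)) := Nat.card_congr (subgroupOfEquivOfLe inf_le_left).toEquiv
  rw [h3] at h2
  rw [← h2]
  exact Nat.mul_le_mul_right _ h1

end gen

variable {V P W : Type} [AddCommGroup V] [Module ℚ V] [Group P] [AddCommGroup W] [Module ℚ W]
  {D : MData V} {M : KS ↥D.G V P W} {x₀ : P} {θ : leechLattice → P} {K₀ : Type} [Group K₀]

theorem card_K (A : All D K₀) (H : Link D M x₀) : Nat.card ↥M.K = 2 ^ 25 * 4157776806543360000 := by
  rw [← card_C A.hG]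
  refine Nat.card_congr (Equiv.ofBijective
    (fun x : ↥M.K => (⟨((x : D.G) : V ≃ₗ[ℚ] V), (H.C_iff _).1 x.2⟩ : D.C)) ⟨?_, ?_⟩)
  · intro a b hab
    apply Subtype.ext
    apply Subtype.ext
    exact congrArg (fun y : D.C => (y : V ≃ₗ[ℚ] V)) hab
  · intro c
    exact ⟨⟨⟨c, C_le c.2⟩, (H.C_iff _).2 c.2⟩, rfl⟩

/-- **Two commuting elements of the extraspecial group.** -/
theorem card_pair (A : All D K₀) (H : Link D M x₀) (L : Lift M θ) (p : P) :
    2 * 10 ^ 13 ≤ Nat.card ↥(centralizer ({M.ι x₀} : Set D.G) ⊓ centralizer ({M.ι p} : Set D.G)) := by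
  have hfin : Finite D.G := G_finite A.hO
  have hP : Finite P := Nat.finite_of_card_ne_zero (by rw [L.card]; norm_num)
  have h1 := card_le_of_orbit M.K (M.ι x₀) (S := M.ι '' M.Sh) (N := 196560) (by
    intro k hk
    obtain ⟨A', α, T, hA⟩ := M.acts k hk
    exact ⟨α x₀, hA.act_sh x₀ H.x₀_mem, by rw [conj_ι hA, mul_inv_cancel_right]⟩) (by
    rw [Nat.card_coe_set_eq, Set.ncard_image_of_injective _ (Link.ι_inj L), Sh_ncard])
  have h2 := card_le_of_orbit (M.K ⊓ centralizer ({M.ι x₀} : Set D.G)) (M.ι p) (S := Set.range M.ι) (N := 2 ^ 25) (by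
    intro k hk
    obtain ⟨A', α, T, hA⟩ := M.acts k hk.1
    exact ⟨α p, by rw [conj_ι hA, mul_inv_cancel_right]⟩) (by
    rw [← L.card]
    exact (Nat.card_range_of_injective (Link.ι_inj L)).le)
  rw [card_K A H] at h1
  have h3 : Nat.card ↥(M.K ⊓ centralizer ({M.ι x₀} : Set D.G) ⊓ centralizer ({M.ι p} : Set D.G)) ≤
      Nat.card ↥(centralizer ({M.ι x₀} : Set D.G) ⊓ centralizer ({M.ι p} : Set D.G)) :=
    Subgroup.card_le_of_le (inf_le_inf_right _ inf_le_right)
  omega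

/-- the order of a centralizer in a quotient by a central subgroup of order two -/
theorem card_cent_le {B X : Type*} [Group B] [Group X] [Finite B] [Finite X] {q : B →* X} {τ : B} (hq : Ext q τ)
    (k : B) : Nat.card ↥(centralizer ({k} : Set B)) ≤ 2 * Nat.card ↥(centralizer ({q k} : Set X)) := by
  let g : ↥(centralizer ({k} : Set B)) →* ↥(centralizer ({q k} : Set X)) :=
    { toFun := fun m => ⟨q m, by
        have := mem_centralizer_singleton_iff.1 m.2
        rw [mem_centralizer_singleton_iff, ← map_mul, this, map_mul]⟩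
      map_one' := Subtype.ext (map_one q)
      map_mul' := fun a b => Subtype.ext (map_mul q (a : B) b) }
  have hg : Nat.card ↥g.ker ≤ 2 := by
    have h1 : Nat.card ↥({1, τ} : Set B) ≤ 2 := by
      rw [Nat.card_coe_set_eq]
      exact (Set.ncard_insert_le _ _).trans (by rw [Set.ncard_singleton])
    refine le_trans (Nat.card_le_card_of_injective (fun z : ↥g.ker => (⟨((z : ↥(centralizer ({k} : Set B))) : B), ?_⟩ :
      ↥({1, τ} : Set B))) ?_) h1
    · have := congrArg Subtype.val (MonoidHom.mem_ker.1 z.2)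
      exact (hq.ker _).1 this
    · intro a b hab
      exact Subtype.ext (Subtype.ext (congrArg (fun z : ↥({1, τ} : Set B) => (z : B)) hab))
  rw [← g.ker.card_mul_index, Subgroup.index_ker]
  exact Nat.mul_le_mul hg (Nat.card_le_card_of_injective _ g.range.subtype_injective)

/-- the facts on the fusion, with `f₁ f₂ f₃` in the extraspecial group -/
theorem exists_facts (A : All D K₀) (H : Link D M x₀) (L : Lift M θ) {τ : D.G} {y : P}
    (T : Cfsg.Agent.MonsterU.InvTwo.TauHyp M θ ⊤ τ y) {t : P} (ht : t ∈ M.Sh) :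
    ∃ f₁ f₂ f₃ f₄ : BB M t, FusionType.Facts (tb M t) f₁ f₂ f₃ f₄ ∧
      (∀ h, IsConj (tb M t * (f₁ * f₂)) (⟨M.z, h⟩ : BB M t)) ∧
      IsConj M.z ((f₁ * f₂ * f₃ : BB M t) : D.G) ∧
      (∃ p : P, ((f₁ : BB M t) : D.G) = M.ι p ∧ IsType 2 (clP L p) ∧ IsType 2 (clP L t + clP L p)) ∧
      (∃ p : P, ((f₁ * f₂ : BB M t) : D.G) = M.ι p) ∧ ∃ p : P, ((f₁ * f₂ * f₃ : BB M t) : D.G) = M.ι p := by
  have F := FusInst.hyp A H L T ht
  obtain ⟨p₁, p₂, p₃, p₄, C⟩ := FusF2.exists_conf L ht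
  have e0 : ((FusF2.elt M p₁ (F.c₁ C) * FusF2.elt M p₂ (F.c₂ C) : FusF2.B M t) : D.G) = M.ι (p₁ * p₂) := by
    rw [map_mul]
    rfl
  have e : ((FusF2.elt M p₁ (F.c₁ C) * FusF2.elt M p₂ (F.c₂ C) * FusF2.elt M p₃ (F.c₃ C) :
      FusF2.B M t) : D.G) = M.ι (p₁ * p₂ * p₃) := by
    rw [map_mul, map_mul]
    rfl
  refine ⟨_, _, _, _, F.facts C (F.c₁ C) (F.c₂ C) (F.c₃ C) (F.c₄ C), fun h => F.conj_z C _ _, ?_,
    ⟨p₁, rfl, C.s₁, C.t₁⟩, ⟨_, e0⟩, ⟨_, e⟩⟩
  obtain ⟨g, hg⟩ := F.four_z (q := p₁ * p₂ * p₃) (by rw [clP_mul, clP_mul]; exact C.s123)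
  have h1 : IsConj (M.ι (p₁ * p₂ * p₃)) M.z := isConj_iff.2 ⟨g, hg⟩
  rw [e]
  exact h1.symm

/-- an element of the extraspecial group in `2.B` -/
theorem card_cent_of_mem (A : All D K₀) (H : Link D M x₀) (L : Lift M θ) {b : BB M x₀} {p : P}
    (hb : (b : D.G) = M.ι p) : 2 * 10 ^ 13 ≤ Nat.card ↥(centralizer ({b} : Set (BB M x₀))) := by
  have hfin : Finite D.G := G_finite A.hO
  refine (card_pair A H L p).trans ?_
  have h1 : ∀ x : ↥(centralizer ({M.ι x₀} : Set D.G) ⊓ centralizer ({M.ι p} : Set D.G)),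
      (⟨(x : D.G), x.2.1⟩ : BB M x₀) ∈ centralizer ({b} : Set (BB M x₀)) := by
    intro x
    rw [mem_centralizer_singleton_iff]
    apply Subtype.ext
    show (x : D.G) * b = b * x
    rw [hb]
    exact mem_centralizer_singleton_iff.1 x.2.2
  refine Nat.card_le_card_of_injective (fun x => (⟨_, h1 x⟩ : ↥(centralizer ({b} : Set (BB M x₀))))) ?_
  intro a c hab
  exact Subtype.ext (congrArg (fun z : ↥(centralizer ({b} : Set (BB M x₀))) => ((z : BB M x₀) : D.G)) hab)

/-- **The centralizers of the involutions of `B` are large.** -/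
theorem large (A : All D K₀) (H : Link D M x₀) (L : Lift M θ) {τ : D.G} {y' : P}
    (T : Cfsg.Agent.MonsterU.InvTwo.TauHyp M θ ⊤ τ y') {y : ℕ → D.G} (hP : PRel y) (hne : y 0 ≠ y 1)
    (hy : ∃ g : D.G, g * tG A.hG A.hR * g⁻¹ = y 10) (u : Spor.BabyMonster) (hu : orderOf u = 2) :
    10 ^ 12 ≤ Nat.card ↥(centralizer ({u} : Set Spor.BabyMonster)) := by
  have hfin : Finite D.G := G_finite A.hO
  have hB : Cfsg.IsB Cfsg.Spor.BabyMonster := Cfsg.Agent.S1704.result
  obtain ⟨⟨h1, h2, h3⟩, h43⟩ := ModelB.fieldsKS A H L hP hne hy hB H.x₀_mem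
  obtain ⟨f₁, f₂, f₃, f₄, Fc, hcz, hcd, ⟨p, hp, hp2, hp2'⟩, ⟨p12, hp12⟩, ⟨p123, hp123⟩⟩ :=
    exists_facts A H L T H.x₀_mem
  have hzm : M.z ∈ BB M x₀ := mem_centralizer_singleton_iff.2 (by
    show M.ι M.zc * M.ι x₀ = M.ι x₀ * M.ι M.zc
    rw [← map_mul, ← map_mul, M.zc_comm])
  have hE : Emb (BB M x₀).subtype M.z (tb M x₀) f₁ f₂ f₃ :=
    ⟨Subtype.val_injective, nineteen H A, ((BB M x₀).subtype.map_isConj (hcz hzm)).symm, hcd⟩
  -- the group `²E₆(2)`
  let K := GaloisField 2 2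
  let _i : Fintype K := Fintype.ofFinite K
  have hK : Fintype.card K = 4 := by
    rw [← Nat.card_eq_fintype_card]
    exact GaloisField.card 2 2 (by norm_num)
  have hF : Fintype.card K = 2 ^ 2 := by rw [hK]; norm_num
  have hsE := EInst.isSimple K hK
  obtain ⟨e0, r, he0, hgen, hr, -, hconj⟩ := TwoESix.GoodInst.exists_good K hK
  have hR : ∀ i, e0 i ∈ rootClass K := fun i => by
    obtain ⟨g, hg⟩ := hconj i
    exact ⟨g, r, hr, hg⟩
  have hHB : Finite HB := Cfsg.Agent.BM.HBFinal.finite_HB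
  have hcard := Cfsg.Agent.BM.HBFinal.hcard K hK
  have big_a : KEq.Big (BB M x₀) (tb M x₀) f₁ := by
    have hm : M.ι p ∈ BB M x₀ := by rw [← hp]; exact f₁.2
    have e : f₁ = ⟨M.ι p, hm⟩ := Subtype.ext hp
    rw [e]
    exact BigAConf.big_a L T H.x₀_mem h43 hp2 hp2'
  obtain ⟨q, yB, hpre, π, hq, h10, DK, hc5, hq5⟩ :=
    NodesB.nodes he0 hgen hcard (Cfsg.Agent.BM.HBFinal.card_E K hK) hR h1 h2 h3 Fc hE
  obtain ⟨M₁, Bs⟩ := BaseB.exists_base hq5
  have hfX : Finite Spor.BabyMonster := Finite.of_surjective q hq.surj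
  have big : KEq.Big (BB M x₀) (tb M x₀) (yB 5) := big_a.conj (fun x => (Fc.cen x).symm) hc5
  have huu : u * u = 1 := by rw [← pow_two, ← hu, pow_orderOf_eq_one]
  have hu1 : u ≠ 1 := by
    rintro rfl
    rw [orderOf_one] at hu
    omega
  have hct : ∀ d : Spor.BabyMonster, IsConj (q (yB 5)) d →
      Nat.card ↥(centralizer ({d} : Set Spor.BabyMonster)) = 306129918735099415756800 := by
    intro d hd
    rw [← CardK.card_centralizer_isConj hd, CardK.card_centralizer_isConj hq5]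
    exact BM.KHAll.card_cent .t1
  rcases Bs.classes u huu hu1 with ⟨g, hg⟩ | ⟨d, hd, hc, hud⟩
  · -- case I
    obtain ⟨k, hk, hqk⟩ := M_le hq h10 big Bs _ hg
    have hgu : u = g * q k * g⁻¹ := by rw [hqk]; group
    have hkk : k * k = 1 := by
      refine lift_sq (Cfsg.Agent.TwoESix.LeviG.rootFacts hK hF) (KeyInst.extra hF)
        (Cfsg.Agent.TwoESix.RootsInst.roots K hF) hq h10 DK hk ?_
      rw [hqk]
      calc g⁻¹ * u * g * (g⁻¹ * u * g) = g⁻¹ * (u * u) * g := by group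
        _ = 1 := by rw [huu]; group
    have hqk1 : q k ≠ 1 := by
      intro e
      apply hu1
      rw [hgu, e]; group
    have hk1 : k ≠ 1 := fun e => hqk1 (by rw [e, map_one])
    have hkτ : k ≠ tb M x₀ := fun e => hqk1 (by rw [e, hq.mapz])
    rw [hgu, ← CardK.card_centralizer_isConj (isConj_iff.2 ⟨g, rfl⟩)]
    have key : ∀ b : BB M x₀, IsConj b k → 2 * 10 ^ 13 ≤ Nat.card ↥(centralizer ({b} : Set (BB M x₀))) →
        10 ^ 12 ≤ Nat.card ↥(centralizer ({q k} : Set Spor.BabyMonster)) := by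
      intro b hb hcb
      rw [CardK.card_centralizer_isConj hb] at hcb
      have h6 := hcb.trans (card_cent_le hq k)
      omega
    rcases Fc.classes k hkk hk1 hkτ with h1 | h1 | h1 | h1
    · rw [hct (q k) (q.map_isConj (hc5.symm.trans h1))]
      norm_num
    · exact key _ h1 (card_cent_of_mem A H L hp12)
    · refine key _ h1 (card_cent_of_mem A H L (p := x₀ * p12) ?_)
      rw [map_mul, ← hp12]
      rfl
    · exact key _ h1 (card_cent_of_mem A H L hp123)
  · -- case II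
    have h4 := card_le_of_orbit (centralizer ({d} : Set Spor.BabyMonster)) (u * d) (S := {s | IsConj (q (yB 5)) s})
      (N := 13571955000) (fun k _ => hud.trans (isConj_iff.2 ⟨k, rfl⟩)) (Par.card_class hq5)
    rw [hct d hd] at h4
    have h5 : Nat.card ↥(centralizer ({d} : Set Spor.BabyMonster) ⊓ centralizer ({u * d} : Set Spor.BabyMonster)) ≤
        Nat.card ↥(centralizer ({u} : Set Spor.BabyMonster)) := by
      refine Subgroup.card_le_of_le fun x hx => ?_
      have h6 := mem_centralizer_singleton_iff.1 hx.1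
      have h7 := mem_centralizer_singleton_iff.1 hx.2
      rw [mem_centralizer_singleton_iff]
      have h8 : x * u * d = u * x * d := by
        calc x * u * d = x * (u * d) := by rw [mul_assoc]
          _ = u * (d * x) := by rw [h7, mul_assoc]
          _ = u * x * d := by rw [← h6, mul_assoc]
      exact mul_right_cancel h8
    omega

theorem large_B (u : Spor.BabyMonster) (hu : orderOf u = 2) :
    10 ^ 12 ≤ Nat.card ↥(centralizer ({u} : Set Spor.BabyMonster)) :=
  large Cfsg.Agent.MonsterN.LitFin.all Cfsg.Agent.MonsterX.KDone.lnk Cfsg.Agent.MonsterX.KDone.lft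
    (Cfsg.Agent.MonsterU.TauInst.tauHyp (Cfsg.Agent.MonsterU.Final.cent Cfsg.Agent.MonsterX.InstanceFinal.mOrbit
      Cfsg.Agent.MonsterX.Instance.mTrans)) (Cfsg.Agent.MonsterP.NodesGrp.prel Cfsg.Agent.CTwoTab.BInst.H)
    (Cfsg.Agent.MonsterP.NodesNe.ne Cfsg.Agent.CTwoTab.BInst.H) Cfsg.Agent.CTwoTab.BInst.conj_ten u hu

theorem cube_baby : CubeBound Spor.BabyMonster := by
  have h0 : IsB Spor.BabyMonster := S1704.result
  have := h0.1
  have : Finite Spor.BabyMonster := Nat.finite_of_card_ne_zero (by rw [h0.2]; norm_num)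
  refine CubeM.of_inner CpAut.TwoInner.inner_b (CubeM.centerless ?_) fun t ht => ?_
  · rw [h0.2]; norm_num
  · rw [h0.2]
    calc 4154781481226426191177580544000000 < (10 ^ 12) ^ 3 := by norm_num
      _ ≤ _ := Nat.pow_le_pow_left (large_B t ht) 3

/-- **The Baby Monster.** -/
theorem cube_B {G : Type*} [Group G] (h : Cfsg.Spor.IsoB G) : CubeBound G := by
  obtain ⟨e⟩ := h
  exact CubeBound.congr e.symm cube_baby

end Cfsg.Agent.H848.CubeB
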