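import Cfsg.Agent.H848.OctBase
import Cfsg.Agent.MonsterU.CoFrameSep
import Cfsg.Agent.KFacts.Co1.RHat

/-!
# The pointwise stabiliser of the fixed frame classes of the sign change on an octad
-/

set_option autoImplicit false

namespace Cfsg.Agent.H848.OctFix

open Cfsg
open Cfsg.Agent.SporadicA.Co0Mono hiding smul_add smul_sub smul_neg smul_zero
open Cfsg.Agent.SporadicA.Co1Simple
open Cfsg.Agent.SporadicStructure.Co0Base (e8 e8_coe)
open Cfsg.Agent.SporadicStructure.LeechBase (zmod2_cases)
open Cfsg.Agent.CoOneType.SignFacts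
open Cfsg.Agent.CoOneType.CoOneE (pr pr_surjective E mem_E)
open Cfsg.Agent.MonsterU.Lam2
open Cfsg.Agent.MonsterU.CoFrame
open Cfsg.Agent.MonsterU.CoFrameAct
open Cfsg.Agent.MonsterU.CoFrameL2
open Cfsg.Agent.MonsterU.CoFrameSep (mem_code_of_orth eq_zero_of_lt)
open Cfsg.Agent.MonsterU.CoFrameF (pr_eq_one exists_of_mem_F)
open Cfsg.Agent.H848.TrioU
open Cfsg.Agent.H848.Oct
open Cfsg.Spor (Co1)

theorem mem_W16_iff {o : golayCode} {x : L2} (hx : x ∈ W12) : x ∈ W16 o ↔ pairL x o = 0 := by
  rw [mem_W16, eps, sign_smul hx]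
  split_ifs with h
  · rw [add_zero]
    exact ⟨fun _ => h, fun _ => rfl⟩
  · constructor
    · intro h1
      exact absurd (add_eq_left.1 h1) f0_ne
    · intro h1
      exact absurd h1 h

/-- the class of a duad -/
noncomputable def dd (i j : GolayPt) : L2 := cl (duad i j)

theorem dd_mem (i j : GolayPt) : dd i j ∈ W12 := cl_mem_W12.2 (duad_mem i j)

theorem pairL_dd (i j : GolayPt) (c : golayCode) :
    pairL (dd i j) c = (c : GolayPt → ZMod 2) i + (c : GolayPt → ZMod 2) j := by
  rw [dd, pairL_cl, pair_duad]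

theorem dd_mem_W16 {o : golayCode} {i j : GolayPt} (h : (o : GolayPt → ZMod 2) i = (o : GolayPt → ZMod 2) j) :
    dd i j ∈ W16 o := by
  rw [mem_W16_iff (dd_mem i j), pairL_dd, h]
  exact CharTwo.add_self_eq_zero _

theorem f0_mem_W16 (o : golayCode) : f0 ∈ W16 o := by
  rw [mem_W16_iff (W1_le_W12 f0_mem_W1)]
  exact (mem_W1_iff_pairL (W1_le_W12 f0_mem_W1)).1 f0_mem_W1 o

/-- another point of the same class -/
theorem exists_other {o : golayCode} (ho : wt o = 8) (i k : GolayPt) :
    ∃ j, j ≠ i ∧ j ≠ k ∧ (o : GolayPt → ZMod 2) i = (o : GolayPt → ZMod 2) j := by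
  classical
  by_contra hn
  push Not at hn
  have h24 : (Finset.univ : Finset GolayPt).card = 24 := by decide
  have h8 : (sup o).card = 8 := ho
  rcases zmod2_cases ((o : GolayPt → ZMod 2) i) with h | h
  · -- outside
    have h1 : (Finset.univ \ sup o) ⊆ {i, k} := by
      intro j hj
      rw [Finset.mem_sdiff] at hj
      have hj0 : (o : GolayPt → ZMod 2) j = 0 := (notMem_sup o j).1 hj.2
      by_contra hjn
      simp only [Finset.mem_insert, Finset.mem_singleton, not_or] at hjn
      exact hn j hjn.1 hjn.2 (by rw [h, hj0])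
    have h2 := Finset.card_le_card h1
    have h3 := Finset.card_le_two (a := i) (b := k)
    rw [Finset.card_sdiff_of_subset (Finset.subset_univ _)] at h2
    omega
  · have h1 : sup o ⊆ {i, k} := by
      intro j hj
      have hj0 : (o : GolayPt → ZMod 2) j = 1 := (mem_sup o j).1 hj
      by_contra hjn
      simp only [Finset.mem_insert, Finset.mem_singleton, not_or] at hjn
      exact hn j hjn.1 hjn.2 (by rw [h, hj0])
    have h2 := Finset.card_le_card h1
    have h3 := Finset.card_le_two (a := i) (b := k)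
    omega

/-- the permutation part is trivial -/
theorem perm_eq_one {o : golayCode} (ho : wt o = 8) {σ : M24}
    (h : ∀ x ∈ W16 o, x ∈ W12 → ∀ d, pairL x (wordPerm σ d) = pairL x d) : σ = 1 := by
  classical
  have key : ∀ i j : GolayPt, i ≠ j → (o : GolayPt → ZMod 2) i = (o : GolayPt → ZMod 2) j →
      (σ : Equiv.Perm GolayPt).symm j ≠ i → (σ : Equiv.Perm GolayPt).symm i = i := by
    intro i j hij hoij hji
    by_contra hne
    set w : GolayPt → ZMod 2 := fun k => (if k = (σ : Equiv.Perm GolayPt).symm i then 1 else 0) +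
      (if k = (σ : Equiv.Perm GolayPt).symm j then 1 else 0) + (if k = i then 1 else 0) +
      (if k = j then 1 else 0) with hwdef
    have hwc : w ∈ golayCode := by
      apply mem_code_of_orth
      intro c
      have h1 := h (dd i j) (dd_mem_W16 hoij) (dd_mem i j) c
      rw [pairL_dd, pairL_dd, wordPerm_apply, wordPerm_apply] at h1
      have h5 : ∑ k, w k * (c : GolayPt → ZMod 2) k =
          (c : GolayPt → ZMod 2) ((σ : Equiv.Perm GolayPt).symm i) +
          (c : GolayPt → ZMod 2) ((σ : Equiv.Perm GolayPt).symm j) +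
          ((c : GolayPt → ZMod 2) i + (c : GolayPt → ZMod 2) j) := by
        simp only [hwdef, add_mul, ite_mul, one_mul, zero_mul, Finset.sum_add_distrib,
          Finset.sum_ite_eq', Finset.mem_univ, if_true]
        ring
      rw [h5, h1]
      exact CharTwo.add_self_eq_zero _
    have h0 := eq_zero_of_lt hwc {(σ : Equiv.Perm GolayPt).symm i, (σ : Equiv.Perm GolayPt).symm j, i, j} (by
      intro k hk
      by_contra hkn
      simp only [Finset.mem_insert, Finset.mem_singleton, not_or] at hkn
      apply hk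
      simp only [hwdef, if_neg hkn.1, if_neg hkn.2.1, if_neg hkn.2.2.1, if_neg hkn.2.2.2, add_zero])
      (by
        have := Finset.card_le_four (a := (σ : Equiv.Perm GolayPt).symm i)
          (b := (σ : Equiv.Perm GolayPt).symm j) (c := i) (d := j)
        omega)
    have h1 := congrFun h0 i
    simp only [hwdef, if_neg (Ne.symm hne), if_neg (Ne.symm hji), if_neg hij, Pi.zero_apply,
      zero_add, add_zero] at h1
    exact absurd h1 (by decide)
  have hall : ∀ i, (σ : Equiv.Perm GolayPt).symm i = i := by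
    intro i
    obtain ⟨j, hj1, hj2, hj3⟩ := exists_other ho i ((σ : Equiv.Perm GolayPt) i)
    refine key i j (Ne.symm hj1) hj3 fun h1 => hj2 ?_
    rw [← h1, Equiv.apply_symm_apply]
  apply Subtype.ext
  apply Equiv.ext
  intro i
  show (σ : Equiv.Perm GolayPt) i = i
  conv_lhs => rw [← hall i]
  rw [Equiv.apply_symm_apply]

/-- **The pointwise stabiliser.** -/
theorem eq_of_fix {o : golayCode} (ho : wt o = 8) {g : Co1} (hg : ∀ x ∈ W16 o, x ∈ W12 → g • x = x) :
    g = 1 ∨ g = eps o := by
  have hF : g ∈ Cfsg.Agent.MonsterU.CoFrameL2.F :=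
    (mem_F_iff g).2 (hg f0 (f0_mem_W16 o) (W1_le_W12 f0_mem_W1))
  obtain ⟨c, σ, rfl⟩ := exists_of_mem_F hF
  have h1 : σ = 1 := perm_eq_one ho fun x hx hx' d => by
    have h2 := pairL_sp hx' c σ d
    rw [hg x hx hx'] at h2
    exact h2
  subst h1
  rw [map_one, mul_one] at hg ⊢
  -- the word is constant on the octad and on its complement
  have h2 : ∀ i j, (o : GolayPt → ZMod 2) i = (o : GolayPt → ZMod 2) j →
      (c : GolayPt → ZMod 2) i = (c : GolayPt → ZMod 2) j := by
    intro i j hij
    have h3 := hg (dd i j) (dd_mem_W16 hij) (dd_mem i j)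
    rw [sign_smul (dd_mem i j), pairL_dd] at h3
    have h4 : (c : GolayPt → ZMod 2) i + (c : GolayPt → ZMod 2) j = 0 := by
      by_contra h5
      rw [if_neg h5] at h3
      exact f0_ne (add_eq_left.1 h3)
    exact CharTwo.add_eq_zero.1 h4
  obtain ⟨i0, hi0⟩ : ∃ i0, (o : GolayPt → ZMod 2) i0 = 1 := by
    by_contra hn
    push Not at hn
    have h3 : sup o = ∅ := by
      apply Finset.eq_empty_of_forall_notMem
      intro i hi
      exact hn i ((mem_sup o i).1 hi)
    have h8 : (sup o).card = 8 := ho
    rw [h3, Finset.card_empty] at h8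
    omega
  obtain ⟨j0, hj0⟩ : ∃ j0, (o : GolayPt → ZMod 2) j0 = 0 := by
    by_contra hn
    push Not at hn
    have h3 : sup o = Finset.univ := by
      apply Finset.eq_univ_of_forall
      intro i
      exact (mem_sup o i).2 ((zmod2_cases _).resolve_left (hn i))
    have h8 : (sup o).card = 8 := ho
    have h24 : (Finset.univ : Finset GolayPt).card = 24 := by decide
    rw [h3] at h8
    omega
  have hc : ∀ i, (c : GolayPt → ZMod 2) i = if (o : GolayPt → ZMod 2) i = 1 then (c : GolayPt → ZMod 2) i0
      else (c : GolayPt → ZMod 2) j0 := by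
    intro i
    split_ifs with h3
    · exact h2 i i0 (by rw [h3, hi0])
    · exact h2 i j0 (by rw [(zmod2_cases _).resolve_right h3, hj0])
  have hone : pr (signCo0 allOne) = 1 := pr_eq_one.2 (Or.inr rfl)
  rcases zmod2_cases ((c : GolayPt → ZMod 2) i0) with hi | hi <;>
    rcases zmod2_cases ((c : GolayPt → ZMod 2) j0) with hj | hj
  · left
    have h3 : c = 0 := by
      apply Subtype.ext
      funext i
      rw [hc i, hi, hj]
      split_ifs <;> rfl
    rw [h3, signCo0_zero, map_one]
  · right
    have h3 : c = o + allOne := by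
      apply Subtype.ext
      funext i
      rw [hc i, hi, hj]
      show _ = (o : GolayPt → ZMod 2) i + 1
      rcases zmod2_cases ((o : GolayPt → ZMod 2) i) with h4 | h4
      · rw [h4]; decide
      · rw [h4]; decide
    rw [h3, signCo0_add, map_mul, hone, mul_one, eps]
  · right
    have h3 : c = o := by
      apply Subtype.ext
      funext i
      rw [hc i, hi, hj]
      rcases zmod2_cases ((o : GolayPt → ZMod 2) i) with h4 | h4
      · rw [h4]; decide
      · rw [h4]; decide
    rw [h3, eps]
  · left
    have h3 : c = allOne := by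
      apply Subtype.ext
      funext i
      rw [hc i, hi, hj]
      show _ = (1 : ZMod 2)
      split_ifs <;> rfl
    rw [h3, hone]

end Cfsg.Agent.H848.OctFix
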