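import Cfsg.Agent.H848.NoELocK

/-!
# S3846: an element of order `p` centralises the `t`-subgroups which it normalises: the case `p ∣ t ^ 5 - 1`, main theorem
-/

set_option autoImplicit false
set_option linter.unusedSectionVars false

namespace Cfsg.Agent.H848.NoELocM

open Cfsg Subgroup Cfsg.Agent.H301.SY Cfsg.Agent.H459.Rad Cfsg.Agent.H63.SYRad
open Cfsg.Agent.H63.SYTools (conj_of_norm mem_zpowers_of elem_comm)
open Cfsg.Agent.H63.SYThmO Cfsg.Agent.H848.NoELoc Cfsg.Agent.H848.NoELocK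
open Cfsg.Agent.SignalizersComponents.RelSylow (exists_mem_normalizer)
open scoped Pointwise

universe u

variable {K : Type u} [Group K] [Finite K] {p t : ℕ} [hp : Fact p.Prime] [ht : Fact t.Prime]

/-- the facts on `M = N(R)` -/
structure Facts (p t : ℕ) (x : K) (R M : Subgroup K) : Prop where
  card : ∀ Q : Subgroup K, Q ≤ M → IsPGroup t Q → Nat.card Q ∣ t * Nat.card R
  cent : ∀ c ∈ M, (∃ n : ℕ, c ^ t ^ n = 1) → (∀ r ∈ R, c * r = r * c) → c ∈ R
  exa : ∀ q ∈ M, (∃ n : ℕ, q ^ t ^ n = 1) → q ∉ R → ∃ a ∈ M, (∃ n : ℕ, a ^ t ^ n = 1) ∧ a ∉ R ∧ a * x * a⁻¹ ∈ zpowers x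
  comm : ∀ a ∈ M, (∃ n : ℕ, a ^ t ^ n = 1) → a * x * a⁻¹ * x⁻¹ = 1 → a ∈ R

theorem exists_facts [IsSimpleGroup K] (hP : ∀ P : Sylow p K, IsCyclic (P : Subgroup K)) (htp : t ≠ p) {x : K}
    (hx : orderOf x = p) (hR : RE x) (ht2 : ¬ t ^ 2 ∣ p - 1) {R : Subgroup K} (hRm : MaxInv t x R)
    (hxR : ¬ ∀ r ∈ R, x * r = r * x) : Facts p t x R (normalizer (R : Set K)) := by
  have h0 : R ≠ ⊥ := by
    rintro rfl
    apply hxR
    intro r hr
    rw [mem_bot.1 hr, mul_one, one_mul]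
  set M := normalizer (R : Set K) with hM
  have hMtop : M ≠ ⊤ := normalizer_ne_top htp hx hRm.pgrp h0
  have hxM : x ∈ M := H301.SY.mem_norm hRm.inv
  have hRM : R ≤ M := le_normalizer
  have h1 := hR M hMtop hxM
  have h2 : (⟨x, hxM⟩ : M) ∈ solvableRadical M := mem_radIn_coe.1 h1
  have hx' : orderOf (⟨x, hxM⟩ : M) = p := by rw [Subgroup.orderOf_mk, hx]
  have hPM := cyclic_sub hP M
  obtain ⟨N, hN, hNp, hN1⟩ := core hPM hx' h2
  have hcR : Nat.card (R.subgroupOf M) = Nat.card R := Nat.card_congr (subgroupOfEquivOfLe hRM).toEquiv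
  have loc : Loc p t (⟨x, hxM⟩ : M) N (R.subgroupOf M) := by
    refine ⟨hx', hN, hNp, hN1, ?_, hRm.pgrp.comap_subtype, ?_, htp⟩
    · refine ⟨fun n hn g => ?_⟩
      rw [mem_subgroupOf] at hn ⊢
      exact conj_of_norm g.2 hn
    · intro Q hQ hxQ hRQ a ha
      rw [mem_subgroupOf]
      refine hRm.max (Q.map M.subtype) (hQ.map _) ?_ ?_ ⟨a, ha, rfl⟩
      · rintro _ ⟨b, hb, rfl⟩
        exact ⟨_, hxQ b hb, rfl⟩
      · intro r hr
        exact ⟨⟨r, hRM hr⟩, hRQ (mem_subgroupOf.2 hr), rfl⟩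
  refine ⟨fun Q hQM hQ => ?_, fun c hc hct hcR' => ?_, fun q hq hqt hqR => ?_, fun a ha hat hax => ?_⟩
  · have h3 := loc.card_dvd ht2 (Q := Q.subgroupOf M) hQ.comap_subtype
    rwa [hcR, Nat.card_congr (subgroupOfEquivOfLe hQM).toEquiv] at h3
  · have h3 : (⟨c, hc⟩ : M) ∈ R.subgroupOf M := by
      refine loc.mem_of_cent hPM ?_ ?_ ?_
      · intro h4
        apply hxR
        intro r hr
        exact congrArg Subtype.val (h4 ⟨r, hRM hr⟩ (mem_subgroupOf.2 hr))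
      · intro r hr
        exact Subtype.ext (hcR' r (mem_subgroupOf.1 hr))
      · obtain ⟨n, hn⟩ := hct
        exact ⟨n, Subtype.ext hn⟩
    exact mem_subgroupOf.1 h3
  · obtain ⟨n, hn⟩ := hqt
    obtain ⟨a, ⟨m, hm⟩, haR, hax⟩ := loc.exists_a (q := ⟨q, hq⟩) ⟨n, Subtype.ext hn⟩ (fun h => hqR (mem_subgroupOf.1 h))
    refine ⟨a, a.2, ⟨m, congrArg Subtype.val hm⟩, fun h => haR (mem_subgroupOf.2 h), ?_⟩
    obtain ⟨k, hk⟩ := mem_zpowers_iff.1 hax
    refine mem_zpowers_iff.2 ⟨k, ?_⟩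
    have := congrArg Subtype.val hk
    rw [SubgroupClass.coe_zpow] at this
    exact this
  · obtain ⟨n, hn⟩ := hat
    have h3 : (⟨a, ha⟩ : M) ∈ R.subgroupOf M := by
      refine loc.mem_R ⟨n, Subtype.ext hn⟩ ?_
      have e : (⟨a, ha⟩ * ⟨x, hxM⟩ * ⟨a, ha⟩⁻¹ * ⟨x, hxM⟩⁻¹ : M) = 1 := Subtype.ext hax
      rw [e]
      exact N.one_mem
    exact mem_subgroupOf.1 h3

/-- conjugates -/
theorem zpow_conj {x a : K} (ha : a * x * a⁻¹ ∈ zpowers x) (k : ℤ) :
    a ^ k * x * (a ^ k)⁻¹ ∈ zpowers x := by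
  have h1 : a ∈ normalizer (zpowers x : Set K) := by
    apply H301.SY.mem_norm
    intro b hb
    obtain ⟨k, rfl⟩ := mem_zpowers_iff.1 hb
    rw [← conj_zpow]
    exact (zpowers x).zpow_mem ha k
  exact conj_of_norm ((normalizer (zpowers x : Set K)).zpow_mem h1 k) (mem_zpowers x)

/-- **`|T| ≤ t |R|`** -/
theorem sylow_le {x : K} (hx : orderOf x = p) (htp : t ≠ p) (hnum : ∀ j ≤ 9, p ∣ t ^ j - 1 → j = 0 ∨ 5 ≤ j)
    (h10 : ¬ t ^ 10 ∣ Nat.card K) {R V : Subgroup K} (hRt : IsPGroup t R) (F : Facts p t x R (normalizer (R : Set K)))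
    (hVR : V ≤ R) (hVc : ∀ v ∈ V, ∀ r ∈ R, v * r = r * v) (hxV : ∀ v ∈ V, x * v * x⁻¹ ∈ V)
    (hne : ¬ ∀ v ∈ V, x * v = v * x) :
    ∃ T : Sylow t K, R ≤ T ∧ Nat.card T ≤ t * Nat.card R := by
  have hVt : IsPGroup t V := hRt.to_le hVR
  set M := normalizer (R : Set K) with hM
  have hRM : R ≤ M := le_normalizer
  have hR0 : 0 < Nat.card R := Nat.card_pos
  have htelt : ∀ T : Sylow t K, ∀ q ∈ T, ∃ n : ℕ, q ^ t ^ n = 1 := by
    intro T q hq
    obtain ⟨n, hn⟩ := T.isPGroup' ⟨q, hq⟩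
    exact ⟨n, congrArg Subtype.val hn⟩
  by_cases hcase : ∀ q ∈ M, (∃ n : ℕ, q ^ t ^ n = 1) → q ∈ R
  · -- `R` is a Sylow subgroup
    obtain ⟨T, hRT⟩ := hRt.exists_le_sylow
    refine ⟨T, hRT, ?_⟩
    have h1 : (T : Subgroup K) ≤ R := by
      by_contra hcon
      obtain ⟨b, hb, hbM, hbR⟩ := exists_mem_normalizer T.isPGroup' hRT hcon
      exact hbR (hcase b hbM (htelt T b hb))
    have h2 : Nat.card T ≤ Nat.card R := Nat.le_of_dvd hR0 (card_dvd_of_le h1)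
    exact h2.trans (Nat.le_mul_of_pos_left _ ht.out.pos)
  push Not at hcase
  obtain ⟨q, hqM, hqt, hqR⟩ := hcase
  obtain ⟨a, haM, hat, haR, hax⟩ := F.exa q hqM hqt hqR
  set P : Subgroup K := R ⊔ zpowers a with hPdef
  have haP : a ∈ P := mem_sup_right (mem_zpowers a)
  have hRP : R ≤ P := le_sup_left
  have hza : zpowers a ≤ M := zpowers_le.2 haM
  have hPM : P ≤ M := sup_le hRM hza
  have hPt : IsPGroup t P := hRt.to_sup_of_normal_left' (isPGroup_zpowers hat) hza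
  -- the elements of `P`
  have hPel : ∀ u ∈ P, ∃ r ∈ R, ∃ k : ℤ, u = r * a ^ k := by
    intro u hu
    have h2 : u ∈ (R : Set K) * (zpowers a : Set K) := by
      rw [← Subgroup.coe_mul_of_right_le_normalizer_left R (zpowers a) hza]
      exact hu
    obtain ⟨r, hr, z, hz, rfl⟩ := h2
    obtain ⟨k, rfl⟩ := mem_zpowers_iff.1 hz
    exact ⟨r, hr, k, rfl⟩
  have hPle : Nat.card P ≤ t * Nat.card R :=
    Nat.le_of_dvd (Nat.mul_pos ht.out.pos hR0) (F.card P hPM hPt)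
  have hPge : t * Nat.card R ≤ Nat.card P := card_lt_mul hPt hRP fun h => haR (h haP)
  obtain ⟨T, hPT⟩ := hPt.exists_le_sylow
  refine ⟨T, hRP.trans hPT, ?_⟩
  by_cases hTP : (T : Subgroup K) ≤ P
  · exact (Nat.le_of_dvd Nat.card_pos (card_dvd_of_le hTP)).trans hPle
  exfalso
  obtain ⟨b, hbT, hbN, hbP⟩ := exists_mem_normalizer T.isPGroup' hPT hTP
  have hbM : b ∉ M := by
    intro hbM
    have hzb : zpowers b ≤ normalizer (P : Set K) := zpowers_le.2 hbN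
    have h1 : IsPGroup t (P ⊔ zpowers b : Subgroup K) :=
      hPt.to_sup_of_normal_left' (isPGroup_zpowers (htelt T b hbT)) hzb
    have h2 := F.card (P ⊔ zpowers b) (sup_le hPM (zpowers_le.2 hbM)) h1
    have h3 : t * Nat.card P ≤ Nat.card (P ⊔ zpowers b : Subgroup K) :=
      card_lt_mul h1 le_sup_left fun h => hbP (h (mem_sup_right (mem_zpowers b)))
    have h4 := Nat.le_of_dvd (Nat.mul_pos ht.out.pos hR0) h2
    have h5 : t * Nat.card P ≤ 1 * Nat.card P := by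
      rw [one_mul]
      exact h3.trans (h4.trans hPge)
    have h6 := Nat.le_of_mul_le_mul_right h5 Nat.card_pos
    have := ht.out.two_le
    omega
  -- the key inequality
  have key : ∀ u ∈ P, u ∉ R → ∀ W : Subgroup K, W ≤ V → (∀ w ∈ W, u * w = w * u) → Nat.card W * t ^ 3 ≤ Nat.card V := by
    intro u hu huR W hWV hWu
    obtain ⟨r, hr, k, rfl⟩ := hPel u hu
    have hakR : a ^ k ∉ R := fun h => huR (R.mul_mem hr h)
    obtain ⟨n, hn⟩ := hat
    have hakt : ∃ n : ℕ, (a ^ k) ^ t ^ n = 1 :=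
      ⟨n, by rw [← zpow_natCast, ← zpow_mul, mul_comm, zpow_mul, zpow_natCast, hn, one_zpow]⟩
    refine fix_le' hx htp hnum h10 hVt hxV hne (zpow_conj hax k) (fun h => hakR (F.comm _ (M.zpow_mem haM k) hakt h)) hWV ?_
    intro w hw
    have h1 := hVc w (hWV hw) r hr
    have h2 := hWu w hw
    have h3 : Commute (r⁻¹ * (r * a ^ k)) w := (Commute.inv_left (show Commute r w from h1.symm)).mul_left h2
    rw [inv_mul_cancel_left] at h3
    exact h3
  have hcmap : ∀ (g : K) (H : Subgroup K), Nat.card (H.map (MulAut.conj g).toMonoidHom) = Nat.card H := fun g H =>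
    Subgroup.card_map_of_injective (MulAut.conj g).injective
  have hmapP : ∀ g ∈ normalizer (P : Set K), ∀ H ≤ P, H.map (MulAut.conj g).toMonoidHom ≤ P := by
    rintro g hg H hH _ ⟨h, hh, rfl⟩
    exact conj_of_norm hg (hH hh)
  have hVcg : ∀ g : K, ∀ v ∈ V.map (MulAut.conj g).toMonoidHom, ∀ r ∈ R.map (MulAut.conj g).toMonoidHom, v * r = r * v := by
    rintro g _ ⟨v, hv, rfl⟩ _ ⟨r, hr, rfl⟩
    rw [← map_mul, ← map_mul, hVc v hv r hr]
  -- Claim A
  have claim : ∀ g ∈ normalizer (P : Set K), V.map (MulAut.conj g).toMonoidHom ≤ R := by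
    intro g hg
    by_contra hcon
    obtain ⟨u, hu, huR⟩ := SetLike.not_le_iff_exists.1 hcon
    set Rg := R.map (MulAut.conj g).toMonoidHom with hRg
    have h1 := key u (hmapP g hg V (hVR.trans hRP) hu) huR (V ⊓ Rg) inf_le_left fun w hw => hVcg g u hu w hw.2
    have h2 := card_mul_le (hVR.trans hRP) (hmapP g hg R hRP)
    rw [hcmap g R] at h2
    have h3 : Nat.card V * Nat.card R ≤ t * Nat.card (V ⊓ Rg : Subgroup K) * Nat.card R := by
      calc Nat.card V * Nat.card R ≤ Nat.card P * Nat.card (V ⊓ Rg : Subgroup K) := h2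
        _ ≤ (t * Nat.card R) * Nat.card (V ⊓ Rg : Subgroup K) := Nat.mul_le_mul_right _ hPle
        _ = _ := by ring
    have h4 := Nat.le_of_mul_le_mul_right h3 hR0
    have h5 : t ^ 3 * Nat.card (V ⊓ Rg : Subgroup K) ≤ t * Nat.card (V ⊓ Rg : Subgroup K) := by
      rw [mul_comm (t ^ 3)]
      exact h1.trans h4
    have h6 := Nat.le_of_mul_le_mul_right h5 Nat.card_pos
    have h7 : t ^ 1 < t ^ 3 := Nat.pow_lt_pow_right ht.out.one_lt (by norm_num)
    rw [pow_one] at h7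
    omega
  set Rb := R.map (MulAut.conj b).toMonoidHom with hRb
  set Vb := V.map (MulAut.conj b).toMonoidHom with hVb
  have hVbR : Vb ≤ R := claim b hbN
  have hVRb : V ≤ Rb := by
    intro v hv
    have h1 := claim b⁻¹ ((normalizer (P : Set K)).inv_mem hbN)
    refine ⟨b⁻¹ * v * b, ?_, ?_⟩
    · apply h1
      refine ⟨v, hv, ?_⟩
      show b⁻¹ * v * b⁻¹⁻¹ = b⁻¹ * v * b
      rw [inv_inv]
    · show b * (b⁻¹ * v * b) * b⁻¹ = v
      group
  have hVbRb : Vb ≤ Rb := Subgroup.map_mono hVR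
  have hRbR : ¬ Rb ≤ R := by
    intro h
    apply hbM
    apply H301.SY.mem_norm
    intro r hr
    exact h ⟨r, hr, rfl⟩
  obtain ⟨u, hu, huR⟩ := SetLike.not_le_iff_exists.1 hRbR
  have h1 := key u (hmapP b hbN R hRP hu) huR (V ⊓ Vb) inf_le_left fun w hw => (hVcg b w hw.2 u hu).symm
  have h2 := card_mul_le (le_inf hVR hVRb) (le_inf hVbR hVbRb)
  rw [show Nat.card Vb = Nat.card V from hcmap b V] at h2
  have h3 : Nat.card V * t ^ 3 * Nat.card V ≤ Nat.card (R ⊓ Rb : Subgroup K) * Nat.card V := by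
    calc Nat.card V * t ^ 3 * Nat.card V = (Nat.card V * Nat.card V) * t ^ 3 := by ring
      _ ≤ (Nat.card (R ⊓ Rb : Subgroup K) * Nat.card (V ⊓ Vb : Subgroup K)) * t ^ 3 := Nat.mul_le_mul_right _ h2
      _ = Nat.card (R ⊓ Rb : Subgroup K) * (Nat.card (V ⊓ Vb : Subgroup K) * t ^ 3) := by ring
      _ ≤ _ := Nat.mul_le_mul_left _ h1
  have h4 := Nat.le_of_mul_le_mul_right h3 Nat.card_pos
  have h5 := fix_le hx htp hnum h10 hVt hxV hne (W := ⊥) bot_le (by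
    intro w hw
    rw [mem_bot.1 hw, mul_one, one_mul])
  rw [Subgroup.card_bot, one_mul] at h5
  have h6 : t ^ 8 ≤ Nat.card (R ⊓ Rb : Subgroup K) := by
    calc t ^ 8 = t ^ 5 * t ^ 3 := by ring
      _ ≤ Nat.card V * t ^ 3 := Nat.mul_le_mul_right _ h5
      _ ≤ _ := h4
  have h7 : t * Nat.card (R ⊓ Rb : Subgroup K) ≤ Nat.card R := by
    refine card_lt_mul hRt inf_le_left fun h => ?_
    have h8 : R ≤ Rb := h.trans inf_le_right
    have h9 : R = Rb := Subgroup.eq_of_le_of_card_ge h8 (hcmap b R).le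
    exact hRbR h9.symm.le
  have h8 : t ^ 10 ≤ Nat.card P := by
    calc t ^ 10 = t * (t * t ^ 8) := by ring
      _ ≤ t * (t * Nat.card (R ⊓ Rb : Subgroup K)) := Nat.mul_le_mul_left _ (Nat.mul_le_mul_left _ h6)
      _ ≤ t * Nat.card R := Nat.mul_le_mul_left _ h7
      _ ≤ _ := hPge
  apply h10
  obtain ⟨n, hn⟩ := IsPGroup.iff_card.1 hPt
  rw [hn] at h8
  have h9 := (Nat.pow_le_pow_iff_right ht.out.one_lt).1 h8
  exact (pow_dvd_pow t h9).trans (hn ▸ Subgroup.card_subgroup_dvd_card P)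

/-- **an element of order `p` centralises the `t`-subgroups which it normalises** -/
theorem centralises [IsSimpleGroup K] (hP : ∀ P : Sylow p K, IsCyclic (P : Subgroup K)) (htp : t ≠ p) {x : K}
    (hx : orderOf x = p) (hR : RE x) (ht2 : ¬ t ^ 2 ∣ p - 1) (hnum : ∀ j ≤ 9, p ∣ t ^ j - 1 → j = 0 ∨ 5 ≤ j)
    (h10 : ¬ t ^ 10 ∣ Nat.card K) (hS : SylC p t K) {Q : Subgroup K} (hQ : IsPGroup t Q)
    (hxQ : ∀ a ∈ Q, x * a * x⁻¹ ∈ Q) : ∀ a ∈ Q, x * a = a * x := by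
  by_contra hcon
  obtain ⟨R, hRm, hQR⟩ := exists_maxInv hQ hxQ
  have hxR : ¬ ∀ r ∈ R, x * r = r * x := fun h => hcon fun a ha => h a (hQR ha)
  have F := exists_facts hP htp hx hR ht2 hRm hxR
  have hcen : ∀ T : Sylow t K, R ≤ T → ∀ c : K, orderOf c = t → (∀ a ∈ T, c * a = a * c) → c ∈ omZ t R := by
    intro T hRT c hc hcT
    have hcR : ∀ r ∈ R, c * r = r * c := fun r hr => hcT r (hRT hr)
    have hct : c ^ t = 1 := by rw [← hc]; exact pow_orderOf_eq_one c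
    refine mem_omZ.2 ⟨F.cent c ?_ ⟨1, by rw [pow_one]; exact hct⟩ hcR, hct, hcR⟩
    apply H301.SY.mem_norm
    intro r hr
    rw [hcR r hr, mul_inv_cancel_right]
    exact hr
  have hxV : ∀ v ∈ omZ t R, x * v * x⁻¹ ∈ omZ t R := fun v hv => omZ_conj (H301.SY.mem_norm hRm.inv) hv
  have hne : ¬ ∀ v ∈ omZ t R, x * v = v * x := by
    obtain ⟨T, hRT⟩ := hRm.pgrp.exists_le_sylow
    obtain ⟨c, hc, -, hcT, hpc, -⟩ := hS T
    intro h
    apply hpc
    have h1 := h c (hcen T hRT c hc hcT)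
    have h2 : x ∈ centralizer ({c} : Set K) := by
      rw [mem_centralizer_iff]
      intro y hy
      rw [Set.mem_singleton_iff.1 hy]
      exact h1.symm
    have h3 : orderOf (⟨x, h2⟩ : centralizer ({c} : Set K)) = p := by rw [Subgroup.orderOf_mk]; exact hx
    rw [← h3]
    exact orderOf_dvd_natCard _
  have hVc : ∀ v ∈ omZ t R, ∀ r ∈ R, v * r = r * v := fun v hv => hv.2.2
  obtain ⟨T, hRT, hT⟩ := sylow_le hx htp hnum h10 hRm.pgrp F (omZ_le R) hVc hxV hne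
  obtain ⟨c, hc, -, hcT, hpc, S, hST, hS7, hSc, hSz⟩ := hS T
  have h5 := fix_le hx htp hnum h10 (hRm.pgrp.to_le (omZ_le R)) hxV hne (W := ⊥) bot_le (by
    intro w hw
    rw [mem_bot.1 hw, mul_one, one_mul])
  rw [Subgroup.card_bot, one_mul] at h5
  exact final T hRT hT h10 h5 (omZ_le R) hVc hc hcT hST hS7 hSc hSz

end Cfsg.Agent.H848.NoELocM
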