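import Cfsg.Agent.H609.T5.MFive
import Cfsg.Agent.H199.NSmMon
import Cfsg.Agent.H848.NoELocM

/-!
# S3846: the Sylow 5-subgroups of the Monster

`SylC p 5 M` for the primes `p ≥ 17`: a Sylow 5-subgroup is contained in the centralizer of an element `c` of type 5B;
it contains the extraspecial group `S` of order `5 ^ 7` with centre `⟨c⟩`.
-/

set_option autoImplicit false
set_option maxRecDepth 100000

namespace Cfsg.Agent.H848.NoEMFive

open Cfsg Subgroup Cfsg.Agent.H848.NoELocK Cfsg.Agent.H848.NoELocM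
open Cfsg.Agent.MonsterU Cfsg.Agent.MFive Cfsg.Agent.BpTab Cfsg.Agent.BpSpor.M5 Cfsg.Agent.H847
open Cfsg.Agent.LThreeMB (fr XX Zx zD self toXX toCC be exists_XX_equiv)
open Cfsg.Agent.MonsterU.Ch Cfsg.Agent.H609.T5.Five
open Cfsg.Agent.MonsterU.Lam2 (L2)
open Cfsg.Spor (Co1)

universe u

/-- one Sylow subgroup is enough -/
theorem sylC_of_one {K : Type u} [Group K] [Finite K] {p t : ℕ} [Fact p.Prime] [Fact t.Prime] (T₀ : Sylow t K) {c₀ : K}
    (hc : orderOf c₀ = t) (hcT : c₀ ∈ T₀) (hcc : ∀ a ∈ T₀, c₀ * a = a * c₀)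
    (hpc : ¬ p ∣ Nat.card (centralizer ({c₀} : Set K))) {S : Subgroup K} (hS : S ≤ T₀) (hS7 : Nat.card S = t ^ 7)
    (hSc : ∀ a ∈ S, ∀ b ∈ S, a * b * a⁻¹ * b⁻¹ ∈ zpowers c₀)
    (hSz : ∀ s ∈ S, (∀ b ∈ S, s * b = b * s) → s ∈ zpowers c₀) : SylC p t K := by
  intro T
  obtain ⟨g, hg⟩ := MulAction.exists_smul_eq K T₀ T
  have hmem : ∀ {a : K}, a ∈ T₀ → g * a * g⁻¹ ∈ T := by
    intro a ha
    have h1 : g * a * g⁻¹ ∈ (T : Subgroup K) := by
      rw [← hg, Sylow.coe_subgroup_smul]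
      exact ⟨a, ha, rfl⟩
    exact h1
  have hmem' : ∀ a ∈ T, ∃ b ∈ T₀, a = g * b * g⁻¹ := by
    intro a ha
    have h1 : a ∈ (T : Subgroup K) := ha
    rw [← hg, Sylow.coe_subgroup_smul] at h1
    obtain ⟨b, hb, h2⟩ := h1
    exact ⟨b, hb, h2.symm⟩
  have hz : ∀ {a : K}, a ∈ zpowers c₀ → g * a * g⁻¹ ∈ zpowers (g * c₀ * g⁻¹) := by
    intro a ha
    obtain ⟨k, rfl⟩ := mem_zpowers_iff.1 ha
    exact mem_zpowers_iff.2 ⟨k, conj_zpow⟩
  refine ⟨g * c₀ * g⁻¹, ?_, hmem hcT, ?_, ?_, S.map (MulAut.conj g).toMonoidHom, ?_, ?_, ?_, ?_⟩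
  · rw [← hc]
    exact MulEquiv.orderOf_eq (MulAut.conj g) c₀
  · intro a ha
    obtain ⟨b, hb, rfl⟩ := hmem' a ha
    have h1 := hcc b hb
    calc g * c₀ * g⁻¹ * (g * b * g⁻¹) = g * (c₀ * b) * g⁻¹ := by group
      _ = g * (b * c₀) * g⁻¹ := by rw [h1]
      _ = _ := by group
  · have h1 : centralizer ({g * c₀ * g⁻¹} : Set K) = (centralizer ({c₀} : Set K)).map (MulAut.conj g).toMonoidHom := by
      ext y
      rw [mem_centralizer_singleton_iff]
      constructor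
      · intro h
        refine ⟨g⁻¹ * y * g, ?_, by show g * (g⁻¹ * y * g) * g⁻¹ = y; group⟩
        rw [SetLike.mem_coe, mem_centralizer_singleton_iff]
        calc g⁻¹ * y * g * c₀ = g⁻¹ * (y * (g * c₀ * g⁻¹)) * g := by group
          _ = g⁻¹ * ((g * c₀ * g⁻¹) * y) * g := by rw [h]
          _ = _ := by group
      · rintro ⟨w, hw, rfl⟩
        have h2 := mem_centralizer_singleton_iff.1 hw
        show g * w * g⁻¹ * (g * c₀ * g⁻¹) = g * c₀ * g⁻¹ * (g * w * g⁻¹)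
        calc g * w * g⁻¹ * (g * c₀ * g⁻¹) = g * (w * c₀) * g⁻¹ := by group
          _ = g * (c₀ * w) * g⁻¹ := by rw [h2]
          _ = _ := by group
    rw [h1, Subgroup.card_map_of_injective (MulAut.conj g).injective]
    exact hpc
  · rintro _ ⟨a, ha, rfl⟩
    exact hmem (hS ha)
  · rw [Subgroup.card_map_of_injective (MulAut.conj g).injective]
    exact hS7
  · rintro _ ⟨a, ha, rfl⟩ _ ⟨b, hb, rfl⟩
    have h1 := hz (hSc a ha b hb)
    have e : g * (a * b * a⁻¹ * b⁻¹) * g⁻¹ = (g * a * g⁻¹) * (g * b * g⁻¹) * (g * a * g⁻¹)⁻¹ * (g * b * g⁻¹)⁻¹ := by group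
    rw [e] at h1
    exact h1
  · rintro _ ⟨s, hs, rfl⟩ h
    have h1 : s ∈ zpowers c₀ := by
      apply hSz s hs
      intro b hb
      have h2 := h _ ⟨b, hb, rfl⟩
      exact (MulAut.conj g).injective (by rw [map_mul, map_mul]; exact h2)
    exact hz h1

section

variable {G : Type u} [Group G] {Q : Subgroup G} {z : G} {eta : G → L2}
  {pi : Subgroup.centralizer ({z} : Set G) →* Co1}

/-- **the Sylow 5-subgroups**, from the chart -/
theorem sylC [Finite G] (H : Inp Q z eta pi) {p : ℕ} [Fact p.Prime]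
    (hp : ∀ x : Subgroup.centralizer ({z} : Set G), orderOf x = 5 → fr (pi x) = 1 →
      ¬ p ∣ Nat.card ↥(centralizer ({(x : G)} : Set G))) : SylC p 5 G := by
  obtain ⟨P, x, a, b, c, u, L⟩ := exists_lifts H.h
  obtain ⟨f1, f2, f3, ⟨N, ρ, S, hR⟩, hcon⟩ := exists_local H L.ox L.fx
  have hfA : Finite (XX (pi x)) := Finite.of_surjective ρ hR.surj
  have hna := nonab H L hR
  have hxo : orderOf (x : G) = 5 := by rw [Subgroup.orderOf_coe, L.ox]
  obtain ⟨T₁, hT₁⟩ := hR.Sp.exists_le_sylow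
  have h9 : 5 ^ 9 ∣ Nat.card ↥(centralizer ({(x : G)} : Set G)) := by
    have h1 : Nat.card ρ.ker * Nat.card (XX (pi x)) = Nat.card ↥(centralizer ({(x : G)} : Set G)) := by
      rw [← Subgroup.card_mul_index ρ.ker, Subgroup.index_ker, MonoidHom.range_eq_top.2 hR.surj, Subgroup.card_top]
    have h2 : 5 ^ 7 ∣ Nat.card ρ.ker := by
      rw [← hR.cS]
      exact card_dvd_of_le fun s hs => hR.ρN s (hR.SN hs)
    rw [← h1, JTwoOdd.card_of hR.iso, show 9 = 7 + 2 from rfl, pow_add]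
    exact mul_dvd_mul h2 (by norm_num)
  have h9' : 5 ^ 9 ∣ Nat.card T₁ := T₁.pow_dvd_card_of_pow_dvd_card h9
  set ι := (centralizer ({(x : G)} : Set G)).subtype with hι
  have hιi : Function.Injective ι := Subgroup.subtype_injective _
  have hTp : IsPGroup 5 ↥((T₁ : Subgroup _).map ι) := T₁.isPGroup'.map ι
  have hT9 : 5 ^ 9 ∣ Nat.card ↥((T₁ : Subgroup _).map ι) := by
    rw [card_map_of_injective hιi]
    exact h9'
  have hidx : ¬ 5 ∣ ((T₁ : Subgroup _).map ι).index := by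
    intro h5
    apply H.card
    rw [← ((T₁ : Subgroup _).map ι).card_mul_index, pow_succ]
    exact mul_dvd_mul hT9 h5
  obtain ⟨T₀, hT₀⟩ : ∃ T₀ : Sylow 5 G, (T₀ : Subgroup G) = (T₁ : Subgroup _).map ι := ⟨hTp.toSylow hidx, hTp.toSylow_coe hidx⟩
  have hz : ∀ {y : ↥(centralizer ({(x : G)} : Set G))}, y ∈ zpowers (self (x : G)) → ι y ∈ zpowers (x : G) := by
    intro y hy
    obtain ⟨k, rfl⟩ := mem_zpowers_iff.1 hy
    exact mem_zpowers_iff.2 ⟨k, by rw [map_zpow]; rfl⟩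
  have hmem : ∀ y, y ∈ T₀ ↔ y ∈ (T₁ : Subgroup _).map ι := by
    intro y
    rw [← hT₀]
    exact Iff.rfl
  refine sylC_of_one T₀ (c₀ := (x : G)) hxo ?_ ?_ (hp x L.ox L.fx) (S := S.map ι) ?_ ?_ ?_ ?_
  · rw [hmem]
    exact ⟨self (x : G), hT₁ hR.xS, rfl⟩
  · intro y hy
    rw [hmem] at hy
    obtain ⟨w, hw, rfl⟩ := hy
    exact (mem_centralizer_singleton_iff.1 w.2).symm
  · rw [hT₀]
    exact Subgroup.map_mono hT₁
  · rw [card_map_of_injective hιi]
    exact hR.cS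
  · rintro _ ⟨s, hs, rfl⟩ _ ⟨t, ht, rfl⟩
    obtain ⟨i, hi⟩ := hR.rad.comm (by norm_num) (hR.SN hs) (hR.SN ht)
    have h1 : s * t * s⁻¹ * t⁻¹ = (self (x : G)) ^ i := by
      have h2 : (self (x : G)) ^ i * t = t * (self (x : G)) ^ i :=
        (Commute.zpow_left (show Commute (self (x : G)) t from (hR.rad.xc t).symm) i)
      rw [hi, ← h2, mul_inv_cancel_right]
    have h3 := hz (y := s * t * s⁻¹ * t⁻¹) (by rw [h1]; exact zpow_mem_zpowers _ i)
    rw [map_mul, map_mul, map_mul, map_inv, map_inv] at h3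
    exact h3
  · rintro _ ⟨s, hs, rfl⟩ h
    apply hz
    refine hR.center_le hna hs fun b hb => ?_
    have h1 := h _ ⟨b, hb, rfl⟩
    apply hιi
    rw [map_mul, map_mul]
    exact h1.symm

end

section Model

open Cfsg.Agent.MonsterX Cfsg.Agent.MonsterX.InstData Cfsg.Agent.MonsterX.MainPack
open Cfsg.Agent.MonsterX.MainBasic Cfsg.Agent.MonsterX.MainSimple Cfsg.Agent.MonsterX.Model
open Cfsg.Agent.MonsterU.Assembly Cfsg.Agent.MonsterP
open Cfsg.Agent.BpSpor.MBigModel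
open Cfsg.Agent.LThreeMB (KChart.chart)

/-- **the Sylow 5-subgroups of the Monster** -/
theorem sylC_model {p : ℕ} [Fact p.Prime] (hp : H199.NSmMon.Big p) : SylC p 5 MG := by
  have hfin := MFive.Row.finite_model
  have H : Inp _ _ _ _ := ⟨KChart.chart KDone.lft MFive.Row.hc, BpSpor.M5.trNe,
    CpAutBFive.Closed.coFive H546.MFiveFull.hJ, H546.MFiveFull.hJ, CpAutBFive.Closed.hnEight, BpSpor.M5.hasPair,
    BpSpor.M5.exists_k BpSpor.M5.hA, H546.MFiveFull.card_model, fun r hr => CpAutBFive.EvenRow.cases hr⟩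
  exact sylC H fun x hx hfr => H199.NSmMon.five_zero hx hfr hp

end Model

end Cfsg.Agent.H848.NoEMFive
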