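import Cfsg.Agent.H820.Par.Base
import Cfsg.Agent.H821.Frame

/-!
# S2198: case 2 (`2^{1+4} ≤ O₂(C(z))`)

`a = z^g ∈ Q`: the elements of `Q^g ∩ C(z)` act on `Λ/2Λ` as sign changes of the frame of `a`; for `v` with odd
coordinates, `v + ε_c v + ε_d v + ε_c ε_d v` is not congruent to `8 e` modulo `2 Λ`.
-/

set_option autoImplicit false

namespace Cfsg.Agent.H848.JCaseTwo

open Cfsg Cfsg.Spor Cfsg.Agent.MonsterX Cfsg.Agent.BpSpor.MBigModel Cfsg.Agent.MonsterU
open Cfsg.Agent.MonsterU.Lam2 (L2 cl cl_surjective cl_eq add_self)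
open Cfsg.Agent.MonsterU.CoFrame (V23 mem_V23 mem_V23_of_one hw hw_apply hw_mem u0 coe_e8 parity)
open Cfsg.Agent.MonsterU.CoFrameL2
open Cfsg.Agent.SporadicA
open Cfsg.Agent.SporadicA.Co0Mono (signCo0 signCo0_smul signMap signMap_apply sgn sgn_zero sgn_one)
open Cfsg.Agent.SporadicStructure.Co0Base (e8 e8_coe)
open Cfsg.Agent.CoOneType.CoOneE (pr E mem_E)
open Cfsg.Agent.H821.Frame (Good exists_good map_conj_eq)
open Cfsg.Agent.H820.Par
open Subgroup (centralizer mem_centralizer_singleton_iff)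

theorem zmod2 (a : ZMod 2) : a = 0 ∨ a = 1 := by revert a; decide

theorem one_ne : (1 : ZMod 2) ≠ 0 := by decide

theorem coe_add' (u v : leechLattice) (i : GolayPt) :
    ((u + v : leechLattice) : GolayPt → ℤ) i = (u : GolayPt → ℤ) i + (v : GolayPt → ℤ) i := rfl

theorem coe_sub' (u v : leechLattice) (i : GolayPt) :
    ((u - v : leechLattice) : GolayPt → ℤ) i = (u : GolayPt → ℤ) i - (v : GolayPt → ℤ) i := rfl

theorem coe_two' (u : leechLattice) (i : GolayPt) :
    ((2 • u : leechLattice) : GolayPt → ℤ) i = 2 * (u : GolayPt → ℤ) i := by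
  rw [two_nsmul, coe_add']; ring

/-- `4 e_∞` is not in the lattice -/
theorem no_four (u : leechLattice) (h : ∀ i, (u : GolayPt → ℤ) i = if i = none then 4 else 0) : False := by
  have h5 := Lam2.dvd_dot u u0
  have h6 : dotInt (u : GolayPt → ℤ) (u0 : GolayPt → ℤ) = -12 := by
    show ∑ i, (u : GolayPt → ℤ) i * (if i = none then -3 else 1 : ℤ) = -12
    rw [Finset.sum_congr rfl fun i _ => by rw [h i], Finset.sum_eq_single none]
    · norm_num
    · intro b _ hb
      rw [if_neg hb, zero_mul]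
    · intro hh
      exact absurd (Finset.mem_univ _) hh
  rw [h6] at h5
  omega

/-- The lattice argument. -/
theorem core (v : leechLattice) (hv : v ∉ V23) (c d : golayCode)
    (h : cl v + cl (signCo0 c • v) + cl (signCo0 d • v) + cl (signCo0 c • signCo0 d • v) = cl (e8 none)) : False := by
  have hodd : ∀ i, ¬ (2 : ℤ) ∣ (v : GolayPt → ℤ) i := fun i hi => hv (mem_V23_of_one hi)
  rw [← map_add, ← map_add, ← map_add, cl_eq] at h
  obtain ⟨w, hw'⟩ := h
  have hco : ∀ i, (w : GolayPt → ℤ) i =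
      (if (c : GolayPt → ZMod 2) i = 0 ∧ (d : GolayPt → ZMod 2) i = 0 then 2 * (v : GolayPt → ℤ) i else 0) -
        (if i = none then 4 else 0) := by
    intro i
    have h1 := congrArg (fun t : leechLattice => (t : GolayPt → ℤ) i) hw'
    simp only [coe_sub', coe_add', coe_two', signCo0_smul, signMap_apply, coe_e8] at h1
    have h2 : (if i = none then (8 : ℤ) else 0) = 2 * (if i = none then 4 else 0) := by split_ifs <;> norm_num
    rcases zmod2 ((c : GolayPt → ZMod 2) i) with hc | hc <;> rcases zmod2 ((d : GolayPt → ZMod 2) i) with hd | hd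
    · rw [hc, hd, sgn_zero] at h1
      rw [if_pos ⟨hc, hd⟩]
      linarith
    · rw [hc, hd, sgn_zero, sgn_one] at h1
      rw [if_neg fun hh => one_ne (hd.symm.trans hh.2)]
      linarith
    · rw [hc, hd, sgn_zero, sgn_one] at h1
      rw [if_neg fun hh => one_ne (hc.symm.trans hh.1)]
      linarith
    · rw [hc, hd, sgn_one] at h1
      rw [if_neg fun hh => one_ne (hc.symm.trans hh.1)]
      linarith
  have hw23 : w ∈ V23 := by
    rw [mem_V23]
    intro i
    rw [hco i]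
    split_ifs <;> omega
  obtain ⟨e, he⟩ : ∃ e : golayCode, (e : GolayPt → ZMod 2) = hw w := ⟨⟨_, hw_mem hw23⟩, rfl⟩
  have hev : ∀ i, (e : GolayPt → ZMod 2) i =
      if (c : GolayPt → ZMod 2) i = 0 ∧ (d : GolayPt → ZMod 2) i = 0 then 1 else 0 := by
    intro i
    rw [he, hw_apply, hco i]
    have h1 := hodd i
    by_cases hcd : (c : GolayPt → ZMod 2) i = 0 ∧ (d : GolayPt → ZMod 2) i = 0
    · rw [if_pos hcd, if_pos hcd]
      have h2 : (((2 * (v : GolayPt → ℤ) i - (if i = none then 4 else 0)) / 2 : ℤ) : ZMod 2) = ((1 : ℤ) : ZMod 2) := by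
        rw [ZMod.intCast_eq_intCast_iff_dvd_sub]
        push_cast
        split_ifs <;> omega
      rw [h2, Int.cast_one]
    · rw [if_neg hcd, if_neg hcd]
      have h2 : (((0 - (if i = none then 4 else 0)) / 2 : ℤ) : ZMod 2) = ((0 : ℤ) : ZMod 2) := by
        rw [ZMod.intCast_eq_intCast_iff_dvd_sub]
        push_cast
        split_ifs <;> omega
      rw [h2, Int.cast_zero]
  refine no_four (v - signCo0 e • v - w) fun i => ?_
  rw [coe_sub', coe_sub', signCo0_smul, signMap_apply, hev i, hco i]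
  by_cases hcd : (c : GolayPt → ZMod 2) i = 0 ∧ (d : GolayPt → ZMod 2) i = 0
  · rw [if_pos hcd, if_pos hcd, sgn_one]
    ring
  · rw [if_neg hcd, if_neg hcd, sgn_zero]
    ring

section

variable {G : Type*} [Group G] {Q : Subgroup G} {z : G} {eta : G → L2}
  {pi : Subgroup.centralizer ({z} : Set G) →* Co1}

theorem general (h : Ch.Chart Q z eta pi) {a τ p q x : G} (gd : Good h a τ) (hp : p ∈ AmalInf.CA Q z τ)
    (hq : q ∈ AmalInf.CA Q z τ) (hx : x ∈ Q) (hxa : x * a ≠ a * x)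
    (hprod : x * (p * x * p⁻¹) * (q * x * q⁻¹) * ((p * q) * x * (p * q)⁻¹) = a ∨
      x * (p * x * p⁻¹) * (q * x * q⁻¹) * ((p * q) * x * (p * q)⁻¹) = a * z) : False := by
  have hpz : p ∈ Subgroup.centralizer ({z} : Set G) := hp.2
  have hqz : q ∈ Subgroup.centralizer ({z} : Set G) := hq.2
  have hpE := AmalInf.pi_CA_mem_E h gd.mem gd.eq gd.τz gd.τs hp hpz
  have hqE := AmalInf.pi_CA_mem_E h gd.mem gd.eq gd.τz gd.τs hq hqz
  obtain ⟨c, hc⟩ := (mem_E _).1 hpE
  obtain ⟨d, hd⟩ := (mem_E _).1 hqE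
  obtain ⟨v, hv⟩ := cl_surjective (eta x)
  have hv23 : v ∉ V23 := by
    intro hv'
    apply hxa
    exact (AmalGen.comm_y h gd.mem gd.eq hx).2 (by rw [← hv]; exact cl_mem_W23.2 hv')
  have hcm : ∀ r (hr : r ∈ Subgroup.centralizer ({z} : Set G)) (y : G), y ∈ Q → r * y * r⁻¹ ∈ Q := by
    intro r hr y hy
    exact h.large.conj_mem r (mem_centralizer_singleton_iff.1 hr) y hy
  have he : ∀ r (hr : r ∈ Subgroup.centralizer ({z} : Set G)), eta (r * x * r⁻¹) = pi ⟨r, hr⟩ • eta x := by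
    intro r hr
    exact h.eta_conj ⟨r, hr⟩ x hx
  have hpqz : p * q ∈ Subgroup.centralizer ({z} : Set G) := Subgroup.mul_mem _ hpz hqz
  have h1 := hcm p hpz x hx
  have h2 := hcm q hqz x hx
  have h3 := hcm (p * q) hpqz x hx
  have hA : eta (x * (p * x * p⁻¹) * (q * x * q⁻¹) * ((p * q) * x * (p * q)⁻¹)) = f0 := by
    rcases hprod with e | e
    · rw [e]; exact gd.eq
    · rw [e, h.eta_mul _ gd.mem _ h.large.z_mem, h.eta_z, add_zero]; exact gd.eq
  have hpq : pi ⟨p * q, hpqz⟩ = pi ⟨p, hpz⟩ * pi ⟨q, hqz⟩ := by rw [← map_mul]; rfl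
  rw [h.eta_mul _ (Q.mul_mem (Q.mul_mem hx h1) h2) _ h3, h.eta_mul _ (Q.mul_mem hx h1) _ h2, h.eta_mul _ hx _ h1,
    he p hpz, he q hqz, he (p * q) hpqz, hpq, hc, hd, ← hv, mul_smul, pr_smul_cl, pr_smul_cl, pr_smul_cl] at hA
  exact core v hv23 c d hA

end

/-- **Case 2 of S2198.** -/
theorem caseTwo : CaseTwoStmt := by
  intro g a p q x haQ hga haz hxQ hxa hp hq hpz hqz hprod
  have : Finite MG := Cfsg.Agent.BpSpor.MBigModel.finite
  obtain ⟨σ, τ, gd⟩ := exists_good H820.Par.chart haQ haz ⟨g, hga⟩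
  have h := H820.Par.chart.smul σ
  -- `p` and `q` are in `Q ^ τ ∩ C(z)`
  have hmap := map_conj_eq h (g := g) (τ := τ) (hga.trans gd.τz.symm)
  have hCA : ∀ r : MG, (∃ s ∈ QQ, r = g * s * g⁻¹) → r * zz = zz * r → r ∈ AmalInf.CA QQ zz τ := by
    rintro r ⟨s, hs, rfl⟩ hr
    refine ⟨?_, mem_centralizer_singleton_iff.2 hr⟩
    show g * s * g⁻¹ ∈ QQ.map (MulAut.conj τ).toMonoidHom
    rw [← hmap]
    exact ⟨s, hs, rfl⟩
  refine general _ gd (hCA p hp hpz) (hCA q hq hqz) hxQ ?_ hprod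
  intro e
  rw [hxa] at e
  exact h.large.z_ne (mul_eq_left.1 e)

end Cfsg.Agent.H848.JCaseTwo
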