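import Mathlib

/-!
# The action of the normaliser of an elementary abelian 2-group

`exists_iota`: coordinates on an elementary abelian 2-group `E` of order `2 ^ n`; `exists_beta`: the homomorphism of
`N(E)` to `SL(n, 2)`; `beta_surj`: it is onto if `N(E)` is transitive on the involutions of `E` and contains the
transvections with one centre.
-/

set_option autoImplicit false

namespace Cfsg.Agent.H848.GLAct

open Matrix

abbrev V (n : ℕ) := Fin n → ZMod 2

/-- the natural action -/
def act {n : ℕ} (A : SpecialLinearGroup (Fin n) (ZMod 2)) (x : V n) : V n := A.1 *ᵥ x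

theorem act_mul {n : ℕ} (A B : SpecialLinearGroup (Fin n) (ZMod 2)) (x : V n) :
    act (A * B) x = act A (act B x) := by
  show (A * B).1 *ᵥ x = A.1 *ᵥ (B.1 *ᵥ x)
  rw [Matrix.mulVec_mulVec]
  rfl

theorem act_one {n : ℕ} (x : V n) : act 1 x = x := Matrix.one_mulVec x

theorem act_zero {n : ℕ} (A : SpecialLinearGroup (Fin n) (ZMod 2)) : act A 0 = 0 := Matrix.mulVec_zero _

theorem act_add {n : ℕ} (A : SpecialLinearGroup (Fin n) (ZMod 2)) (x y : V n) :
    act A (x + y) = act A x + act A y := Matrix.mulVec_add _ _ _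

theorem act_smul {n : ℕ} (A : SpecialLinearGroup (Fin n) (ZMod 2)) (a : ZMod 2) (x : V n) :
    act A (a • x) = a • act A x := Matrix.mulVec_smul _ _ _

theorem act_ext {n : ℕ} {A B : SpecialLinearGroup (Fin n) (ZMod 2)} (h : ∀ x, act A x = act B x) : A = B := by
  apply Subtype.ext
  apply Matrix.mulVec_injective
  funext x
  exact h x

theorem exists_coord {A : Type*} [AddCommGroup A] [Finite A] (h : ∀ a : A, a + a = 0) {n : ℕ}
    (hcard : Nat.card A = 2 ^ n) : Nonempty (V n ≃+ A) := by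
  let _ : Module (ZMod 2) A := AddCommGroup.zmodModule (n := 2) (by
    intro x; rw [two_nsmul]; exact h x)
  have h1 : Nat.card A = Nat.card (ZMod 2) ^ Module.finrank (ZMod 2) A := Module.natCard_eq_pow_finrank
  have h2 : Module.finrank (ZMod 2) A = n := by
    rw [hcard] at h1
    have h3 : Nat.card (ZMod 2) = 2 := by simp
    rw [h3] at h1
    exact (Nat.pow_right_injective (le_refl 2) h1).symm
  have e : (V n) ≃ₗ[ZMod 2] A := LinearEquiv.ofFinrankEq _ _ (by
    rw [h2, Module.finrank_fintype_fun_eq_card, Fintype.card_fin])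
  exact ⟨e.toAddEquiv⟩

variable {G : Type*} [Group G]

/-- coordinates on an elementary abelian 2-subgroup -/
structure Coord (E : Subgroup G) (n : ℕ) (ι : V n → G) : Prop where
  inj : Function.Injective ι
  add : ∀ x y, ι (x + y) = ι x * ι y
  mem : ∀ g, g ∈ E ↔ ∃ x, ι x = g

theorem exists_iota (E : Subgroup G) (hab : ∀ a ∈ E, ∀ b ∈ E, a * b = b * a)
    (hsq : ∀ a ∈ E, a * a = 1) {n : ℕ} (hcard : Nat.card E = 2 ^ n) : ∃ ι : V n → G, Coord E n ι := by
  let _ : CommGroup E := { (inferInstance : Group E) with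
    mul_comm := fun a b => Subtype.ext (hab a a.2 b b.2) }
  have hfin : Finite E := Nat.finite_of_card_ne_zero (by rw [hcard]; positivity)
  have hfin' : Finite (Additive E) := hfin
  obtain ⟨e⟩ := exists_coord (A := Additive E) (fun a => by
    apply Additive.toMul.injective
    apply Subtype.ext
    exact hsq _ (Additive.toMul a).2) (n := n) hcard
  refine ⟨fun x => ((Additive.toMul (e x) : E) : G), ?_, ?_, ?_⟩
  · intro x y hxy
    apply e.injective
    apply Additive.toMul.injective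
    exact Subtype.ext hxy
  · intro x y
    show ((Additive.toMul (e (x + y)) : E) : G) = _
    rw [map_add]
    rfl
  · intro g
    constructor
    · intro hg
      refine ⟨e.symm (Additive.ofMul ⟨g, hg⟩), ?_⟩
      show ((Additive.toMul (e (e.symm (Additive.ofMul ⟨g, hg⟩))) : E) : G) = g
      rw [AddEquiv.apply_symm_apply]
      rfl
    · rintro ⟨x, rfl⟩
      exact (Additive.toMul (e x)).2

namespace Coord

variable {E : Subgroup G} {n : ℕ} {ι : V n → G} (c : Coord E n ι)
include c

theorem zero : ι 0 = 1 := by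
  have h := c.add 0 0
  rw [add_zero] at h
  exact (left_eq_mul.1 h)

theorem ι_mem (x : V n) : ι x ∈ E := (c.mem _).2 ⟨x, rfl⟩

theorem exists_beta : ∃ β : Subgroup.normalizer (E : Set G) →* SpecialLinearGroup (Fin n) (ZMod 2),
    ∀ (g : Subgroup.normalizer (E : Set G)) (x : V n),
      ι (act (β g) x) = (g : G) * ι x * (g : G)⁻¹ := by
  have h1 : ∀ (g : Subgroup.normalizer (E : Set G)) (x : V n), ∃ y, ι y = (g : G) * ι x * (g : G)⁻¹ :=
    fun g x => (c.mem _).1 ((Subgroup.mem_normalizer_iff.1 g.2 _).1 (c.ι_mem x))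
  choose A hA using h1
  let L : Subgroup.normalizer (E : Set G) → (V n →+ V n) := fun g =>
    { toFun := A g
      map_zero' := by
        apply c.inj
        rw [hA, c.zero]
        group
      map_add' := by
        intro x y
        apply c.inj
        rw [hA, c.add, c.add, hA, hA]
        group }
  let M : Subgroup.normalizer (E : Set G) → Matrix (Fin n) (Fin n) (ZMod 2) := fun g =>
    LinearMap.toMatrix' (AddMonoidHom.toZModLinearMap 2 (L g))
  have hM : ∀ g x, M g *ᵥ x = A g x := by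
    intro g x
    show LinearMap.toMatrix' (AddMonoidHom.toZModLinearMap 2 (L g)) *ᵥ x = _
    rw [← Matrix.toLin'_apply, Matrix.toLin'_toMatrix']
    rfl
  have hM' : ∀ g x, ι (M g *ᵥ x) = (g : G) * ι x * (g : G)⁻¹ := fun g x => by rw [hM, hA]
  have hmul : ∀ g k, M (g * k) = M g * M k := by
    intro g k
    apply Matrix.mulVec_injective
    funext x
    apply c.inj
    rw [← Matrix.mulVec_mulVec, hM', hM', hM']
    show ((g : G) * k) * ι x * ((g : G) * k)⁻¹ = _
    group
  have hone : M 1 = 1 := by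
    apply Matrix.mulVec_injective
    funext x
    apply c.inj
    rw [hM', Matrix.one_mulVec]
    show (1 : G) * ι x * (1 : G)⁻¹ = _
    group
  have hdet : ∀ g, (M g).det = 1 := by
    intro g
    have h2 : (M g).det * (M g⁻¹).det = 1 := by
      rw [← Matrix.det_mul, ← hmul, mul_inv_cancel, hone, Matrix.det_one]
    have key : ∀ a b : ZMod 2, a * b = 1 → a = 1 := by decide
    exact key _ _ h2
  refine ⟨MonoidHom.mk' (fun g => ⟨M g, hdet g⟩) fun g k => ?_, fun g x => hM' g x⟩
  apply Subtype.ext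
  exact hmul g k

section

variable (β : Subgroup.normalizer (E : Set G) →* SpecialLinearGroup (Fin n) (ZMod 2))
  (hβ : ∀ (g : Subgroup.normalizer (E : Set G)) (x : V n),
      ι (act (β g) x) = (g : G) * ι x * (g : G)⁻¹)
include hβ

theorem ker_beta : β.ker = (Subgroup.centralizer (E : Set G)).subgroupOf _ := by
  ext g
  rw [MonoidHom.mem_ker, Subgroup.mem_subgroupOf, Subgroup.mem_centralizer_iff]
  constructor
  · intro h e he
    obtain ⟨x, rfl⟩ := (c.mem e).1 he
    have h1 := hβ g x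
    rw [h] at h1
    have h2 : ι x = (g : G) * ι x * (g : G)⁻¹ := by
      rw [← h1, act_one]
    exact (eq_mul_inv_iff_mul_eq.1 h2)
  · intro h
    apply act_ext
    intro x
    apply c.inj
    rw [hβ, ← h (ι x) (c.ι_mem x), act_one]
    group

variable {v₀ : V n}
  (htr : ∀ x : V n, x ≠ 0 → ∃ g ∈ Subgroup.normalizer (E : Set G), g * ι v₀ * g⁻¹ = ι x)
  (htv : ∀ f : V n →ₗ[ZMod 2] ZMod 2, f v₀ = 0 →
    ∃ g ∈ Subgroup.normalizer (E : Set G), ∀ x, g * ι x * g⁻¹ = ι (x + f x • v₀))
include htr htv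

theorem exists_transvection {v : V n} (hv : v ≠ 0) (f : V n →ₗ[ZMod 2] ZMod 2) (hf : f v = 0) :
    ∃ g : Subgroup.normalizer (E : Set G), ∀ x, act (β g) x = x + f x • v := by
  obtain ⟨k, hk, hkv⟩ := htr v hv
  set k' : Subgroup.normalizer (E : Set G) := ⟨k, hk⟩ with hk'
  have h1 : act (β k') v₀ = v := by
    apply c.inj
    rw [hβ]; exact hkv
  obtain ⟨g, hg, hgf⟩ := htv (f ∘ₗ Matrix.toLin' (β k').1) (by
    rw [LinearMap.comp_apply, Matrix.toLin'_apply]
    show f (act (β k') v₀) = 0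
    rw [h1, hf])
  set g' : Subgroup.normalizer (E : Set G) := ⟨g, hg⟩ with hg'
  have h2 : ∀ x, act (β g') x = x + f (act (β k') x) • v₀ := by
    intro x
    apply c.inj
    rw [hβ]
    exact hgf x
  refine ⟨k' * g' * k'⁻¹, fun x => ?_⟩
  have h3 : act (β k') (act (β k'⁻¹) x) = x := by
    rw [← act_mul, ← map_mul, mul_inv_cancel, map_one, act_one]
  rw [map_mul, map_mul, act_mul, act_mul, h2, act_add, act_smul, h3, h1]

/-- **The homomorphism is onto.** -/
theorem beta_surj : Function.Surjective β := by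
  have key : ∀ M : Matrix (Fin n) (Fin n) (ZMod 2), M.det ≠ 0 →
      ∃ g : Subgroup.normalizer (E : Set G), (β g).1 = M := by
    intro M hM
    refine Matrix.diagonal_transvection_induction_of_det_ne_zero
      (fun M => ∃ g : Subgroup.normalizer (E : Set G), (β g).1 = M) M hM
      ?_ ?_ ?_
    · intro D hD
      have hD1 : D = 1 := by
        rw [Matrix.det_diagonal] at hD
        funext i
        have h1 : D i ≠ 0 := fun h => hD (Finset.prod_eq_zero (Finset.mem_univ i) h)
        have key : ∀ a : ZMod 2, a ≠ 0 → a = 1 := by decide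
        exact key _ h1
      refine ⟨1, ?_⟩
      rw [hD1, map_one]
      exact (Matrix.diagonal_one).symm
    · intro t
      have hne : (Pi.single t.i 1 : V n) ≠ 0 := by
        intro h
        have := congrFun h t.i
        rw [Pi.single_eq_same] at this
        exact one_ne_zero this
      obtain ⟨g, hg⟩ := exists_transvection c β hβ htr htv hne (t.c • LinearMap.proj t.j) (by
        rw [LinearMap.smul_apply, LinearMap.proj_apply, Pi.single_eq_of_ne t.hij.symm, smul_zero])
      refine ⟨g, ?_⟩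
      apply Matrix.mulVec_injective
      funext x
      show act (β g) x = t.toMatrix *ᵥ x
      rw [hg]
      unfold TransvectionStruct.toMatrix
      rw [Matrix.transvection, Matrix.add_mulVec, Matrix.one_mulVec]
      congr 1
      funext i
      rw [Matrix.single_mulVec]
      simp only [LinearMap.smul_apply, LinearMap.proj_apply, smul_eq_mul, Pi.smul_apply]
      rw [Pi.single_apply, Function.update_apply, mul_ite, mul_one, mul_zero]
      rfl
    · rintro M N hM hN ⟨g, hg⟩ ⟨k, hk⟩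
      exact ⟨g * k, by rw [map_mul, ← hg, ← hk]; rfl⟩
  intro A
  obtain ⟨g, hg⟩ := key A.1 (by rw [A.2]; exact one_ne_zero)
  exact ⟨g, Subtype.ext hg⟩

omit htv in
/-- transitivity of `SL(n, 2)` -/
theorem trans_SL {v w : V n} (hv : v ≠ 0) (hw : w ≠ 0) :
    ∃ A : SpecialLinearGroup (Fin n) (ZMod 2), act A v = w := by
  obtain ⟨g, hg, h1⟩ := htr v hv
  obtain ⟨k, hk, h2⟩ := htr w hw
  refine ⟨β (⟨k, hk⟩ * ⟨g, hg⟩⁻¹), ?_⟩
  apply c.inj
  rw [hβ]
  show (k * g⁻¹) * ι v * (k * g⁻¹)⁻¹ = ι w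
  rw [← h1, ← h2]
  group

end

end Coord

/-- a normal 2-subgroup of `SL(n, 2)` is trivial -/
theorem sl_core {n : ℕ} (htr : ∀ v w : V n, v ≠ 0 → w ≠ 0 →
    ∃ A : SpecialLinearGroup (Fin n) (ZMod 2), act A v = w)
    (K : Subgroup (SpecialLinearGroup (Fin n) (ZMod 2))) (hK : K.Normal) (h2 : IsPGroup 2 K) : K = ⊥ := by
  rw [eq_bot_iff]
  intro k hk
  rw [Subgroup.mem_bot]
  -- the action on the vectors
  let _ : MulAction K (V n) :=
    { smul := fun k x => act (k : SpecialLinearGroup (Fin n) (ZMod 2)) x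
      one_smul := fun x => act_one x
      mul_smul := fun a b x => act_mul _ _ x }
  by_cases hn : ∃ v : V n, v ≠ 0
  · have h3 : 2 ∣ Nat.card (V n) := by
      have h4 : Nat.card (V n) = 2 ^ n := by simp
      rw [h4]
      have hn' : n ≠ 0 := by
        rintro rfl
        obtain ⟨v, hv⟩ := hn
        exact hv (Subsingleton.elim _ _)
      exact dvd_pow_self 2 hn'
    obtain ⟨v, hv, hv0⟩ := h2.exists_fixed_point_of_prime_dvd_card_of_fixed_point (V n) h3 (a := (0 : V n)) (by
      intro k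
      show act (k : SpecialLinearGroup (Fin n) (ZMod 2)) 0 = 0
      rw [act_zero])
    apply act_ext
    intro w
    rw [act_one]
    by_cases hw : w = 0
    · rw [hw, act_zero]
    · obtain ⟨A, hA⟩ := htr v w (fun h => hv0 h.symm) hw
      have h5 := hK.conj_mem k hk A⁻¹
      have h6 := hv ⟨_, h5⟩
      have h7 : act (A⁻¹ * k * A⁻¹⁻¹) v = v := h6
      rw [← hA]
      have h8 : k * A = A * (A⁻¹ * k * A⁻¹⁻¹) := by group
      rw [← act_mul, h8, act_mul, h7]
  · push Not at hn
    apply act_ext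
    intro w
    rw [hn w, act_zero, act_zero]

set_option maxRecDepth 10000 in
/-- a normal 2-subgroup of the symmetric group of degree 3 is trivial -/
theorem s3_core (L : Subgroup (Equiv.Perm (Fin 3))) (hn : L.Normal) (hp : IsPGroup 2 L) : L = ⊥ := by
  rw [eq_bot_iff]
  intro σ hσ
  rw [Subgroup.mem_bot]
  by_contra h1
  have h5 : ∃ τ : Equiv.Perm (Fin 3), (σ * (τ * σ * τ⁻¹)) ^ 3 = 1 ∧ σ * (τ * σ * τ⁻¹) ≠ 1 := by
    have : ∀ σ : Equiv.Perm (Fin 3), ¬ σ = 1 →
      ∃ τ : Equiv.Perm (Fin 3), (σ * (τ * σ * τ⁻¹)) ^ 3 = 1 ∧ σ * (τ * σ * τ⁻¹) ≠ 1 := by decide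
    exact this σ h1
  obtain ⟨τ, h6, h7⟩ := h5
  have h8 : σ * (τ * σ * τ⁻¹) ∈ L := L.mul_mem hσ (hn.conj_mem _ hσ _)
  obtain ⟨k, hk⟩ := hp ⟨_, h8⟩
  have h9 : (σ * (τ * σ * τ⁻¹)) ^ 2 ^ k = 1 := congrArg Subtype.val hk
  have h10 : orderOf (σ * (τ * σ * τ⁻¹)) ∣ 2 ^ k := orderOf_dvd_of_pow_eq_one h9
  have h11 : orderOf (σ * (τ * σ * τ⁻¹)) ∣ 3 := orderOf_dvd_of_pow_eq_one h6
  have h12 : Nat.Coprime 3 (2 ^ k) := Nat.Coprime.pow_right k (by norm_num)
  have h13 := Nat.eq_one_of_dvd_coprimes h12 h11 h10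
  exact h7 (orderOf_eq_one_iff.1 h13)

/-- normal 2-subgroups of a direct product -/
theorem prod_core {A B : Type*} [Group A] [Group B]
    (hA : ∀ K : Subgroup A, K.Normal → IsPGroup 2 K → K = ⊥)
    (hB : ∀ K : Subgroup B, K.Normal → IsPGroup 2 K → K = ⊥)
    (K : Subgroup (A × B)) (hK : K.Normal) (h2 : IsPGroup 2 K) : K = ⊥ := by
  have h3 := hA (K.map (MonoidHom.fst A B)) (hK.map _ Prod.fst_surjective) (h2.map _)
  have h4 := hB (K.map (MonoidHom.snd A B)) (hK.map _ Prod.snd_surjective) (h2.map _)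
  rw [eq_bot_iff]
  rintro ⟨a, b⟩ hab
  have h5 : a ∈ K.map (MonoidHom.fst A B) := ⟨(a, b), hab, rfl⟩
  have h6 : b ∈ K.map (MonoidHom.snd A B) := ⟨(a, b), hab, rfl⟩
  rw [h3, Subgroup.mem_bot] at h5
  rw [h4, Subgroup.mem_bot] at h6
  rw [Subgroup.mem_bot, h5, h6]
  rfl

end Cfsg.Agent.H848.GLAct
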