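import Cfsg.Agent.H729.PairBase
import Cfsg.Agent.BpSpor.MBigCo
import Cfsg.Agent.CpAutBig.SevenFix

/-!
# The centralizer in `Co0` of an element of order 7 with a fixed vector

`seven_dvd`: its order is divisible by `392` (it is at most `4704`).
-/

set_option autoImplicit false

namespace Cfsg.Agent.H848.McLSeven

open Cfsg Subgroup
open Cfsg.Agent.SporadicA.GolayBase
open Cfsg.Agent.SporadicA.Co0Mono hiding smul_add smul_sub smul_neg smul_zero
open Cfsg.Agent.CpAutBig Cfsg.Agent.CpAutBig.SevenFix Cfsg.Agent.CpAutBig.SevenPerm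

/-! ### Sign changes -/

/-- the invariant words -/
def S : AddSubgroup golayCode where
  carrier := {c | wordPerm ⟨pi7, pi7_mem⟩ c = c}
  zero_mem' := by
    apply Subtype.ext
    rfl
  add_mem' := by
    intro a b ha hb
    apply Subtype.ext
    have ha' := congrArg Subtype.val (show wordPerm ⟨pi7, pi7_mem⟩ a = a from ha)
    have hb' := congrArg Subtype.val (show wordPerm ⟨pi7, pi7_mem⟩ b = b from hb)
    funext i
    have h1 := congrFun ha' i
    have h2 := congrFun hb' i
    rw [wordPerm_apply] at h1 h2
    rw [wordPerm_apply]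
    show (a : GolayPt → ZMod 2) _ + (b : GolayPt → ZMod 2) _ = (a : GolayPt → ZMod 2) i + (b : GolayPt → ZMod 2) i
    rw [h1, h2]
  neg_mem' := by
    intro a ha
    apply Subtype.ext
    have ha' := congrArg Subtype.val (show wordPerm ⟨pi7, pi7_mem⟩ a = a from ha)
    funext i
    have h1 := congrFun ha' i
    rw [wordPerm_apply] at h1
    rw [wordPerm_apply]
    show -(a : GolayPt → ZMod 2) _ = -(a : GolayPt → ZMod 2) i
    rw [h1]

theorem mem_S {c : golayCode} : c ∈ S ↔ wordPerm ⟨pi7, pi7_mem⟩ c = c := Iff.rfl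

theorem W7_chk : ∀ w ∈ W7, isCode w = true ∧ ∀ i < 24, w.testBit (F7.getD i 0) = w.testBit i := by decide +kernel

theorem mem_of_isCode {m : ℕ} (hm : m < 2 ^ 24) (h : isCode m = true) : word m ∈ golayCode := by
  rw [mem_golayCode_iff, maskW_word hm]
  exact h

/-- the element of `S` -/
theorem exists_S {w : ℕ} (hw : w ∈ W7) : ∃ c ∈ S, (c : GolayPt → ZMod 2) = word w := by
  obtain ⟨h1, h2⟩ := W7_chk w hw
  have h3 : w < 2 ^ 24 := by
    revert w
    decide +kernel
  refine ⟨⟨word w, mem_of_isCode h3 h1⟩, ?_, rfl⟩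
  rw [mem_S]
  apply Subtype.ext
  funext p
  rw [wordPerm_apply]
  obtain ⟨q, rfl⟩ := (pi7).surjective p
  show word w (pi7.symm (pi7 q)) = word w (pi7 q)
  rw [Equiv.symm_apply_apply, word_apply, word_apply, idx_pi7, h2 _ (idx_lt q)]

theorem word_inj {m n : ℕ} (hm : m < 2 ^ 24) (hn : n < 2 ^ 24) (h : word m = word n) : m = n := by
  rw [← maskW_word hm, ← maskW_word hn, h]

theorem W7_lt : ∀ i : Fin 8, W7.getD i 0 < 2 ^ 24 ∧ W7.getD i 0 ∈ W7 := by decide +kernel
theorem W7_inj : ∀ i j : Fin 8, W7.getD i 0 = W7.getD j 0 → i = j := by decide +kernel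

theorem eight_le : 8 ≤ Nat.card S := by
  have : Finite golayCode := Subtype.finite
  let f : Fin 8 → S := fun i => ⟨(exists_S (W7_lt i).2).choose, (exists_S (W7_lt i).2).choose_spec.1⟩
  have hf : Function.Injective f := by
    intro i j h
    have h1 : (((f i : S) : golayCode) : GolayPt → ZMod 2) = word (W7.getD i 0) := (exists_S (W7_lt i).2).choose_spec.2
    have h2 : (((f j : S) : golayCode) : GolayPt → ZMod 2) = word (W7.getD j 0) := (exists_S (W7_lt j).2).choose_spec.2
    rw [h, h2] at h1
    exact W7_inj i j (word_inj (W7_lt i).1 (W7_lt j).1 h1.symm)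
  have := Nat.card_le_card_of_injective f hf
  rwa [Nat.card_fin] at this

theorem sgn_inj : ∀ a b : ZMod 2, sgn a = sgn b → a = b := by decide

theorem signCo0_inj {c d : golayCode} (h : signCo0 c = signCo0 d) : c = d := by
  apply Subtype.ext
  funext i
  have h1 : signCo0 c • Cfsg.Agent.SporadicStructure.Co0Base.e8 i = signCo0 d • Cfsg.Agent.SporadicStructure.Co0Base.e8 i := by
    rw [h]
  have h2 := congrArg (fun v : leechLattice => (v : GolayPt → ℤ) i) h1
  simp only [signCo0_smul, signMap_apply, Cfsg.Agent.SporadicStructure.Co0Base.e8_coe, Pi.single_eq_same] at h2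
  apply sgn_inj
  omega

/-- the homomorphism into the centraliser -/
noncomputable def toCent : Multiplicative S →* centralizer ({r7} : Set Co0) where
  toFun c := ⟨signCo0 (Multiplicative.toAdd c : S).1, by
    rw [mem_centralizer_singleton_iff]
    have h := perm_mul_sign ⟨pi7, pi7_mem⟩ (Multiplicative.toAdd c : S).1
    rw [mem_S.1 (Multiplicative.toAdd c : S).2] at h
    exact h.symm⟩
  map_one' := by
    apply Subtype.ext
    show signCo0 0 = 1
    exact signCo0_zero
  map_mul' a b := by
    apply Subtype.ext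
    show signCo0 (_ + _) = signCo0 _ * signCo0 _
    exact signCo0_add _ _

theorem toCent_injective : Function.Injective toCent := by
  intro a b h
  have h1 : signCo0 (Multiplicative.toAdd a : S).1 = signCo0 (Multiplicative.toAdd b : S).1 := congrArg Subtype.val h
  have h2 := signCo0_inj h1
  exact Multiplicative.toAdd.injective (Subtype.ext h2)

theorem eight_dvd : 8 ∣ Nat.card (centralizer ({r7} : Set Co0)) := by
  have : Finite golayCode := Subtype.finite
  have h1 : Nat.card (Multiplicative S) ∣ Nat.card (centralizer ({r7} : Set Co0)) :=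
    Subgroup.card_dvd_of_injective toCent toCent_injective
  refine Dvd.dvd.trans ?_ h1
  have hp : IsPGroup 2 (Multiplicative S) := by
    intro g
    refine ⟨1, ?_⟩
    apply toCent_injective
    rw [map_pow, map_one, pow_one, pow_two]
    apply Subtype.ext
    exact signCo0_mul_self _
  obtain ⟨n, hn⟩ := IsPGroup.iff_card.1 hp
  have h2 : Nat.card S = 2 ^ n := hn
  have h3 := eight_le
  rw [h2] at h3
  rw [hn]
  have h4 : 3 ≤ n := by
    by_contra hlt
    push Not at hlt
    have : 2 ^ n ≤ 2 ^ 2 := Nat.pow_le_pow_right (by norm_num) (by omega)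
    omega
  exact pow_dvd_pow 2 h4

theorem sylow_dvd {G : Type*} [Group G] [Finite G] {p : ℕ} (hp : p.Prime) (h2 : (Nat.card G).factorization p = 2)
    {x : G} (hx : orderOf x = p) : p ^ 2 ∣ Nat.card (centralizer ({x} : Set G)) := by
  have : Fact p.Prime := ⟨hp⟩
  have hz : IsPGroup p (zpowers x) := by
    apply IsPGroup.of_card (n := 1)
    rw [Nat.card_zpowers, hx, pow_one]
  obtain ⟨P, hP⟩ := hz.exists_le_sylow
  have hc : Nat.card P = p ^ 2 := by rw [Sylow.card_eq_multiplicity, h2]
  have hab : ∀ a b : P, a * b = b * a := fun a b => (IsPGroup.isMulCommutative_of_card_eq_prime_sq hc).is_comm.comm a b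
  have hle : (P : Subgroup G) ≤ centralizer ({x} : Set G) := by
    intro y hy
    rw [mem_centralizer_singleton_iff]
    exact congrArg Subtype.val (hab ⟨y, hy⟩ ⟨x, hP (mem_zpowers x)⟩)
  have h := card_dvd_of_le hle
  rwa [show Nat.card (P : Subgroup G) = p ^ 2 from hc] at h

theorem card_dvd : 392 ∣ Nat.card (centralizer ({r7} : Set Co0)) := by
  have hfin := CoZero.finite_co0
  have hc : Nat.card Co0 = 8315553613086720000 := Cfsg.Agent.S0397.result
  have h7 : (Nat.card Co0).factorization 7 = 2 := by
    rw [hc]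
    have h0 : (8315553613086720000 : ℕ) ≠ 0 := by norm_num
    have ha : 2 ≤ (8315553613086720000 : ℕ).factorization 7 :=
      (Nat.Prime.pow_dvd_iff_le_factorization (by norm_num) h0).1 (by norm_num)
    have hb : ¬ 3 ≤ (8315553613086720000 : ℕ).factorization 7 := fun h =>
      absurd ((Nat.Prime.pow_dvd_iff_le_factorization (by norm_num) h0).2 h) (by norm_num)
    omega
  have h1 := sylow_dvd (by norm_num) h7 orderOf_r7
  have h2 : 8 * 49 ∣ Nat.card (centralizer ({r7} : Set Co0)) :=
    Nat.Coprime.mul_dvd_of_dvd_of_dvd (by norm_num) eight_dvd (by norm_num at h1; exact h1)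
  norm_num at h2
  exact h2

/-! ### Subgroups with a trivial centre -/

/-- the centralizer in a subgroup with a trivial centre -/
theorem card_cent_dvd {G H : Type*} [Group G] [Group H] (f : H →* G) (hf : Function.Injective f) (hz : center H = ⊥)
    (x : H) : Nat.card (centralizer ({x} : Set H)) * Nat.card (center G) ∣
      Nat.card (centralizer ({f x} : Set G)) := by
  rw [← Nat.card_prod]
  let φ : centralizer ({x} : Set H) × center G →* centralizer ({f x} : Set G) :=
    { toFun := fun a => ⟨f a.1 * a.2, by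
        rw [mem_centralizer_singleton_iff]
        have h1 := mem_centralizer_singleton_iff.1 a.1.2
        have h2 := mem_center_iff.1 a.2.2 (f x)
        rw [mul_assoc, ← h2, ← mul_assoc, ← map_mul, h1, map_mul, mul_assoc]⟩
      map_one' := by
        apply Subtype.ext
        show f 1 * 1 = 1
        rw [map_one, one_mul]
      map_mul' := by
        intro a b
        apply Subtype.ext
        show f ((a.1 : H) * b.1) * ((a.2 : G) * b.2) = f a.1 * a.2 * (f b.1 * b.2)
        have h2 := mem_center_iff.1 a.2.2 (f b.1)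
        rw [map_mul, mul_assoc, mul_assoc]
        congr 1
        rw [← mul_assoc, ← mul_assoc, h2] }
  refine Subgroup.card_dvd_of_injective φ ?_
  rw [injective_iff_map_eq_one]
  rintro ⟨a, b⟩ h
  have h1 : f a * (b : G) = 1 := congrArg Subtype.val h
  have h2 : f a = (b : G)⁻¹ := eq_inv_of_mul_eq_one_left h1
  have h3 : (a : H) ∈ center H := by
    rw [mem_center_iff]
    intro y
    apply hf
    rw [map_mul, map_mul, h2]
    exact mem_center_iff.1 (inv_mem b.2) (f y)
  rw [hz, mem_bot] at h3
  rw [h3, map_one, one_mul] at h1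
  exact Prod.ext (Subtype.ext h3) (Subtype.ext h1)

end Cfsg.Agent.H848.McLSeven
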