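import Cfsg.Agent.H63.SYThmO

/-!
# S3846: local analysis of the normaliser of a maximal invariant `t`-subgroup

`G` finite, `x` of order `p`, `N` a normal `p'`-subgroup with `⟨x⟩ N` normal, `R` a normal `t`-subgroup, maximal among the
`x`-invariant `t`-subgroups:

* `mem_R` : a `t`-element which commutes with `x` modulo `N` is in `R`;
* `card_dvd` : the order of a `t`-subgroup divides `t |R|`, if `t ^ 2 ∤ p - 1`;
* `mem_of_cent` : a `t`-element of `C(R)` is in `R`, unless `x` centralises `R`;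
* `exists_a` : if `R` is not a Sylow subgroup there is a `t`-element outside of `R` which normalises `⟨x⟩`.
-/

set_option autoImplicit false
set_option linter.unusedSectionVars false

namespace Cfsg.Agent.H848.NoELoc

open Cfsg Subgroup Cfsg.Agent.H301.SY Cfsg.Agent.H459.Rad Cfsg.Agent.H63.SYRad Cfsg.Agent.H63.SYTools
  Cfsg.Agent.H63.SYThmO
open scoped Pointwise

universe u

section G

variable {G : Type u} [Group G] [Finite G] {p t : ℕ} [hp : Fact p.Prime] [ht : Fact t.Prime]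

/-- the situation -/
structure Loc (p t : ℕ) (x : G) (N R : Subgroup G) : Prop where
  ox : orderOf x = p
  Nn : N.Normal
  cop : ¬ p ∣ Nat.card N
  pow : ∀ g : G, ∃ k : ℤ, (x ^ k)⁻¹ * (g * x * g⁻¹) ∈ N
  Rn : R.Normal
  Rt : IsPGroup t R
  max : ∀ Q : Subgroup G, IsPGroup t Q → (∀ a ∈ Q, x * a * x⁻¹ ∈ Q) → R ≤ Q → Q ≤ R
  ne : t ≠ p

variable {x : G} {N R : Subgroup G}

theorem isPGroup_zpowers {m : G} (hm : ∃ n : ℕ, m ^ t ^ n = 1) : IsPGroup t (zpowers m) := by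
  obtain ⟨n, hn⟩ := hm
  rintro ⟨a, ha⟩
  obtain ⟨k, rfl⟩ := mem_zpowers_iff.1 ha
  refine ⟨n, Subtype.ext ?_⟩
  show (m ^ k) ^ t ^ n = 1
  rw [← zpow_natCast, ← zpow_mul, mul_comm, zpow_mul, zpow_natCast, hn, one_zpow]

/-- **`t`-elements commuting with `x` modulo `N`** -/
theorem Loc.mem_R (h : Loc p t x N R) {m : G} (hm : ∃ n : ℕ, m ^ t ^ n = 1) (hmx : m * x * m⁻¹ * x⁻¹ ∈ N) : m ∈ R := by
  have hNn := h.Nn
  have hRn := h.Rn
  set A : Subgroup G := N ⊔ R with hA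
  have hAn : A.Normal := inferInstance
  set L : Subgroup G := A ⊔ zpowers m with hL
  have hmL : m ∈ L := mem_sup_right (mem_zpowers m)
  have hAL : A ≤ L := le_sup_left
  have hNL : N ≤ L := le_sup_left.trans hAL
  have hRL : R ≤ L := le_sup_right.trans hAL
  have hmt := isPGroup_zpowers hm
  have hpt : ∀ Q : Subgroup G, IsPGroup t Q → ¬ p ∣ Nat.card Q := by
    intro Q hQ hd
    obtain ⟨n, hn⟩ := IsPGroup.iff_card.1 hQ
    rw [hn] at hd
    exact h.ne ((Nat.prime_dvd_prime_iff_eq hp.out ht.out).1 (hp.out.dvd_of_dvd_pow hd)).symm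
  have hpL : ¬ p ∣ Nat.card L := by
    intro hd
    have h1 := hd.trans (Lib.Cores.card_sup_dvd A (zpowers m) hAn)
    rcases hp.out.dvd_mul.1 h1 with h2 | h2
    · have h3 := h2.trans (Lib.Cores.card_sup_dvd N R hNn)
      rcases hp.out.dvd_mul.1 h3 with h4 | h4
      · exact h.cop h4
      · exact hpt R h.Rt h4
    · exact hpt _ hmt h2
  have hxL : ∀ l ∈ L, x * l * x⁻¹ ∈ L := by
    intro l hl
    obtain ⟨a, ha, y, hy, rfl⟩ := mem_sup_of_normal_left.1 hl
    obtain ⟨k, rfl⟩ := mem_zpowers_iff.1 hy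
    have e : x * (a * m ^ k) * x⁻¹ = (x * a * x⁻¹) * (x * m * x⁻¹) ^ k := by
      rw [conj_zpow]; group
    rw [e]
    refine L.mul_mem (hAL (hAn.conj_mem a ha x)) (L.zpow_mem ?_ k)
    have e2 : x * m * x⁻¹ = (m * x * m⁻¹ * x⁻¹)⁻¹ * m := by group
    rw [e2]
    exact L.mul_mem (L.inv_mem (hNL hmx)) hmL
  have hzL : ∀ b ∈ zpowers x, ∀ u ∈ L, b * u * b⁻¹ ∈ L := zp_norm hxL
  have hX : IsPGroup p (zpowers x) := IsPGroup.of_card (n := 1) (by rw [Nat.card_zpowers, h.ox, pow_one])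
  obtain ⟨S, ⟨T, hT⟩, hS, hRS⟩ := Lib.PGroupCoprimeAction.exists_invariant_sylow_ge hX hpL hzL hRL h.Rt
    (fun b _ u hu => hRn.conj_mem u hu b)
  have hSt : IsPGroup t S := by rw [← hT]; exact T.isPGroup'.map _
  have hSR : S = R := le_antisymm (h.max S hSt (fun a ha => hS x (mem_zpowers x) a ha) hRS) hRS
  have h1 : R.subgroupOf L = (T : Subgroup L) := by
    rw [← hSR, ← hT, subgroupOf]
    exact comap_map_eq_self_of_injective L.subtype_injective _
  have h2 : ¬ t ∣ R.relIndex L := by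
    rw [relIndex, h1]
    exact T.not_dvd_index
  -- `R ⟨m⟩` is a `t`-group
  have h3 : IsPGroup t ↥(R ⊔ zpowers m) := h.Rt.to_sup_of_normal_left hmt
  have h4 : R ⊔ zpowers m ≤ L := sup_le hRL (le_sup_right)
  have h5 : R.relIndex (R ⊔ zpowers m) = 1 := by
    obtain ⟨n, hn⟩ := h3.index (R.subgroupOf (R ⊔ zpowers m))
    have h6 : R.relIndex (R ⊔ zpowers m) = t ^ n := hn
    rcases Nat.eq_zero_or_pos n with h7 | h7
    · rw [h6, h7, pow_zero]
    · exfalso
      apply h2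
      rw [← relIndex_mul_relIndex R (R ⊔ zpowers m) L le_sup_left h4, h6]
      exact (dvd_pow_self t h7.ne').mul_right _
  have h6 : R ⊔ zpowers m ≤ R := relIndex_eq_one.1 h5
  exact h6 (mem_sup_right (mem_zpowers m))

/-- the action on `⟨x⟩ N / N` -/
theorem Loc.exists_hom (h : Loc p t x N R) :
    ∃ (A : Type u) (_ : Group A) (f : G →* A), Nat.card A = p - 1 ∧ ∀ g : G, f g = 1 ↔ g * x * g⁻¹ * x⁻¹ ∈ N := by
  have hNn := h.Nn
  set π := QuotientGroup.mk' N with hπ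
  set X : Subgroup (G ⧸ N) := zpowers (π x) with hX
  have hconj : ∀ g : G, π g * π x * (π g)⁻¹ ∈ X := by
    intro g
    obtain ⟨k, hk⟩ := h.pow g
    have h1 : π (x ^ k) = π (g * x * g⁻¹) := QuotientGroup.eq.2 hk
    rw [← map_inv, ← map_mul, ← map_mul, ← h1, map_zpow]
    exact zpow_mem_zpowers _ _
  have hXn : X.Normal := by
    refine ⟨fun n hn g => ?_⟩
    obtain ⟨k, rfl⟩ := mem_zpowers_iff.1 hn
    obtain ⟨g, rfl⟩ := QuotientGroup.mk'_surjective N g
    have e : π g * π x ^ k * (π g)⁻¹ = (π g * π x * (π g)⁻¹) ^ k := by rw [conj_zpow]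
    show π g * π x ^ k * (π g)⁻¹ ∈ X
    rw [e]
    exact X.zpow_mem (hconj g) k
  have hxp : orderOf (π x) = p := by
    apply orderOf_eq_prime
    · rw [← map_pow, ← h.ox, pow_orderOf_eq_one, map_one]
    · intro h1
      have h2 : x ∈ N := (QuotientGroup.eq_one_iff _).1 h1
      apply h.cop
      have h3 : orderOf (⟨x, h2⟩ : N) = p := by rw [Subgroup.orderOf_mk, h.ox]
      rw [← h3]
      exact orderOf_dvd_natCard _
  refine ⟨MulAut X, inferInstance, (MulAut.conjNormal (H := X)).comp π, ?_, ?_⟩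
  · rw [IsCyclic.card_mulAut, hX, Nat.card_zpowers, hxp, Nat.totient_prime hp.out]
  · intro g
    have h1 : (((MulAut.conjNormal (H := X)) (π g) ⟨π x, mem_zpowers _⟩ : X) : G ⧸ N) = π g * π x * (π g)⁻¹ := rfl
    constructor
    · intro h2
      have h3 : (MulAut.conjNormal (H := X)) (π g) = 1 := h2
      rw [h3] at h1
      have h4 : π x = π g * π x * (π g)⁻¹ := h1
      rw [← QuotientGroup.eq_one_iff]
      show π (g * x * g⁻¹ * x⁻¹) = 1
      rw [map_mul, map_mul, map_mul, map_inv, map_inv, ← h4, mul_inv_cancel]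
    · intro h2
      have h3 : π (g * x * g⁻¹ * x⁻¹) = 1 := (QuotientGroup.eq_one_iff _).2 h2
      rw [map_mul, map_mul, map_mul, map_inv, map_inv, mul_inv_eq_one] at h3
      apply MulEquiv.ext
      rintro ⟨y, hy⟩
      obtain ⟨k, rfl⟩ := mem_zpowers_iff.1 hy
      apply Subtype.ext
      show π g * π x ^ k * (π g)⁻¹ = π x ^ k
      rw [← conj_zpow, h3]

/-- **the order of a `t`-subgroup** -/
theorem Loc.card_dvd (h : Loc p t x N R) (h2 : ¬ t ^ 2 ∣ p - 1) {Q : Subgroup G} (hQ : IsPGroup t Q) :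
    Nat.card Q ∣ t * Nat.card R := by
  obtain ⟨A, _, f, hA, hf⟩ := h.exists_hom
  have hfin : Finite A := Nat.finite_of_card_ne_zero (by rw [hA]; have := hp.out.two_le; omega)
  let φ : Q →* A := f.comp Q.subtype
  have h1 : Nat.card φ.ker * Nat.card φ.range = Nat.card Q := by
    rw [← Subgroup.card_mul_index φ.ker, Subgroup.index_ker]
  have h3 : Nat.card φ.range ∣ t := by
    have h4 : Nat.card φ.range ∣ p - 1 := hA ▸ Subgroup.card_subgroup_dvd_card φ.range
    have h5 : IsPGroup t φ.range := hQ.of_surjective φ.rangeRestrict φ.rangeRestrict_surjective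
    obtain ⟨n, hn⟩ := IsPGroup.iff_card.1 h5
    rw [hn] at h4 ⊢
    have h6 : n ≤ 1 := by
      by_contra hc
      exact h2 ((pow_dvd_pow t (by omega : 2 ≤ n)).trans h4)
    calc t ^ n ∣ t ^ 1 := pow_dvd_pow t h6
      _ = t := pow_one t
  have h4 : Nat.card φ.ker ∣ Nat.card R := by
    have h5 : φ.ker.map Q.subtype ≤ R := by
      rintro _ ⟨q, hq, rfl⟩
      have h6 : f (q : G) = 1 := hq
      obtain ⟨n, hn⟩ := hQ q
      exact h.mem_R ⟨n, congrArg Subtype.val hn⟩ ((hf _).1 h6)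
    rw [← Subgroup.card_map_of_injective (K := φ.ker) Q.subtype_injective]
    exact card_dvd_of_le h5
  rw [← h1, mul_comm t]
  exact mul_dvd_mul h4 h3

/-- **the centralizer of `R`** -/
theorem Loc.mem_of_cent (h : Loc p t x N R) (hP : ∀ P : Sylow p G, IsCyclic (P : Subgroup G))
    (hxR : ¬ ∀ r ∈ R, x * r = r * x) {c : G} (hc : ∀ r ∈ R, c * r = r * c) (hct : ∃ n : ℕ, c ^ t ^ n = 1) : c ∈ R := by
  have hNn := h.Nn
  have hRn := h.Rn
  apply h.mem_R hct
  by_contra hcon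
  apply hxR
  set C : Subgroup G := centralizer (R : Set G) with hC
  have hCn : C.Normal := inferInstance
  have hcC : c ∈ C := by
    rw [hC, mem_centralizer_iff]
    exact fun r hr => (hc r hr).symm
  have hcomm : c * x * c⁻¹ * x⁻¹ ∈ C := by
    have e : c * x * c⁻¹ * x⁻¹ = c * (x * c⁻¹ * x⁻¹) := by group
    rw [e]
    exact C.mul_mem hcC (hCn.conj_mem _ (C.inv_mem hcC) x)
  -- its order is divisible by `p`
  have hd : p ∣ orderOf (c * x * c⁻¹ * x⁻¹) := by
    set π := QuotientGroup.mk' N with hπ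
    have h1 : π (c * x * c⁻¹ * x⁻¹) ≠ 1 := fun h2 => hcon ((QuotientGroup.eq_one_iff _).1 h2)
    obtain ⟨k, hk⟩ := h.pow c
    have h2 : π (x ^ k) = π (c * x * c⁻¹) := QuotientGroup.eq.2 hk
    have h3 : π (c * x * c⁻¹ * x⁻¹) = π x ^ (k - 1) := by
      rw [map_mul, ← h2, map_zpow, map_inv, zpow_sub, zpow_one]
    have h4 : π (c * x * c⁻¹ * x⁻¹) ^ p = 1 := by
      rw [h3, ← zpow_natCast, ← zpow_mul, mul_comm, zpow_mul, zpow_natCast, ← map_pow, ← h.ox, pow_orderOf_eq_one,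
        map_one, one_zpow]
    have h5 : orderOf (π (c * x * c⁻¹ * x⁻¹)) = p := orderOf_eq_prime h4 h1
    rw [← h5]
    exact orderOf_map_dvd π _
  have hpC : p ∣ Nat.card C := by
    refine hd.trans ?_
    rw [← Subgroup.orderOf_mk _ hcomm]
    exact orderOf_dvd_natCard _
  obtain ⟨g, hg⟩ := exists_conj_mem hP h.ox hpC
  have hxC : x ∈ C := by
    have h1 := hCn.conj_mem _ hg g⁻¹
    have e : g⁻¹ * (g * x * g⁻¹) * g⁻¹⁻¹ = x := by group
    rwa [e] at h1
  intro r hr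
  exact (mem_centralizer_iff.1 hxC r hr).symm

/-- **a `t`-element normalising `⟨x⟩`** -/
theorem Loc.exists_a (h : Loc p t x N R) {q : G} (hq : ∃ n : ℕ, q ^ t ^ n = 1) (hqR : q ∉ R) :
    ∃ a : G, (∃ n : ℕ, a ^ t ^ n = 1) ∧ a ∉ R ∧ a * x * a⁻¹ ∈ zpowers x := by
  have hNn := h.Nn
  have hRn := h.Rn
  obtain ⟨m, hm, w, hw, rfl⟩ := fact h.ox hNn h.cop h.pow q
  obtain ⟨i, u, hu, hou⟩ := Nat.exists_eq_pow_mul_and_not_dvd (n := orderOf w) (orderOf_pos w).ne' t ht.out.ne_one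
  refine ⟨w ^ u, ⟨i, ?_⟩, ?_, ?_⟩
  · rw [← pow_mul, mul_comm u, ← hou, pow_orderOf_eq_one]
  · intro hR
    -- `[w ^ u, x] = 1`
    have hzn : ∀ n : ℕ, w ^ n * x * (w ^ n)⁻¹ ∈ zpowers x := by
      intro n
      induction n with
      | zero => simp
      | succ n ih =>
        obtain ⟨k, hk⟩ := mem_zpowers_iff.1 ih
        have e : w ^ (n + 1) * x * (w ^ (n + 1))⁻¹ = w * (w ^ n * x * (w ^ n)⁻¹) * w⁻¹ := by rw [pow_succ']; group
        rw [e, ← hk, ← conj_zpow]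
        exact zpow_mem hw k
    have h1 : w ^ u * x * (w ^ u)⁻¹ * x⁻¹ ∈ zpowers x :=
      (zpowers x).mul_mem (hzn u) ((zpowers x).inv_mem (mem_zpowers x))
    have h2 : w ^ u * x * (w ^ u)⁻¹ * x⁻¹ ∈ R := by
      have e : w ^ u * x * (w ^ u)⁻¹ * x⁻¹ = w ^ u * (x * (w ^ u)⁻¹ * x⁻¹) := by group
      rw [e]
      exact R.mul_mem hR (hRn.conj_mem _ (R.inv_mem hR) x)
    have h3 : w ^ u * x * (w ^ u)⁻¹ * x⁻¹ = 1 := by
      by_contra hne
      have h4 := mem_zpowers_of h.ox h1 hne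
      have h5 : x ∈ R := (zpowers_le.2 h2) h4
      obtain ⟨n, hn⟩ := (IsPGroup.iff_orderOf.1 h.Rt) ⟨x, h5⟩
      rw [Subgroup.orderOf_mk, h.ox] at hn
      exact h.ne ((Nat.prime_dvd_prime_iff_eq hp.out ht.out).1 (hp.out.dvd_of_dvd_pow (dvd_of_eq hn))).symm
    obtain ⟨A, _, f, hA, hf⟩ := h.exists_hom
    have h4 : f (w ^ u) = 1 := (hf _).2 (by rw [h3]; exact N.one_mem)
    have h5 : f m = 1 := (hf m).2 (by
      have e : m * x * m⁻¹ * x⁻¹ = m * (x * m⁻¹ * x⁻¹) := by group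
      rw [e]
      exact N.mul_mem hm (hNn.conj_mem _ (N.inv_mem hm) x))
    have h6 : f (m * w) = f w := by rw [map_mul, h5, one_mul]
    obtain ⟨n, hn⟩ := hq
    have h7 : f w ^ t ^ n = 1 := by rw [← h6, ← map_pow, hn, map_one]
    rw [map_pow] at h4
    have h8 : orderOf (f w) = 1 := by
      have h9 := orderOf_dvd_of_pow_eq_one h4
      have h10 := orderOf_dvd_of_pow_eq_one h7
      have h11 : Nat.Coprime u (t ^ n) := Nat.Coprime.pow_right n ((Nat.Prime.coprime_iff_not_dvd ht.out).2 hu).symm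
      exact Nat.dvd_one.1 (h11 ▸ Nat.dvd_gcd h9 h10)
    rw [orderOf_eq_one_iff] at h8
    apply hqR
    apply h.mem_R ⟨n, hn⟩
    rw [← hf, h6, h8]
  · clear hou hu
    induction u with
    | zero => simp
    | succ n ih =>
      obtain ⟨k, hk⟩ := mem_zpowers_iff.1 ih
      have e : w ^ (n + 1) * x * (w ^ (n + 1))⁻¹ = w * (w ^ n * x * (w ^ n)⁻¹) * w⁻¹ := by rw [pow_succ']; group
      rw [e, ← hk, ← conj_zpow]
      exact zpow_mem hw k

end G

end Cfsg.Agent.H848.NoELoc
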