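import Cfsg.Agent.H848.NoELoc
import Cfsg.Agent.H301.SY.Spor

/-!
# S3846: an element of order `p` centralises the `t`-subgroups which it normalises: the case `p ∣ t ^ 5 - 1`

`K` simple with cyclic Sylow `p`-subgroups, `x` radical of order `p`, Sylow `t`-subgroups of order at most `t ^ 9` with an
extraspecial subgroup of order `t ^ 7` containing a central element whose centralizer has order prime to `p`.
-/

set_option autoImplicit false
set_option linter.unusedSectionVars false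

namespace Cfsg.Agent.H848.NoELocK

open Cfsg Subgroup Cfsg.Agent.H301.SY Cfsg.Agent.H459.Rad Cfsg.Agent.H63.SYRad
open Cfsg.Agent.H63.SYTools (conj_of_norm mem_zpowers_of elem_comm)
open Cfsg.Agent.H63.SYThmO Cfsg.Agent.H848.NoELoc
open Cfsg.Agent.SignalizersComponents.RelSylow (exists_mem_normalizer)
open scoped Pointwise

universe u

variable {K : Type u} [Group K] [Finite K] {p t : ℕ} [hp : Fact p.Prime] [ht : Fact t.Prime]

theorem card_mul_le {H L M : Subgroup K} (hH : H ≤ M) (hL : L ≤ M) :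
    Nat.card H * Nat.card L ≤ Nat.card M * Nat.card (H ⊓ L : Subgroup K) := by
  rw [← Lib.ProductSet.card_mul_card_inf H L]
  apply Nat.mul_le_mul_right
  have h1 : ((H : Set K) * (L : Set K) : Set K) ⊆ (M : Set K) := by
    rintro _ ⟨a, ha, b, hb, rfl⟩
    exact M.mul_mem (hH ha) (hL hb)
  exact Set.ncard_le_ncard h1 (Set.toFinite _)

/-- a proper subgroup of a `t`-group -/
theorem card_lt_mul {A B : Subgroup K} (hB : IsPGroup t B) (hAB : A ≤ B) (hne : ¬ B ≤ A) :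
    t * Nat.card A ≤ Nat.card B := by
  have h1 := card_relIndex hAB
  obtain ⟨n, hn⟩ := hB.index (A.subgroupOf B)
  have h2 : A.relIndex B = t ^ n := hn
  have h3 : n ≠ 0 := by
    rintro rfl
    rw [pow_zero] at h2
    exact hne (relIndex_eq_one.1 h2)
  rw [← h1, mul_comm, h2]
  apply Nat.mul_le_mul_left
  calc t = t ^ 1 := (pow_one t).symm
    _ ≤ t ^ n := Nat.pow_le_pow_right ht.out.pos (by omega)

/-- **(V1)** the fixed points of `x` -/
theorem fix_le {x : K} (hx : orderOf x = p) (htp : t ≠ p) (hnum : ∀ j ≤ 9, p ∣ t ^ j - 1 → j = 0 ∨ 5 ≤ j)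
    (h10 : ¬ t ^ 10 ∣ Nat.card K) {V : Subgroup K} (hV : IsPGroup t V) (hxV : ∀ v ∈ V, x * v * x⁻¹ ∈ V)
    (hne : ¬ ∀ v ∈ V, x * v = v * x) {W : Subgroup K} (hW : W ≤ V) (hxW : ∀ w ∈ W, x * w = w * x) :
    Nat.card W * t ^ 5 ≤ Nat.card V := by
  have hxp : x ^ p = 1 := by rw [← hx]; exact pow_orderOf_eq_one x
  have hpV : ¬ p ∣ Nat.card V := by
    obtain ⟨n, hn⟩ := hV.exists_card_eq
    rw [hn]
    intro h1
    exact htp ((Nat.prime_dvd_prime_iff_eq hp.out ht.out).1 (hp.out.dvd_of_dvd_pow h1)).symm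
  have h1 := index_fixed hpV (cjA V x hxV) ⟨1, by rw [pow_one]; exact cjA_pow V x hxV hxp⟩
  obtain ⟨i, hi⟩ := hV.index (fixS (cjA V x hxV))
  rw [hi] at h1
  have hi9 : i ≤ 9 := by
    by_contra hc
    apply h10
    refine (pow_dvd_pow t (by omega : 10 ≤ i)).trans ?_
    rw [← hi]
    exact (Subgroup.index_dvd_card _).trans (Subgroup.card_subgroup_dvd_card V)
  have h2 : p ∣ t ^ i - 1 := (Nat.modEq_iff_dvd' (Nat.pos_of_ne_zero (pow_ne_zero i ht.out.ne_zero))).1 h1.symm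
  have hfix : ∀ v (hv : v ∈ V), (⟨v, hv⟩ : V) ∈ fixS (cjA V x hxV) ↔ x * v = v * x := by
    intro v hv
    rw [mem_fixS]
    constructor
    · intro h3
      have h4 : x * v * x⁻¹ = v := congrArg Subtype.val h3
      exact mul_inv_eq_iff_eq_mul.1 h4
    · intro h3
      apply Subtype.ext
      show x * v * x⁻¹ = v
      exact mul_inv_eq_iff_eq_mul.2 h3
  rcases hnum i hi9 h2 with h3 | h3
  · exfalso
    apply hne
    intro v hv
    rw [h3, pow_zero, Subgroup.index_eq_one] at hi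
    exact (hfix v hv).1 (by rw [hi]; exact mem_top _)
  · have h4 : W ≤ (fixS (cjA V x hxV)).map V.subtype := fun w hw => ⟨⟨w, hW hw⟩, (hfix w (hW hw)).2 (hxW w hw), rfl⟩
    have h5 := Nat.le_of_dvd Nat.card_pos (card_dvd_of_le h4)
    rw [Subgroup.card_map_of_injective V.subtype_injective] at h5
    rw [← Subgroup.card_mul_index (fixS (cjA V x hxV)), hi]
    exact Nat.mul_le_mul h5 (Nat.pow_le_pow_right ht.out.pos h3)

/-- **(V2)** the fixed points of an element acting on `⟨x⟩` -/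
theorem fix_le' {x : K} (hx : orderOf x = p) (htp : t ≠ p) (hnum : ∀ j ≤ 9, p ∣ t ^ j - 1 → j = 0 ∨ 5 ≤ j)
    (h10 : ¬ t ^ 10 ∣ Nat.card K) {V : Subgroup K} (hV : IsPGroup t V) (hxV : ∀ v ∈ V, x * v * x⁻¹ ∈ V)
    (hne : ¬ ∀ v ∈ V, x * v = v * x) {a : K} (ha : a * x * a⁻¹ ∈ zpowers x) (hax : a * x * a⁻¹ * x⁻¹ ≠ 1)
    {W : Subgroup K} (hW : W ≤ V) (haW : ∀ w ∈ W, a * w = w * a) :
    Nat.card W * t ^ 3 ≤ Nat.card V := by
  set W' : Subgroup K := W.map (MulAut.conj x).toMonoidHom with hW'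
  have hW'V : W' ≤ V := by
    rintro _ ⟨w, hw, rfl⟩
    exact hxV w (hW hw)
  have hcW' : Nat.card W' = Nat.card W := Subgroup.card_map_of_injective (MulAut.conj x).injective
  have h1 : ∀ w ∈ W ⊓ W', x * w = w * x := by
    rintro w ⟨hw, ⟨v, hv, hvw⟩⟩
    have hvw' : x * v * x⁻¹ = w := hvw
    have h2 : Commute a w := haW w hw
    have h3 : Commute (x * a * x⁻¹) w := by
      show x * a * x⁻¹ * w = w * (x * a * x⁻¹)
      rw [← hvw']
      calc x * a * x⁻¹ * (x * v * x⁻¹) = x * (a * v) * x⁻¹ := by group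
        _ = x * (v * a) * x⁻¹ := by rw [haW v hv]
        _ = _ := by group
    have h4 : Commute (a * x * a⁻¹ * x⁻¹) w := by
      have e : a * x * a⁻¹ * x⁻¹ = a * (x * a * x⁻¹)⁻¹ := by group
      rw [e]
      exact h2.mul_left h3.inv_left
    have h5 : a * x * a⁻¹ * x⁻¹ ∈ zpowers x := (zpowers x).mul_mem ha ((zpowers x).inv_mem (mem_zpowers x))
    obtain ⟨k, hk⟩ := mem_zpowers_iff.1 (mem_zpowers_of hx h5 hax)
    rw [← hk]
    exact (h4.zpow_left k)
  have h2 := fix_le hx htp hnum h10 hV hxV hne (inf_le_left.trans hW) h1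
  have h3 := card_mul_le hW hW'V
  rw [hcW'] at h3
  -- exponents
  obtain ⟨n, hn⟩ := IsPGroup.iff_card.1 hV
  obtain ⟨m, hm⟩ := IsPGroup.iff_card.1 (hV.to_le hW)
  have hd : 0 < Nat.card (W ⊓ W' : Subgroup K) := Nat.card_pos
  have h4 : Nat.card W * Nat.card W * t ^ 5 ≤ Nat.card V * Nat.card V := by
    calc Nat.card W * Nat.card W * t ^ 5 ≤ (Nat.card V * Nat.card (W ⊓ W' : Subgroup K)) * t ^ 5 :=
          Nat.mul_le_mul_right _ h3
      _ = Nat.card V * (Nat.card (W ⊓ W' : Subgroup K) * t ^ 5) := by ring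
      _ ≤ Nat.card V * Nat.card V := Nat.mul_le_mul_left _ h2
  rw [hn, hm, ← pow_add, ← pow_add, ← pow_add] at h4
  have h5 := (Nat.pow_le_pow_iff_right ht.out.one_lt).1 h4
  rw [hn, hm, ← pow_add]
  exact Nat.pow_le_pow_right ht.out.pos (by omega)

/-- the structure of the Sylow `t`-subgroups -/
def SylC (p t : ℕ) (K : Type u) [Group K] : Prop := ∀ T : Sylow t K, ∃ c : K, orderOf c = t ∧ c ∈ T ∧
  (∀ a ∈ T, c * a = a * c) ∧ ¬ p ∣ Nat.card (centralizer ({c} : Set K)) ∧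
  ∃ S : Subgroup K, S ≤ T ∧ Nat.card S = t ^ 7 ∧ (∀ a ∈ S, ∀ b ∈ S, a * b * a⁻¹ * b⁻¹ ∈ zpowers c) ∧
    ∀ s ∈ S, (∀ b ∈ S, s * b = b * s) → s ∈ zpowers c

/-- **the end** -/
theorem final {R V : Subgroup K} (T : Sylow t K) (hRT : R ≤ T) (hT : Nat.card T ≤ t * Nat.card R)
    (h10 : ¬ t ^ 10 ∣ Nat.card K) (hV5 : t ^ 5 ≤ Nat.card V) (hVR : V ≤ R) (hVc : ∀ v ∈ V, ∀ r ∈ R, v * r = r * v)
    {c : K} (hc : orderOf c = t) (hcT : ∀ a ∈ T, c * a = a * c) {S : Subgroup K} (hS : S ≤ T)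
    (hS7 : Nat.card S = t ^ 7) (hSc : ∀ a ∈ S, ∀ b ∈ S, a * b * a⁻¹ * b⁻¹ ∈ zpowers c)
    (hSz : ∀ s ∈ S, (∀ b ∈ S, s * b = b * s) → s ∈ zpowers c) : False := by
  have ht2 : 2 ≤ t := ht.out.two_le
  have hcz : Nat.card (zpowers c) = t := by rw [Nat.card_zpowers, hc]
  have hcT' : Nat.card T = Nat.card (T : Subgroup K) := rfl
  -- `|T| ≤ t ^ 9`
  have hT9 : Nat.card T ≤ t ^ 9 := by
    obtain ⟨n, hn⟩ := IsPGroup.iff_card.1 T.isPGroup'
    rw [hcT', hn]
    apply Nat.pow_le_pow_right ht.out.pos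
    by_contra hcon
    apply h10
    exact (pow_dvd_pow t (by omega : 10 ≤ n)).trans (hn ▸ Subgroup.card_subgroup_dvd_card (T : Subgroup K))
  set A : Subgroup K := V ⊓ S with hA
  have hA3 : t ^ 3 ≤ Nat.card A := by
    have h1 := card_mul_le (hVR.trans hRT) hS
    rw [hS7] at h1
    have h2 : t ^ 5 * t ^ 7 ≤ t ^ 9 * Nat.card A := by
      calc t ^ 5 * t ^ 7 ≤ Nat.card V * t ^ 7 := Nat.mul_le_mul_right _ hV5
        _ ≤ Nat.card T * Nat.card A := h1
        _ ≤ t ^ 9 * Nat.card A := Nat.mul_le_mul_right _ hT9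
    have h3 : t ^ 5 * t ^ 7 = t ^ 9 * t ^ 3 := by ring
    rw [h3] at h2
    exact Nat.le_of_mul_le_mul_left h2 (pow_pos ht.out.pos _)
  have hle : ∀ C : Subgroup K, C ≤ S → (∀ v ∈ C, ∀ b ∈ S, v * b = b * v) → Nat.card C ≤ t := by
    intro C hCS h1
    have h2 : C ≤ zpowers c := fun v hv => hSz v (hCS hv) (h1 v hv)
    have h3 := Nat.le_of_dvd Nat.card_pos (card_dvd_of_le h2)
    rwa [hcz] at h3
  by_cases hSR : S ≤ R
  · have h1 := hle A inf_le_right fun v hv b hb => hVc v hv.1 b (hSR hb)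
    have h2 : t ^ 1 < t ^ 3 := Nat.pow_lt_pow_right ht.out.one_lt (by norm_num)
    rw [pow_one] at h2
    omega
  obtain ⟨s, hs, hsR⟩ : ∃ s ∈ S, s ∉ R := by
    by_contra hcon
    push Not at hcon
    exact hSR hcon
  -- `A → ⟨c⟩`
  have hcs : ∀ a ∈ S, c * a = a * c := fun a ha => hcT a (hS ha)
  have hzc : ∀ z ∈ zpowers c, ∀ a ∈ S, z * a = a * z := by
    intro z hz a ha
    obtain ⟨k, rfl⟩ := mem_zpowers_iff.1 hz
    exact ((show Commute c a from hcs a ha).zpow_left k)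
  let φ : ↥A →* K := MonoidHom.mk' (fun v => (v : K) * s * (v : K)⁻¹ * s⁻¹) (by
    intro v w
    have h1 := hSc w w.2.2 s hs
    have h2 := hzc _ h1 v v.2.2
    show ((v : K) * w) * s * ((v : K) * w)⁻¹ * s⁻¹ = ((v : K) * s * (v : K)⁻¹ * s⁻¹) * ((w : K) * s * (w : K)⁻¹ * s⁻¹)
    have h3 := hzc _ h1 _ (S.mul_mem (S.mul_mem (S.mul_mem v.2.2 hs) (S.inv_mem v.2.2)) (S.inv_mem hs))
    calc ((v : K) * w) * s * ((v : K) * w)⁻¹ * s⁻¹ =
          (v : K) * ((w : K) * s * (w : K)⁻¹ * s⁻¹) * s * (v : K)⁻¹ * s⁻¹ := by group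
      _ = ((w : K) * s * (w : K)⁻¹ * s⁻¹) * v * s * (v : K)⁻¹ * s⁻¹ := by rw [h2]
      _ = ((w : K) * s * (w : K)⁻¹ * s⁻¹) * ((v : K) * s * (v : K)⁻¹ * s⁻¹) := by group
      _ = _ := h3)
  have hφ : ∀ v : A, φ v = (v : K) * s * (v : K)⁻¹ * s⁻¹ := fun v => rfl
  have hφr : φ.range ≤ zpowers c := by
    rintro _ ⟨v, rfl⟩
    exact hSc v v.2.2 s hs
  have h1 : Nat.card φ.ker * Nat.card φ.range = Nat.card A := by
    rw [← Subgroup.card_mul_index φ.ker, Subgroup.index_ker]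
  have h2 : Nat.card φ.range ≤ t := by
    have h3 := Nat.le_of_dvd Nat.card_pos (card_dvd_of_le hφr)
    rwa [hcz] at h3
  set C : Subgroup K := φ.ker.map A.subtype with hC
  have hcC : Nat.card C = Nat.card φ.ker := Subgroup.card_map_of_injective A.subtype_injective
  have hCs : ∀ v ∈ C, v * s = s * v := by
    rintro _ ⟨v, hv, rfl⟩
    have h3 : φ v = 1 := hv
    rw [hφ, mul_inv_eq_one] at h3
    exact mul_inv_eq_iff_eq_mul.1 h3
  have hCA : C ≤ A := map_subtype_le _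
  -- `C` is central in `S`
  set S' : Subgroup K := S ⊓ centralizer (C : Set K) with hS'
  have hRS' : R ⊓ S ≤ S' := by
    rintro r ⟨hr, hrS⟩
    refine ⟨hrS, mem_centralizer_iff.2 fun v hv => ?_⟩
    exact hVc v (hCA hv).1 r hr
  have hSt : IsPGroup t S := T.isPGroup'.to_le hS
  have h3 : t * Nat.card (R ⊓ S : Subgroup K) ≤ Nat.card S' := by
    refine card_lt_mul (hSt.to_le inf_le_left) hRS' fun h4 => hsR ?_
    exact (h4 ⟨hs, mem_centralizer_iff.2 fun v hv => hCs v hv⟩).1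
  have h4 : Nat.card S ≤ t * Nat.card (R ⊓ S : Subgroup K) := by
    have h5 := card_mul_le hRT hS
    have h6 : Nat.card R * Nat.card S ≤ Nat.card R * (t * Nat.card (R ⊓ S : Subgroup K)) := by
      calc Nat.card R * Nat.card S ≤ Nat.card T * Nat.card (R ⊓ S : Subgroup K) := h5
        _ ≤ (t * Nat.card R) * Nat.card (R ⊓ S : Subgroup K) := Nat.mul_le_mul_right _ hT
        _ = _ := by ring
    exact Nat.le_of_mul_le_mul_left h6 Nat.card_pos
  have h5 : S' = S := Subgroup.eq_of_le_of_card_ge inf_le_left (h4.trans h3)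
  have h6 : Nat.card C ≤ t := by
    refine hle C (hCA.trans inf_le_right) fun v hv b hb => ?_
    rw [← h5] at hb
    exact mem_centralizer_iff.1 hb.2 v hv
  have h7 : Nat.card A ≤ t * t := by
    rw [← h1, ← hcC]
    exact Nat.mul_le_mul h6 h2
  have h8 : t ^ 2 < t ^ 3 := Nat.pow_lt_pow_right ht.out.one_lt (by norm_num)
  rw [pow_two] at h8
  omega

end Cfsg.Agent.H848.NoELocK
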