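import Cfsg.Agent.H848.NoEMFive
import Cfsg.Agent.H109.NrM
import Cfsg.Agent.H51.SY.Num

/-!
# S3846: the row of the Monster (helper848): all primes except 5, 7 and 13
-/

set_option autoImplicit false
set_option maxRecDepth 100000

namespace Cfsg.Agent.H848.NoEM

open Cfsg Subgroup Cfsg.Agent.H301.SY Cfsg.Agent.H459.Rad Cfsg.Agent.H459.Iface
open Cfsg.Agent.H109.Nr (false_of_four exists_pow sylow_comm)
open Cfsg.Agent.H109.Nr.M (radFree_z radFree_t not_center exists_eleven)
open Cfsg.Agent.H839.Rad (RadFree)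
open Cfsg.Agent.BpSpor.MBigModel (MG zz pi card_M finite simple cls card_cent_z card_cent_t orderOf_zz center_model)

theorem mem_rad_of_re {K : Type*} [Group K] [Finite K] {x : K} (h : RE x) {M : Subgroup K} (hM : M ≠ ⊤) (hx : x ∈ M) :
    (⟨x, hx⟩ : M) ∈ solvableRadical M := mem_radIn_coe.1 (h M hM hx)

/-- a radical element commutes with no involution -/
theorem ncomm {p : ℕ} (hp : p.Prime) (hp2 : p ≠ 2) {x : MG} (hx : orderOf x = p) (h : RE x) {t : MG}
    (ht : orderOf t = 2) : x * t ≠ t * x := by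
  intro hc
  have := finite
  have hR : RadFree p ↥(centralizer ({t} : Set MG)) := by
    rcases cls ht with ⟨g, hg⟩ | h
    · exact H109.Nr.M.radFree_conj hp hg (radFree_z hp hp2)
    · exact radFree_t hp hp2 h
  have htop : centralizer ({t} : Set MG) ≠ ⊤ := by
    intro h1
    apply not_center ht
    rw [mem_center_iff]
    intro g
    exact mem_centralizer_singleton_iff.1 (h1 ▸ mem_top g)
  have hxt : x ∈ centralizer ({t} : Set MG) := mem_centralizer_singleton_iff.2 hc
  exact hR ⟨x, hxt⟩ (by rw [Subgroup.orderOf_mk, hx]) (mem_rad_of_re h htop hxt)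

/-- the criterion of helper109 for elements -/
theorem noE_of_four {K : Type*} [Group K] [Finite K] {p : ℕ} (hp : p.Prime) (hp2 : p ≠ 2)
    (h3 : ¬ p ^ 3 ∣ Nat.card K)
    (hnc : ∀ x : K, orderOf x = p → RE x → ∀ t : K, orderOf t = 2 → x * t ≠ t * x)
    {y : K} (hy : orderOf y = p) (hyc : y ∉ center K)
    (hno : ∀ A : Subgroup ↥(centralizer ({y} : Set K)), (∀ a ∈ A, a * a = 1) → ∀ m, 1 ≤ m →
      Nat.card ↥A = 2 ^ m → ¬ p ∣ 2 ^ m - 1)
    {e f : K} (he : orderOf e = 2) (hf : orderOf f = 2) (hey : y * e = e * y) (hfy : y * f = f * y)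
    (hef : e * f = f * e) (hne : e ≠ f) : NoE p K := by
  intro x hx h1 h2
  have hpf : Fact p.Prime := ⟨hp⟩
  have hab := sylow_comm hp h3
  -- conjugate `x`
  have hxp : IsPGroup p ↥(zpowers x) := IsPGroup.of_card (n := 1) (by rw [Nat.card_zpowers, hx, pow_one])
  have hyp : IsPGroup p ↥(zpowers y) := IsPGroup.of_card (n := 1) (by rw [Nat.card_zpowers, hy, pow_one])
  obtain ⟨P, hP⟩ := hxp.exists_le_sylow
  obtain ⟨P', hP'⟩ := hyp.exists_le_sylow
  obtain ⟨g, hg⟩ := MulAction.exists_smul_eq K P P'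
  obtain ⟨x', hx'⟩ : ∃ x', x' = g * x * g⁻¹ := ⟨_, rfl⟩
  have hmem : x' ∈ P' := by
    have : g * x * g⁻¹ ∈ (P' : Subgroup K) := by
      rw [← hg, Sylow.coe_subgroup_smul]
      exact ⟨x, hP (mem_zpowers x), rfl⟩
    rw [hx']
    exact this
  have ho : orderOf x' = p := by rw [hx', ← MulAut.conj_apply, MulEquiv.orderOf_eq, hx]
  have hrc : RE x' := by rw [hx']; exact RE.map (MulAut.conj g) h1
  have hcomm : x' * y = y * x' := hab P' _ hmem _ (hP' (mem_zpowers y))
  have hxC : x' ∈ centralizer ({y} : Set K) := mem_centralizer_singleton_iff.2 hcomm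
  have hyC : y ∈ centralizer ({y} : Set K) := mem_centralizer_singleton_iff.2 rfl
  have heC : e ∈ centralizer ({y} : Set K) := mem_centralizer_singleton_iff.2 hey.symm
  have hfC : f ∈ centralizer ({y} : Set K) := mem_centralizer_singleton_iff.2 hfy.symm
  have htop : centralizer ({y} : Set K) ≠ ⊤ := by
    intro h1
    apply hyc
    rw [mem_center_iff]
    intro g
    exact mem_centralizer_singleton_iff.1 (h1 ▸ mem_top g)
  refine false_of_four (C := ↥(centralizer ({y} : Set K))) (x := ⟨x', hxC⟩) (y := ⟨y, hyC⟩) (e := ⟨e, heC⟩)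
    (f := ⟨f, hfC⟩) hp hp2 (by rw [Subgroup.orderOf_mk, ho]) (by rw [Subgroup.orderOf_mk, hy]) ?_ ?_ ?_ ?_ ?_ ?_
    (by rw [Subgroup.orderOf_mk, he]) (by rw [Subgroup.orderOf_mk, hf]) (Subtype.ext hef) ?_
  · intro g
    exact Subtype.ext (mem_centralizer_singleton_iff.1 g.2)
  · intro hxy
    obtain ⟨k, hk⟩ := mem_zpowers_iff.1 hxy
    have hk' : y ^ k = x' := congrArg Subtype.val hk
    refine hnc x' ho hrc e he ?_
    rw [← hk']
    exact (show Commute y e from hey).zpow_left k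
  · intro h
    exact h3 (h.trans (card_subgroup_dvd_card _))
  · exact mem_rad_of_re hrc htop hxC
  · intro t ht hc
    exact hnc x' ho hrc t (by rw [Subgroup.orderOf_coe, ht]) (congrArg Subtype.val hc)
  · intro A hA hAn hAne
    by_contra hcon
    push Not at hcon
    obtain ⟨m, hm1, hm, hd⟩ := exists_pow (x := (⟨x', hxC⟩ : ↥(centralizer ({y} : Set K)))) hp
      (by rw [Subgroup.orderOf_mk, ho]) hA hAn hAne (fun a ha hc => by
        by_contra h
        exact hcon a ha h hc)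
    exact hno A hA m hm1 hm hd
  · intro h
    exact hne (congrArg Subtype.val h)

/-- **`p = 11`** -/
theorem noE_eleven : NoE 11 MG := by
  have hfin := finite
  obtain ⟨y, w, hy, hw, hyz, hyw, hzw, hne⟩ := exists_eleven
  refine noE_of_four (by norm_num) (by norm_num) (by rw [card_M]; norm_num)
    (fun x hx h t ht => ncomm (by norm_num) (by norm_num) hx h ht) hy ?_ ?_ orderOf_zz hw hyz hyw hzw hne
  · rw [center_model, Subgroup.mem_bot]
    rintro rfl
    rw [orderOf_one] at hy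
    norm_num at hy
  · intro A hA m hm1 hm
    exact BpSpor.MBigEleven.noTwo hy A hA m hm1 (hm ▸ dvd_rfl)

theorem not_two_dvd {p : ℕ} (hp : p.Prime) (hp2 : p ≠ 2) {x : MG} (hx : orderOf x = p) (h : RE x) :
    ¬ 2 ∣ Nat.card ↥(centralizer ({x} : Set MG)) := by
  have := finite
  intro h2
  have : Fact (Nat.Prime 2) := ⟨Nat.prime_two⟩
  obtain ⟨t, ht⟩ := exists_prime_orderOf_dvd_card' 2 h2
  exact ncomm hp hp2 hx h (t := (t : MG)) (by rw [Subgroup.orderOf_coe, ht]) (mem_centralizer_singleton_iff.1 t.2).symm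

/-- an involution of type 2A -/
theorem exists_two_a : ∃ v : MG, orderOf v = 2 ∧
    Nat.card ↥(centralizer ({v} : Set MG)) = 2 * 4154781481226426191177580544000000 := by
  obtain ⟨y, w, -, -, -, -, -, -⟩ := exists_eleven
  have hTA : LThreeB.Row.TA (MonsterX.MainPack.tG MonsterN.LitFin.all.hG MonsterN.LitFin.all.hR) := IsConj.refl _
  have h3 : IsConj (MonsterX.MainPack.tG MonsterN.LitFin.all.hG MonsterN.LitFin.all.hR)
    (MonsterX.MainPack.tG MonsterN.LitFin.all.hG MonsterN.LitFin.all.hR) := hTA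
  exact ⟨_, CpAutBFive.RowB.orderOf_t h3, card_cent_t hTA⟩

/-- **cyclic Sylow subgroups and elements commuting with 2A involutions** -/
theorem noE_even {p : ℕ} [hp : Fact p.Prime] (hp2 : p ≠ 2) (hsq : ¬ p ^ 2 ∣ Nat.card MG)
    (hd : p ∣ 4154781481226426191177580544000000) : NoE p MG := by
  have hfin := finite
  intro x hx hR _
  obtain ⟨v, hv, hvc⟩ := exists_two_a
  have hd' : p ∣ Nat.card ↥(centralizer ({v} : Set MG)) := by
    rw [hvc]
    exact Dvd.dvd.mul_left hd 2
  obtain ⟨g, hg⟩ := exists_conj_mem (cyclic_of_card hsq) hx hd'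
  refine ncomm hp.out hp2 (x := g * x * g⁻¹) ?_ (RE.map (MulAut.conj g) hR) hv (mem_centralizer_singleton_iff.1 hg)
  rw [← hx]
  exact MulEquiv.orderOf_eq (MulAut.conj g) x

section K

variable {K : Type*} [Group K] [Finite K]

theorem not_two_dvd' (φ : K ≃* MG) {p : ℕ} (hp : p.Prime) (hp2 : p ≠ 2) {x : K} (hx : orderOf x = p) (h : RE x) :
    ¬ 2 ∣ Nat.card ↥(centralizer ({x} : Set K)) := by
  have := finite
  intro h2
  have : Fact (Nat.Prime 2) := ⟨Nat.prime_two⟩
  obtain ⟨t, ht⟩ := exists_prime_orderOf_dvd_card' 2 h2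
  refine ncomm hp hp2 (x := φ x) (by rw [MulEquiv.orderOf_eq, hx]) (RE.map φ h) (t := φ (t : K))
    (by rw [MulEquiv.orderOf_eq, Subgroup.orderOf_coe, ht]) ?_
  rw [← map_mul, ← map_mul, (mem_centralizer_singleton_iff.1 t.2)]

theorem card_K (φ : K ≃* MG) : Nat.card K = 808017424794512875886459904961710757005754368000000000 := by
  rw [Nat.card_congr φ.toEquiv, card_M]

/-- the condition of Theorem O for `t = 2` -/
theorem two_cond (φ : K ≃* MG) {p : ℕ} {m : ℕ} (hm : ∀ j : ℕ, 2 ^ j ∣ p - 1 → j ≤ m)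
    (hdm : ∀ j ≤ m, ¬ p ∣ 2 ^ (46 - j) - 1) (T : Sylow 2 K) (a j : ℕ) (h1 : Nat.card T = 2 ^ (a + j))
    (h2 : p ∣ 2 ^ a - 1) (h3 : 2 ^ j ∣ p - 1) : False := by
  have hc := card_K φ
  have h4 : 46 ≤ a + j := by
    have h5 : 2 ^ 46 ∣ Nat.card T := T.pow_dvd_card_of_pow_dvd_card (by rw [hc]; norm_num)
    rw [h1] at h5
    exact (Nat.pow_dvd_pow_iff_le_right (by norm_num)).1 h5
  have h5 : a + j ≤ 46 := by
    by_contra hcon
    have h6 : 2 ^ 47 ∣ Nat.card K := by
      refine (pow_dvd_pow 2 (by omega : 47 ≤ a + j)).trans ?_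
      rw [← h1]
      exact Subgroup.card_subgroup_dvd_card (T : Subgroup K)
    rw [hc] at h6
    norm_num at h6
  have h6 := hm j h3
  refine hdm j h6 ?_
  have h7 : 46 - j = a := by omega
  rwa [h7]

theorem j_le {p m j : ℕ} (h : 2 ^ j ∣ p - 1) (hm : ¬ 2 ^ (m + 1) ∣ p - 1) : j ≤ m := by
  by_contra hcon
  exact hm ((pow_dvd_pow 2 (by omega)).trans h)

variable [IsSimpleGroup K]

theorem na (φ : K ≃* MG) : ¬ IsMulCommutative K := H51.SY.not_comm_of_card (by
  rw [card_K φ]
  norm_num)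

theorem noE_29 (φ : K ≃* MG) (hb : Blk 29 K) (hO : ThO 29 K) : NoE 29 K := by
  have hp : Fact (Nat.Prime 29) := ⟨by norm_num⟩
  have hcyc : ∀ P : Sylow 29 K, IsCyclic (P : Subgroup K) := cyclic_of_card (by rw [card_K φ]; norm_num)
  refine NoE.of_m0 (na φ) hcyc fun x hx hR hY => m0_num hcyc hb hO hx hR hY fun t ht htp htd => ?_
  have h1 : t = 2 ∨ t = 7 := by
    have h2 : t ∣ 2 ^ 2 * 7 := htd
    rcases (Nat.Prime.dvd_mul ht).1 h2 with h3 | h3
    · exact Or.inl ((Nat.prime_dvd_prime_iff_eq ht Nat.prime_two).1 (ht.dvd_of_dvd_pow h3))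
    · exact Or.inr ((Nat.prime_dvd_prime_iff_eq ht (by norm_num)).1 h3)
  rcases h1 with rfl | rfl
  · right
    refine ⟨not_two_dvd' φ (by norm_num) (by norm_num) hx hR, default, ?_⟩
    intro a j n h3 h4 h5 _ _ _ _
    have h2 : Fact (Nat.Prime 2) := ⟨Nat.prime_two⟩
    exact two_cond φ (m := 2) (fun j h => j_le h (by norm_num)) (fun j hj => by interval_cases j <;> norm_num) _ a j h3 h4 h5
  · left
    exact H51.SY.cond_order (v := 6) (by rw [card_K φ]; norm_num) (by decide)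

theorem noE_41 (φ : K ≃* MG) (hb : Blk 41 K) (hO : ThO 41 K) : NoE 41 K := by
  have hp : Fact (Nat.Prime 41) := ⟨by norm_num⟩
  have hcyc : ∀ P : Sylow 41 K, IsCyclic (P : Subgroup K) := cyclic_of_card (by rw [card_K φ]; norm_num)
  refine NoE.of_m0 (na φ) hcyc fun x hx hR hY => m0_num hcyc hb hO hx hR hY fun t ht htp htd => ?_
  have h1 : t = 2 ∨ t = 5 := by
    have h2 : t ∣ 2 ^ 3 * 5 := htd
    rcases (Nat.Prime.dvd_mul ht).1 h2 with h3 | h3
    · exact Or.inl ((Nat.prime_dvd_prime_iff_eq ht Nat.prime_two).1 (ht.dvd_of_dvd_pow h3))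
    · exact Or.inr ((Nat.prime_dvd_prime_iff_eq ht (by norm_num)).1 h3)
  rcases h1 with rfl | rfl
  · right
    refine ⟨not_two_dvd' φ (by norm_num) (by norm_num) hx hR, default, ?_⟩
    intro a j n h3 h4 h5 _ _ _ _
    have h2 : Fact (Nat.Prime 2) := ⟨Nat.prime_two⟩
    exact two_cond φ (m := 3) (fun j h => j_le h (by norm_num)) (fun j hj => by interval_cases j <;> norm_num) _ a j h3 h4 h5
  · left
    exact H51.SY.cond_order (v := 9) (by rw [card_K φ]; norm_num) (by decide)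

theorem noE_59 (φ : K ≃* MG) (hb : Blk 59 K) (hO : ThO 59 K) : NoE 59 K := by
  have hp : Fact (Nat.Prime 59) := ⟨by norm_num⟩
  have hcyc : ∀ P : Sylow 59 K, IsCyclic (P : Subgroup K) := cyclic_of_card (by rw [card_K φ]; norm_num)
  refine NoE.of_m0 (na φ) hcyc fun x hx hR hY => m0_num hcyc hb hO hx hR hY fun t ht htp htd => ?_
  have h1 : t = 2 ∨ t = 29 := by
    have h2 : t ∣ 2 * 29 := htd
    rcases (Nat.Prime.dvd_mul ht).1 h2 with h3 | h3
    · exact Or.inl ((Nat.prime_dvd_prime_iff_eq ht Nat.prime_two).1 h3)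
    · exact Or.inr ((Nat.prime_dvd_prime_iff_eq ht (by norm_num)).1 h3)
  left
  rcases h1 with rfl | rfl
  · exact H51.SY.cond_order (v := 46) (by rw [card_K φ]; norm_num) (by decide)
  · exact H51.SY.cond_order (v := 1) (by rw [card_K φ]; norm_num) (by decide)

/-- `p = 71`, `t = 5` -/
theorem cent_71 (φ : K ≃* MG) {x : K} (hx : orderOf x = 71) (hR : RE x) {R : Subgroup K} (hRt : IsPGroup 5 R)
    (hxR : ∀ a ∈ R, x * a * x⁻¹ ∈ R) : ∀ a ∈ R, x * a = a * x := by
  have hfin := finite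
  have hs := simple
  have hp : Fact (Nat.Prime 71) := ⟨by norm_num⟩
  have h5 : Fact (Nat.Prime 5) := ⟨Nat.prime_five⟩
  intro a ha
  apply φ.injective
  rw [map_mul, map_mul]
  refine H848.NoELocM.centralises (p := 71) (t := 5) (cyclic_of_card (by rw [card_M]; norm_num)) (by norm_num)
    (x := φ x) (by rw [MulEquiv.orderOf_eq, hx]) (RE.map φ hR) (by norm_num) ?_ (by rw [card_M]; norm_num)
    (H848.NoEMFive.sylC_model (by unfold H199.NSmMon.Big; simp)) (Q := R.map φ.toMonoidHom) (hRt.map _) ?_ _ ⟨a, ha, rfl⟩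
  · intro j hj
    interval_cases j <;> norm_num
  · rintro _ ⟨b, hb, rfl⟩
    exact ⟨x * b * x⁻¹, hxR b hb, by simp⟩

theorem noE_71 (φ : K ≃* MG) (hb : Blk 71 K) (hO : ThO 71 K) : NoE 71 K := by
  have hp : Fact (Nat.Prime 71) := ⟨by norm_num⟩
  have hcyc : ∀ P : Sylow 71 K, IsCyclic (P : Subgroup K) := cyclic_of_card (by rw [card_K φ]; norm_num)
  refine NoE.of_m0 (na φ) hcyc fun x hx hR hY => M0.of_triv_blk hcyc hb hx hY fun t ht htp htd R hRt hxR => ?_
  have h1 : t = 2 ∨ t = 5 ∨ t = 7 := by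
    have h2 : t ∣ 2 * 5 * 7 := htd
    rcases (Nat.Prime.dvd_mul ht).1 h2 with h3 | h3
    · rcases (Nat.Prime.dvd_mul ht).1 h3 with h4 | h4
      · exact Or.inl ((Nat.prime_dvd_prime_iff_eq ht Nat.prime_two).1 h4)
      · exact Or.inr (Or.inl ((Nat.prime_dvd_prime_iff_eq ht (by norm_num)).1 h4))
    · exact Or.inr (Or.inr ((Nat.prime_dvd_prime_iff_eq ht (by norm_num)).1 h3))
  rcases h1 with rfl | rfl | rfl
  · by_cases h0 : R = ⊥
    · rw [h0]
      intro a ha
      rw [mem_bot.1 ha, mul_one, one_mul]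
    · exfalso
      obtain ⟨a, j, n, h3, h4, h5, -, -, -, -⟩ := hO hcyc 2 ht htp x hx hR
        (not_two_dvd' φ (by norm_num) (by norm_num) hx hR) R h0 hRt hxR default
      have h2 : Fact (Nat.Prime 2) := ⟨Nat.prime_two⟩
      exact two_cond φ (m := 1) (fun j h => j_le h (by norm_num)) (fun j hj => by interval_cases j <;> norm_num) _ a j h3 h4 h5
  · exact cent_71 φ hx hR hRt hxR
  · exact centralises_of_card hx ht htp (H51.SY.cond_order (v := 6) (by rw [card_K φ]; norm_num) (by decide)) hRt hxR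

end K

/-- **The Monster**, all primes except 5, 7 and 13. -/
theorem noE_m_of {K : Type*} [Group K] [Finite K] [IsSimpleGroup K] (h : Cfsg.Spor.IsoM K) {p : ℕ} [hp : Fact p.Prime]
    (hp5 : 5 ≤ p) (h5 : p ≠ 5) (h7 : p ≠ 7) (h13 : p ≠ 13) (hb : Cfsg.Agent.H301.SY.Blk p K)
    (hO : Cfsg.Agent.H301.SY.ThO p K) : Cfsg.Agent.H301.SY.NoE p K := by
  have hfin := finite
  have φ : Nonempty (K ≃* MG) := by
    obtain ⟨f⟩ := h
    obtain ⟨e⟩ := MonsterP.Equiv.equiv
    exact ⟨f.trans e⟩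
  obtain ⟨φ⟩ := φ
  by_cases hd : p ∣ Nat.card K
  swap
  · exact H51.SY.noE_of_not_dvd hd
  rw [card_K φ, show 808017424794512875886459904961710757005754368000000000 = 2 ^ 46 * 3 ^ 20 * 5 ^ 9 * 7 ^ 6 * 11 ^ 2 *
    13 ^ 3 * 17 * 19 * 23 * 29 * 31 * 41 * 47 * 59 * 71 by norm_num] at hd
  simp only [Nat.Prime.dvd_mul hp.out] at hd
  have key : ∀ {q k : ℕ}, q.Prime → p ∣ q ^ k → p = q := fun hq h =>
    (Nat.prime_dvd_prime_iff_eq hp.out hq).1 (hp.out.dvd_of_dvd_pow h)
  have key' : ∀ {q : ℕ}, q.Prime → p ∣ q → p = q := fun hq h => (Nat.prime_dvd_prime_iff_eq hp.out hq).1 h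
  have hcase : p = 11 ∨ p = 17 ∨ p = 19 ∨ p = 23 ∨ p = 29 ∨ p = 31 ∨ p = 41 ∨ p = 47 ∨ p = 59 ∨ p = 71 := by
    rcases hd with (((((((((((((h1 | h1) | h1) | h1) | h1) | h1) | h1) | h1) | h1) | h1) | h1) | h1) | h1) | h1) | h1
    · have := key Nat.prime_two h1; omega
    · have := key Nat.prime_three h1; omega
    · exact absurd (key Nat.prime_five h1) h5
    · exact absurd (key (by norm_num) h1) h7
    · have := key (by norm_num) h1; omega
    · exact absurd (key (by norm_num) h1) h13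
    · have := key' (by norm_num) h1; omega
    · have := key' (by norm_num) h1; omega
    · have := key' (by norm_num) h1; omega
    · have := key' (by norm_num) h1; omega
    · have := key' (by norm_num) h1; omega
    · have := key' (by norm_num) h1; omega
    · have := key' (by norm_num) h1; omega
    · have := key' (by norm_num) h1; omega
    · have := key' (by norm_num) h1; omega
  rcases hcase with rfl | rfl | rfl | rfl | rfl | rfl | rfl | rfl | rfl | rfl
  · exact NoE.congr φ noE_eleven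
  · exact NoE.congr φ (noE_even (by norm_num) (by rw [card_M]; norm_num) (by norm_num))
  · exact NoE.congr φ (noE_even (by norm_num) (by rw [card_M]; norm_num) (by norm_num))
  · exact NoE.congr φ (noE_even (by norm_num) (by rw [card_M]; norm_num) (by norm_num))
  · exact noE_29 φ hb hO
  · exact NoE.congr φ (noE_even (by norm_num) (by rw [card_M]; norm_num) (by norm_num))
  · exact noE_41 φ hb hO
  · exact NoE.congr φ (noE_even (by norm_num) (by rw [card_M]; norm_num) (by norm_num))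
  · exact noE_59 φ hb hO
  · exact noE_71 φ hb hO

end Cfsg.Agent.H848.NoEM
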