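import Cfsg.Agent.H848.TrioK
import Cfsg.Agent.H848.Dual
import Cfsg.Agent.H848.S3Act
import Cfsg.Agent.H848.NormFour

/-!
# The normaliser of the elementary abelian subgroup of order 32

`h : Chart Q z eta pi`; `E5 = pre h U4` is elementary abelian of order 32; its centraliser maps onto the symmetric group
of degree 3 with kernel `O` of order `2 ^ 35`; the centre of `O` is `E5`.  If `τ` moves `z` to `y` and is trivial on
`pre h W12` modulo `⟨z, y⟩`, then the normaliser induces `SL(5, 2)` on `E5`.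
-/

set_option autoImplicit false
set_option linter.unusedSectionVars false

open Cfsg

namespace Cfsg.Agent.H848.NormFive

open Cfsg.Agent.SporadicA
open Cfsg.Agent.SporadicA.Co1Simple
open Cfsg.Agent.CoOneType.CoOneE (pr E)
open Cfsg.Agent.MonsterU.Lam2 (L2 cl cl_surjective bf qf bf_nondeg bf_comm add_self neg_eq)
open Cfsg.Agent.MonsterU.CoFrameL2
open Cfsg.Agent.MonsterU.CoFrameIrr
open Cfsg.Agent.MonsterU.AmalGen (pre mem_pre pre_mono pre_conj z_mem_pre EE bf_W12)
open Cfsg.Agent.MonsterU.Ch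
open Cfsg.Agent.H848.ProdQuot
open Cfsg.Agent.H848.GLAct (V Coord exists_iota act sl_core s3_core prod_core)
open Cfsg.Agent.H848.Dual (perp mem_perp card_perp perp_perp exists_bf)
open Cfsg.Agent.H848.TrioU (U4 K mem_K U4_le W1_le_U4 f0_mem_U4 card_U4 K_le_F)
open Cfsg.Agent.H848.TrioK (fac fac_surj card_ker_fac Stab mem_Stab trans_U4 qf_W12)
open Cfsg.Agent.H848.NormFour (card_pre)
open Cfsg.Spor (Co1)

variable {G : Type*} [Group G] {Q : Subgroup G} {z : G} {eta : G → L2}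
  {pi : Subgroup.centralizer ({z} : Set G) →* Co1}

/-- an element mapping a finite subgroup into itself normalises it -/
theorem mem_normalizer_of {E : Subgroup G} [Finite E] {g : G} (hg : ∀ e ∈ E, g * e * g⁻¹ ∈ E) :
    g ∈ Subgroup.normalizer (E : Set G) := by
  rw [Subgroup.mem_normalizer_iff]
  intro x
  refine ⟨fun hx => hg x hx, fun hx => ?_⟩
  let f : E → E := fun e => ⟨g * e * g⁻¹, hg e e.2⟩
  have hf : Function.Injective f := by
    intro a b hab
    have h1 : g * a * g⁻¹ = g * b * g⁻¹ := congrArg Subtype.val hab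
    exact Subtype.ext (mul_left_cancel (mul_right_cancel h1))
  obtain ⟨e, he⟩ := Finite.surjective_of_injective hf ⟨g * x * g⁻¹, hx⟩
  have h1 : g * e * g⁻¹ = g * x * g⁻¹ := congrArg Subtype.val he
  rw [← mul_left_cancel (mul_right_cancel h1)]
  exact e.2

section

variable (h : Chart Q z eta pi)
include h

/-- the subgroup -/
noncomputable abbrev E5 : Subgroup G := pre h U4

/-- the normaliser -/
noncomputable abbrev N5 : Subgroup G := Subgroup.normalizer (E5 h : Set G)

/-- the centraliser -/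
noncomputable abbrev C5 : Subgroup (N5 h) := (Subgroup.centralizer (E5 h : Set G)).subgroupOf (N5 h)

theorem card_E5 : Nat.card (E5 h) = 2 ^ 5 := by
  rw [card_pre, card_U4]
  norm_num

theorem finite_E5 : Finite (E5 h) := Nat.finite_of_card_ne_zero (by rw [card_E5]; norm_num)

theorem ab {a b : G} (ha : a ∈ E5 h) (hb : b ∈ E5 h) : a * b = b * a :=
  (h.comm_iff ha.1 hb.1).2 (bf_W12 (U4_le ha.2) (U4_le hb.2))

theorem sq {a : G} (ha : a ∈ E5 h) : a * a = 1 := (h.sq_one ha.1).2 (qf_W12 (U4_le ha.2))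

theorem z_mem : z ∈ E5 h := z_mem_pre h U4

/-- functionals on the subgroup are given by elements of `Q` -/
theorem exists_q (μ : G → ZMod 2) (hμ : ∀ a ∈ E5 h, ∀ b ∈ E5 h, μ (a * b) = μ a + μ b) (hz : μ z = 0) :
    ∃ q ∈ Q, ∀ e ∈ E5 h, q * e * q⁻¹ = e * if μ e = 0 then 1 else z := by
  choose s hs hse using h.eta_surj
  have hsE : ∀ u ∈ U4, s u ∈ E5 h := fun u hu => ⟨hs u, by rw [hse]; exact hu⟩
  have hμs : ∀ e ∈ E5 h, μ e = μ (s (eta e)) := by
    intro e he
    rcases (h.eta_eq he.1 (hs (eta e))).1 (hse (eta e)).symm with h1 | h1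
    · rw [← h1]
    · conv_lhs => rw [h1]
      rw [hμ _ (hsE _ he.2) _ (z_mem h), hz, add_zero]
  let f : U4 →+ ZMod 2 := AddMonoidHom.mk' (fun u => μ (s u)) (by
    intro u v
    have h1 := hμs _ ((E5 h).mul_mem (hsE u u.2) (hsE v v.2))
    rw [h.eta_mul _ (hs _) _ (hs _), hse, hse, hμ _ (hsE u u.2) _ (hsE v v.2)] at h1
    exact h1.symm)
  obtain ⟨w, hw⟩ := exists_bf U4 f
  refine ⟨s w, hs w, fun e he => ?_⟩
  have h1 : bf (eta (s w)) (eta e) = μ e := by
    rw [hse, hμs e he]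
    exact hw ⟨eta e, he.2⟩
  split_ifs with h2
  · rw [h2] at h1
    have h3 := (h.comm_iff (hs w) he.1).2 h1
    rw [h3]; group
  · have h4 : μ e = 1 := by
      generalize μ e = a at h2
      revert a; decide
    rw [h4] at h1
    have h3 := (h.comm_z_iff (hs w) he.1).2 h1
    have h5 := h.large.comm_z _ (hs w)
    calc s w * e * (s w)⁻¹ = e * (s w * z) * (s w)⁻¹ := by rw [h3]; group
      _ = e * z := by rw [h5]; group

/-- elements of `Q` normalise the subgroup -/
theorem Q_mem {q : G} (hq : q ∈ Q) : q ∈ N5 h := by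
  have := finite_E5 h
  refine mem_normalizer_of fun e he => ?_
  rcases Cfsg.Agent.MonsterU.Lam2.bf_comm (eta q) (eta e) with -
  have h1 : ∀ a : ZMod 2, a = 0 ∨ a = 1 := by decide
  rcases h1 (bf (eta q) (eta e)) with h2 | h2
  · have h3 := (h.comm_iff hq he.1).2 h2
    have : q * e * q⁻¹ = e := by rw [h3]; group
    rw [this]; exact he
  · have h3 := (h.comm_z_iff hq he.1).2 h2
    have h5 := h.large.comm_z _ hq
    have : q * e * q⁻¹ = e * z := by
      calc q * e * q⁻¹ = e * (q * z) * q⁻¹ := by rw [h3]; group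
        _ = e * z := by rw [h5]; group
    rw [this]; exact (E5 h).mul_mem he (z_mem h)

/-- an element of the centraliser of `z` as an element of the domain of `pi` -/
theorem c_mem {c : Subgroup.centralizer ({z} : Set G)} (hc : pi c ∈ Stab) : (c : G) ∈ N5 h := by
  have := finite_E5 h
  exact mem_normalizer_of fun e he => pre_conj h c (fun u hu => (hc u).2 hu) he

theorem conj_z {e : G} (he : e ∈ Q) (hne : eta e ≠ 0) : ∃ q ∈ Q, q * e * q⁻¹ = e * z := by
  have h1 : ∃ w, bf w (eta e) = 1 := by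
    by_contra hn
    push Not at hn
    apply hne
    apply bf_nondeg
    intro w
    have h2 := hn w
    rw [bf_comm] at h2
    generalize bf (eta e) w = a at h2 ⊢
    revert a; decide
  obtain ⟨w, hw⟩ := h1
  obtain ⟨q, hq, rfl⟩ := h.eta_surj w
  refine ⟨q, hq, ?_⟩
  have h3 := (h.comm_z_iff hq he).2 hw
  have h5 := h.large.comm_z _ hq
  calc q * e * q⁻¹ = e * (q * z) * q⁻¹ := by rw [h3]; group
    _ = e * z := by rw [h5]; group

/-- the elements outside `⟨z⟩` are conjugate in the normaliser -/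
theorem trans_out {e f : G} (he : e ∈ E5 h) (he0 : eta e ≠ 0) (hf : f ∈ E5 h) (hf0 : eta f ≠ 0) :
    ∃ g ∈ N5 h, g * e * g⁻¹ = f := by
  obtain ⟨s, hs, hsx⟩ := trans_U4 he.2 he0 hf.2 hf0
  obtain ⟨c, rfl⟩ := h.pi_surj s
  have h1 : eta ((c : G) * e * (c : G)⁻¹) = eta f := by rw [h.eta_conj c e he.1, hsx]
  have hcQ := h.large.conj_mem c (Subgroup.mem_centralizer_singleton_iff.1 c.2) e he.1
  rcases (h.eta_eq hcQ hf.1).1 h1 with h2 | h2
  · exact ⟨c, c_mem h hs, h2⟩
  · obtain ⟨q, hq, hqf⟩ := conj_z h hf.1 hf0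
    have h5 : q * z * q⁻¹ = z := by rw [h.large.comm_z _ hq]; group
    refine ⟨q * c, (N5 h).mul_mem (Q_mem h hq) (c_mem h hs), ?_⟩
    calc q * c * e * (q * c)⁻¹ = q * (c * e * (c : G)⁻¹) * q⁻¹ := by group
      _ = q * f * q⁻¹ * (q * z * q⁻¹) := by rw [h2]; group
      _ = f := by rw [hqf, h5, mul_assoc, h.large.z_sq, mul_one]

/-! ### the centraliser -/

/-- the centraliser in the centraliser of `z` -/
noncomputable def toZ : C5 h →* Subgroup.centralizer ({z} : Set G) where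
  toFun x := ⟨((x : N5 h) : G), by
    rw [Subgroup.mem_centralizer_singleton_iff]
    exact (Subgroup.mem_centralizer_iff.1 x.2 z (z_mem h)).symm⟩
  map_one' := rfl
  map_mul' _ _ := rfl

theorem toZ_coe (x : C5 h) : (toZ h x : G) = ((x : N5 h) : G) := rfl

theorem C5_comm (x : C5 h) {e : G} (he : e ∈ E5 h) : ((x : N5 h) : G) * e = e * ((x : N5 h) : G) :=
  (Subgroup.mem_centralizer_iff.1 x.2 e he).symm

theorem pi_mem_K (x : C5 h) : pi (toZ h x) ∈ K := by
  intro u hu
  obtain ⟨e, he, rfl⟩ := h.eta_surj u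
  rw [← h.eta_conj _ e he, toZ_coe, C5_comm h x ⟨he, hu⟩, mul_inv_cancel_right]

/-- the image of the centraliser -/
noncomputable def piK : C5 h →* K := (pi.comp (toZ h)).codRestrict _ fun x => pi_mem_K h x

theorem piK_coe (x : C5 h) : (piK h x : Co1) = pi (toZ h x) := rfl

theorem mem_N_of_cent {x : G} (hx : x ∈ Subgroup.centralizer (E5 h : Set G)) : x ∈ N5 h := by
  have := finite_E5 h
  refine mem_normalizer_of fun e he => ?_
  rw [← Subgroup.mem_centralizer_iff.1 hx e he, mul_inv_cancel_right]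
  exact he

/-- elements over the pointwise stabiliser can be corrected -/
theorem exists_corr (c : Subgroup.centralizer ({z} : Set G)) (hc : pi c ∈ K) :
    ∃ q ∈ Q, q * c ∈ Subgroup.centralizer (E5 h : Set G) := by
  classical
  have hcz : (c : G) * z = z * c := Subgroup.mem_centralizer_singleton_iff.1 c.2
  have h1 : ∀ e ∈ E5 h, (c : G) * e * (c : G)⁻¹ = e ∨ (c : G) * e * (c : G)⁻¹ = e * z := by
    intro e he
    have hcQ := h.large.conj_mem c hcz e he.1
    apply (h.eta_eq hcQ he.1).1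
    rw [h.eta_conj c e he.1]
    exact hc _ he.2
  let μ : G → ZMod 2 := fun e => if (c : G) * e * (c : G)⁻¹ = e then 0 else 1
  have hμ : ∀ e ∈ E5 h, (c : G) * e * (c : G)⁻¹ = e * if μ e = 0 then 1 else z := by
    intro e he
    by_cases h2 : (c : G) * e * (c : G)⁻¹ = e
    · have h3 : μ e = 0 := if_pos h2
      rw [h3, if_pos rfl, mul_one, h2]
    · have h3 : μ e = 1 := if_neg h2
      rw [h3, if_neg one_ne_zero]
      exact (h1 e he).resolve_left h2
  have hzc : ∀ e ∈ E5 h, e * z = z * e := fun e he => ab h he (z_mem h)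
  have hadd : ∀ a ∈ E5 h, ∀ b ∈ E5 h, μ (a * b) = μ a + μ b := by
    intro a ha b hb
    have h2 := hμ _ ((E5 h).mul_mem ha hb)
    have h3 : (c : G) * (a * b) * (c : G)⁻¹ = ((c : G) * a * (c : G)⁻¹) * ((c : G) * b * (c : G)⁻¹) := by group
    rw [h3, hμ a ha, hμ b hb] at h2
    have hz2 := h.large.z_sq
    have hzn := h.large.z_ne
    have key : ∀ x : ZMod 2, x = 0 ∨ x = 1 := by decide
    have zb : z * b = b * z := (hzc b hb).symm
    rcases key (μ a) with ea | ea <;> rcases key (μ b) with eb | eb <;> rcases key (μ (a * b)) with ec | ec <;>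
      rw [ea, eb, ec] at h2 ⊢ <;> simp only [if_true, if_false, one_ne_zero, mul_one] at h2 <;> first
      | rfl
      | decide
      | (exfalso
         first
         | exact hzn (left_eq_mul.1 h2)
         | (rw [← mul_assoc] at h2; exact hzn (left_eq_mul.1 h2.symm))
         | (apply hzn
            have h4 : a * z * b = a * b * z := by rw [mul_assoc, zb, ← mul_assoc]
            rw [h4] at h2
            exact mul_eq_left.1 h2)
         | (apply hzn
            have h4 : a * z * (b * z) = a * b := by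
              rw [mul_assoc, ← mul_assoc z b z, zb, mul_assoc, hz2, mul_one]
            rw [h4] at h2
            exact left_eq_mul.1 h2))
  obtain ⟨q, hq, hqe⟩ := exists_q h μ hadd (by
    show (if (c : G) * z * (c : G)⁻¹ = z then (0 : ZMod 2) else 1) = 0
    rw [if_pos]
    rw [hcz, mul_inv_cancel_right])
  refine ⟨q, hq, ?_⟩
  rw [Subgroup.mem_centralizer_iff]
  intro e he
  have h5 : q * z * q⁻¹ = z := by rw [h.large.comm_z _ hq]; group
  have h6 : q * c * e * (q * c)⁻¹ = e := by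
    calc q * c * e * (q * c)⁻¹ = q * (c * e * (c : G)⁻¹) * q⁻¹ := by group
      _ = e := by
        rw [hμ e he]
        split_ifs with h7
        · have h8 := hqe e he
          rw [if_pos h7] at h8
          rw [mul_one, h8, mul_one]
        · have h8 := hqe e he
          rw [if_neg h7] at h8
          calc q * (e * z) * q⁻¹ = (q * e * q⁻¹) * (q * z * q⁻¹) := by group
            _ = e := by rw [h8, h5, mul_assoc, h.large.z_sq, mul_one]
  exact (mul_inv_eq_iff_eq_mul.1 h6).symm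

theorem piK_surj : Function.Surjective (piK h) := by
  rintro ⟨s, hs⟩
  obtain ⟨c, rfl⟩ := h.pi_surj s
  obtain ⟨q, hq, hqc⟩ := exists_corr h c hs
  refine ⟨⟨⟨q * c, mem_N_of_cent h hqc⟩, hqc⟩, ?_⟩
  apply Subtype.ext
  rw [piK_coe]
  have hqz : q ∈ Subgroup.centralizer ({z} : Set G) :=
    Subgroup.mem_centralizer_singleton_iff.2 (h.large.comm_z _ hq)
  have e : toZ h ⟨⟨q * c, mem_N_of_cent h hqc⟩, hqc⟩ = ⟨q, hqz⟩ * c := Subtype.ext rfl
  rw [e, map_mul, (h.pi_eq_one ⟨q, hqz⟩).2 hq, one_mul]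

/-- the map onto the symmetric group of degree 3 -/
noncomputable def rho : C5 h →* Equiv.Perm (Fin 3) := fac.comp (piK h)

theorem rho_surj : Function.Surjective (rho h) := fac_surj.comp (piK_surj h)

/-- elements of `Q` in the centraliser -/
theorem Q_cent {q : G} (hq : q ∈ Q) : q ∈ Subgroup.centralizer (E5 h : Set G) ↔ eta q ∈ perp U4 := by
  rw [Subgroup.mem_centralizer_iff, mem_perp]
  constructor
  · intro h1 u hu
    obtain ⟨e, he, rfl⟩ := h.eta_surj u
    exact (h.comm_iff hq he).1 (h1 e ⟨he, hu⟩).symm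
  · intro h1 e he
    exact ((h.comm_iff hq he.1).2 (h1 _ he.2)).symm

theorem card_perp_U4 : Nat.card (perp U4) = 2 ^ 20 := by
  have h1 := card_perp U4
  rw [card_U4] at h1
  exact Nat.eq_of_mul_eq_mul_right (by norm_num : 0 < 16) (h1.trans (by norm_num))

theorem card_ker_rho : Nat.card (rho h).ker = 2 ^ 35 := by
  let ψ : (rho h).ker →* fac.ker := ((piK h).comp (rho h).ker.subtype).codRestrict _ fun x => x.2
  have hψ : ∀ x : (rho h).ker, ((ψ x : fac.ker) : K) = piK h x := fun x => rfl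
  have hsurj : Function.Surjective ψ := by
    intro k
    obtain ⟨x, hx⟩ := piK_surj h k
    refine ⟨⟨x, ?_⟩, ?_⟩
    · rw [MonoidHom.mem_ker]
      show fac (piK h x) = 1
      rw [hx]; exact k.2
    · apply Subtype.ext
      rw [hψ]; exact hx
  have hker : Nat.card ψ.ker = 2 ^ 21 := by
    have h1 := card_pre h (perp U4)
    rw [card_perp_U4 h] at h1
    have h2 : (2 : ℕ) * 2 ^ 20 = 2 ^ 21 := by norm_num
    rw [← h2, ← h1]
    have hone : ∀ x : C5 h, piK h x = 1 ↔ ((x : N5 h) : G) ∈ Q := by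
      intro x
      have h9 : pi (toZ h x) = 1 ↔ ((x : N5 h) : G) ∈ Q := h.pi_eq_one (toZ h x)
      rw [← h9, ← piK_coe]
      exact ⟨fun h => congrArg Subtype.val h, fun h => Subtype.ext h⟩
    refine Nat.card_congr
      { toFun := fun x => ⟨((((x : (rho h).ker) : C5 h) : N5 h) : G), ?_⟩
        invFun := fun q => ⟨⟨⟨⟨q, ?_⟩, ?_⟩, ?_⟩, ?_⟩
        left_inv := fun s => rfl
        right_inv := fun s => rfl }
    · have h3 : ψ (x : (rho h).ker) = 1 := x.2
      have h4 : piK h ((x : (rho h).ker) : C5 h) = 1 := congrArg Subtype.val h3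
      have h5 := (hone _).1 h4
      exact ⟨h5, (Q_cent h h5).1 ((x : (rho h).ker) : C5 h).2⟩
    · exact mem_N_of_cent h ((Q_cent h q.2.1).2 q.2.2)
    · exact (Q_cent h q.2.1).2 q.2.2
    · rw [MonoidHom.mem_ker]
      show fac (piK h _) = 1
      rw [(hone _).2 q.2.1, map_one]
    · rw [MonoidHom.mem_ker]
      apply Subtype.ext
      exact (hone _).2 q.2.1
  have h1 := ψ.ker.card_mul_index
  rw [Subgroup.index_ker, MonoidHom.range_eq_top.2 hsurj, Subgroup.card_top, card_ker_fac, hker] at h1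
  rw [← h1]
  norm_num

/-- the normal 2-subgroup -/
noncomputable abbrev O5 : Subgroup (N5 h) := (rho h).ker.map (C5 h).subtype

theorem card_O5 : Nat.card (O5 h) = 2 ^ 35 := by
  rw [← card_ker_rho h]
  exact Nat.card_congr (Subgroup.equivMapOfInjective _ _ (Subgroup.subtype_injective _)).toEquiv.symm

theorem C5_normal : (C5 h).Normal := by
  refine ⟨?_⟩
  intro x hx g
  rw [Subgroup.mem_subgroupOf, Subgroup.mem_centralizer_iff] at hx ⊢
  intro e he
  have h1 : (g : G)⁻¹ * e * g ∈ E5 h := by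
    have h2 := (Subgroup.mem_normalizer_iff.1 (g⁻¹).2 e).1 he
    show (g : G)⁻¹ * e * g ∈ (E5 h : Set G)
    have h3 : ((g⁻¹ : N5 h) : G) * e * ((g⁻¹ : N5 h) : G)⁻¹ = (g : G)⁻¹ * e * g := by
      rw [Subgroup.coe_inv, inv_inv]
    rw [← h3]; exact h2
  have h2 := hx _ h1
  show e * ((g : G) * x * (g : G)⁻¹) = (g : G) * x * (g : G)⁻¹ * e
  calc e * ((g : G) * x * (g : G)⁻¹) = (g : G) * (((g : G)⁻¹ * e * g) * x) * (g : G)⁻¹ := by group
    _ = (g : G) * x * (g : G)⁻¹ * e := by rw [h2]; group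

theorem Q_mem_O5 {q : G} (hq : q ∈ Q) (hqU : eta q ∈ perp U4) :
    ∃ hN : q ∈ N5 h, (⟨q, hN⟩ : N5 h) ∈ O5 h := by
  have h1 := (Q_cent h hq).2 hqU
  refine ⟨mem_N_of_cent h h1, ⟨⟨⟨q, mem_N_of_cent h h1⟩, h1⟩, ?_, rfl⟩⟩
  rw [SetLike.mem_coe, MonoidHom.mem_ker]
  show fac (piK h _) = 1
  have h2 : piK h ⟨⟨q, mem_N_of_cent h h1⟩, h1⟩ = 1 := by
    apply Subtype.ext
    exact (h.pi_eq_one _).2 hq
  rw [h2, map_one]

/-- **The centre.** -/
theorem center_O5 : (Subgroup.center (O5 h)).map (O5 h).subtype = (E5 h).subgroupOf (N5 h) := by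
  ext n
  rw [Subgroup.mem_map, Subgroup.mem_subgroupOf]
  constructor
  · rintro ⟨o, ho, rfl⟩
    rw [Subgroup.mem_center_iff] at ho
    obtain ⟨⟨n, hn⟩, ⟨x, hx, hxn⟩⟩ := o
    have hcomm : ∀ q ∈ Q, eta q ∈ perp U4 → q * (n : G) = n * q := by
      intro q hq hqU
      obtain ⟨hN, hO⟩ := Q_mem_O5 h hq hqU
      have h1 := ho ⟨⟨q, hN⟩, hO⟩
      exact congrArg (fun t : O5 h => ((t : N5 h) : G)) h1
    have hxn' : ((x : N5 h) : G) = n := congrArg Subtype.val hxn
    have hpi : ∀ u ∈ perp U4, pi (toZ h x) • u = u := by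
      intro u hu
      obtain ⟨q, hq, rfl⟩ := h.eta_surj u
      rw [← h.eta_conj _ q hq, toZ_coe, hxn', ← hcomm q hq hu, mul_inv_cancel_right]
    have h12 : W12 ≤ perp U4 := fun w hw u hu => bf_W12 hw (U4_le hu)
    have hE : pi (toZ h x) ∈ E := by
      refine mem_E_of_trivial ?_ fun w hw => ?_
      · exact K_le_F (pi_mem_K h x)
      · rw [hpi w (h12 hw), sub_self]; exact W1.zero_mem
    have h1 : pi (toZ h x) = 1 := E_eq_one_of_W12 hE fun w hw => hpi w (h12 hw)
    have hnQ : (n : G) ∈ Q := by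
      rw [← hxn', ← toZ_coe]
      exact (h.pi_eq_one _).1 h1
    show (n : G) ∈ E5 h
    refine ⟨hnQ, ?_⟩
    rw [← perp_perp U4]
    intro u hu
    obtain ⟨q, hq, rfl⟩ := h.eta_surj u
    exact (h.comm_iff hnQ hq).1 (hcomm q hq hu).symm
  · intro hn
    have h1 : eta (n : G) ∈ perp U4 := fun u hu => bf_W12 (U4_le hn.2) (U4_le hu)
    obtain ⟨hN, hO⟩ := Q_mem_O5 h hn.1 h1
    refine ⟨⟨n, hO⟩, ?_, rfl⟩
    rw [Subgroup.mem_center_iff]
    rintro ⟨o, ⟨x, hx, rfl⟩⟩
    apply Subtype.ext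
    apply Subtype.ext
    exact C5_comm h x hn

/-! ### the normaliser -/

variable {y : G} (hyQ : y ∈ Q) (hy : eta y = f0) {τ : G} (τz : τ * z * τ⁻¹ = y)
  (τE : ∀ e ∈ EE h, τ * e * τ⁻¹ * e⁻¹ ∈ pre h W1)
include hyQ hy τz τE

theorem tau_mem : τ ∈ N5 h := by
  have := finite_E5 h
  refine mem_normalizer_of fun e he => ?_
  have h1 := τE e (pre_mono h U4_le he)
  have h2 := (E5 h).mul_mem (pre_mono h W1_le_U4 h1) he
  rwa [inv_mul_cancel_right] at h2

theorem conj_z_all {e : G} (he : e ∈ E5 h) (he1 : e ≠ 1) : ∃ g ∈ N5 h, g * z * g⁻¹ = e := by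
  by_cases h0 : eta e = 0
  · rcases (h.eta_zero e he.1).1 h0 with h1 | h1
    · exact absurd h1 he1
    · exact ⟨1, (N5 h).one_mem, by rw [h1]; group⟩
  · have hyE : y ∈ E5 h := ⟨hyQ, by rw [hy]; exact f0_mem_U4⟩
    obtain ⟨g, hg, hge⟩ := trans_out h hyE (by rw [hy]; exact f0_ne) he h0
    refine ⟨g * τ, (N5 h).mul_mem hg (tau_mem h hyQ hy τz τE), ?_⟩
    calc g * τ * z * (g * τ)⁻¹ = g * (τ * z * τ⁻¹) * g⁻¹ := by group
      _ = e := by rw [τz, hge]

/-- **The normaliser of the subgroup.** -/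
theorem main : ∃ (E N : Subgroup G) (O : Subgroup ↥N), Cfsg.IsElementaryAbelian 2 E ∧ Nat.card ↥E = 2 ^ 5 ∧
    N = Subgroup.normalizer (E : Set G) ∧ O = Cfsg.pCore 2 ↥N ∧ Nat.card ↥O = 2 ^ 35 ∧
    (Subgroup.center ↥O).map O.subtype = E.subgroupOf N ∧
    ∃ _ : O.Normal, Nonempty (↥N ⧸ O ≃* Equiv.Perm (Fin 3) × Matrix.SpecialLinearGroup (Fin 5) (ZMod 2)) := by
  obtain ⟨ι, hι⟩ := exists_iota (E5 h) (fun a ha b hb => ab h ha hb) (fun a ha => sq h ha) (card_E5 h)
  obtain ⟨β, hβ⟩ := hι.exists_beta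
  have hker := hι.ker_beta β hβ
  obtain ⟨v₀, hv₀⟩ := (hι.mem z).1 (z_mem h)
  have htr : ∀ x : V 5, x ≠ 0 → ∃ g ∈ N5 h, g * ι v₀ * g⁻¹ = ι x := by
    intro x hx
    rw [hv₀]
    refine conj_z_all h hyQ hy τz τE (hι.ι_mem x) fun h1 => hx (hι.inj ?_)
    rw [h1, hι.zero]
  have htv : ∀ f : V 5 →ₗ[ZMod 2] ZMod 2, f v₀ = 0 →
      ∃ g ∈ N5 h, ∀ x, g * ι x * g⁻¹ = ι (x + f x • v₀) := by
    intro f hf
    have hinv := Function.leftInverse_invFun hι.inj
    obtain ⟨q, hq, hqe⟩ := exists_q h (fun e => f (Function.invFun ι e)) (by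
      intro a ha b hb
      obtain ⟨x, rfl⟩ := (hι.mem a).1 ha
      obtain ⟨y, rfl⟩ := (hι.mem b).1 hb
      show f (Function.invFun ι (ι x * ι y)) = f (Function.invFun ι (ι x)) + f (Function.invFun ι (ι y))
      rw [← hι.add, hinv, hinv, hinv, map_add]) (by
      show f (Function.invFun ι z) = 0
      rw [← hv₀, hinv, hf])
    refine ⟨q, Q_mem h hq, fun x => ?_⟩
    rw [hqe _ (hι.ι_mem x), hι.add]
    congr 1
    show (if f (Function.invFun ι (ι x)) = 0 then 1 else z) = _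
    rw [hinv]
    have key : ∀ x : ZMod 2, x = 0 ∨ x = 1 := by decide
    rcases key (f x) with h1 | h1
    · rw [h1, if_pos rfl, zero_smul, hι.zero]
    · rw [h1, if_neg one_ne_zero, one_smul, hv₀]
  have hβs := hι.beta_surj β hβ htr htv
  have hB := C5_normal h
  have hp : IsPGroup 2 (rho h).ker := IsPGroup.of_card (card_ker_rho h)
  have hact : ∀ n : N5 h, ∃ b : Equiv.Perm (Fin 3), Acts (C5 h) hB (rho h) n b :=
    fun n => S3Act.exists_acts hB (rho h) (rho_surj h) hp n
  obtain ⟨f, hf, hfk, -, -⟩ := exists_hom (hB := hB) (rho_surj h) S3Act.center_trivial β hβs hker hact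
  have hc : Nat.card (O5 h) = 2 ^ 35 := card_O5 h
  have hp' : IsPGroup 2 f.ker := by
    rw [hfk]
    exact IsPGroup.of_card hc
  have htrSL : ∀ v w : V 5, v ≠ 0 → w ≠ 0 →
      ∃ A : Matrix.SpecialLinearGroup (Fin 5) (ZMod 2), act A v = w :=
    fun v w hv hw => hι.trans_SL β hβ htr hv hw
  have hcore := pCore_eq_ker f hf hp' (prod_core s3_core (sl_core htrSL))
  refine ⟨E5 h, N5 h, O5 h, ⟨⟨⟨fun a b => Subtype.ext (ab h a.2 b.2)⟩⟩, fun a ha => ?_⟩, card_E5 h, rfl, ?_, hc,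
    center_O5 h, ?_⟩
  · rw [pow_two]; exact sq h ha
  · rw [hcore, hfk]
  · have hfk' : f.ker = O5 h := hfk
    have hn : (O5 h).Normal := by rw [← hfk']; infer_instance
    refine ⟨hn, ⟨?_⟩⟩
    exact (QuotientGroup.quotientMulEquivOfEq hfk.symm).trans
      (QuotientGroup.quotientKerEquivOfSurjective f hf)

end

end Cfsg.Agent.H848.NormFive
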