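import Cfsg.Agent.H848.TrioU
import Cfsg.Agent.SporadicA.Xi
import Cfsg.Agent.MonsterU.CoFrame23

/-!
# The stabiliser of the subspace of order 16

`fac : K →* Perm (Fin 3)` is onto with kernel of order `2 ^ 14`; the stabiliser `Stab` of `U4` in `Co1` is transitive on the
non-zero elements of `U4`.
-/

set_option autoImplicit false

namespace Cfsg.Agent.H848.TrioK

open Cfsg
open Cfsg.Agent.GolayTrio.Std Cfsg.Agent.GolayTrio.Stab
open Cfsg.Agent.H848.Trio Cfsg.Agent.H848.TrioU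
open Cfsg.Agent.SporadicA.Co0Mono hiding smul_add smul_sub smul_neg smul_zero
open Cfsg.Agent.SporadicA.Co1Simple
open Cfsg.Agent.SporadicA.Xi
open Cfsg.Agent.SporadicA.GolayBase (isCode maskOf mem_supports_iff)
open Cfsg.Agent.SporadicStructure.Co0Base (e8 e8_coe four_mul_mem)
open Cfsg.Agent.CoOneType.SignFacts
open Cfsg.Agent.CoOneType.CoOneE (pr pr_surjective E mem_E)
open Cfsg.Agent.MonsterU.Lam2
open Cfsg.Agent.MonsterU.CoFrame
open Cfsg.Agent.MonsterU.CoFrameAct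
open Cfsg.Agent.MonsterU.CoFrameL2
open Cfsg.Agent.MonsterU.CoFrameIrr (card_W1 card_W12 card_W23 range_signHom)
open Cfsg.Agent.MonsterU.CoFrameF (toM24 toM24_eq toM24_surjective toM24_eq_one_iff exists_of_mem_F sp_mem_F)
open Cfsg.Spor (Co1)
open scoped Pointwise Matrix

/-- the homomorphism of the sign changes -/
noncomputable abbrev sH : Multiplicative golayCode →* Co1 := Cfsg.Agent.MonsterU.CoFrameIrr.signHom

/-- orders for a homomorphism -/
theorem card_map_mul {A B : Type*} [Group A] [Group B] (f : A →* B) (D : Subgroup A) (h : f.ker ≤ D) :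
    Nat.card (D.map f) * Nat.card f.ker = Nat.card D := by
  have h1 := (f.comp D.subtype).ker.card_mul_index
  have h2 : (f.comp D.subtype).ker = f.ker.subgroupOf D := rfl
  rw [Subgroup.index_ker, MonoidHom.range_comp, Subgroup.range_subtype, h2,
    Nat.card_congr (Subgroup.subgroupOfEquivOfLe h).toEquiv] at h1
  rw [mul_comm]; exact h1

/-! ### the pointwise stabiliser -/

/-- the permutation part -/
noncomputable def toP : K →* M24 := toM24.comp (Subgroup.inclusion K_le_F)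

theorem exists_sp (s : K) : ∃ c, (s : Co1) = pr (signCo0 c * permCo0 (toP s)) := by
  obtain ⟨c, σ, h⟩ := exists_of_mem_F (K_le_F s.2)
  have h1 : toP s = σ := toM24_eq (x := Subgroup.inclusion K_le_F s) h
  exact ⟨c, by rw [h1]; exact h⟩

theorem toP_eq {s : K} {c : golayCode} {σ : M24} (h : (s : Co1) = pr (signCo0 c * permCo0 σ)) : toP s = σ :=
  toM24_eq (x := Subgroup.inclusion K_le_F s) h

theorem S_toP (s : K) (d : golayCode) : S (wordPerm (toP s) d) = S d := by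
  obtain ⟨c, h⟩ := exists_sp s
  have h1 := s.2
  rw [h] at h1
  exact S_of_mem_K h1 d

/-- the permutation part in the stabiliser of the trio -/
noncomputable def toT : K →* MulAction.stabilizer M24 T0 :=
  toP.codRestrict _ fun s => mem_stab_of_S (S_toP s)

theorem toT_coe (s : K) : ((toT s : MulAction.stabilizer M24 T0) : M24) = toP s := rfl

theorem phi_toT_fst (s : K) : (phi (toT s)).1 = 1 := phi_fst_eq_one fun c => S_toP s c

/-- the action on the three octads -/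
noncomputable def fac : K →* Equiv.Perm (Fin 3) := (MonoidHom.snd _ _).comp (phi.comp toT)

theorem fac_apply (s : K) : fac s = (phi (toT s)).2 := rfl

theorem exists_toT {σ : MulAction.stabilizer M24 T0} (hσ : (phi σ).1 = 1) : ∃ s : K, toT s = σ := by
  obtain ⟨c, hc⟩ := exists_sign σ hσ
  refine ⟨⟨_, hc⟩, ?_⟩
  apply Subtype.ext
  rw [toT_coe]
  exact toP_eq (c := c) rfl

theorem fac_surj : Function.Surjective fac := by
  intro σ
  obtain ⟨x, hx⟩ := phi_surjective (1, σ)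
  obtain ⟨s, hs⟩ := exists_toT (σ := x) (by rw [hx])
  exact ⟨s, by rw [fac_apply, hs, hx]⟩

theorem sign_mem_K {c : golayCode} : pr (signCo0 c) ∈ K ↔ S c = 0 := by
  constructor
  · intro h
    apply V_ext
    intro a
    obtain ⟨x, hx, rfl⟩ := exists_lab a
    rw [← pairL_eq hx, dotProduct_zero]
    have h1 := h x hx
    rw [sign_smul hx.1] at h1
    by_contra h2
    rw [if_neg h2, add_eq_left] at h1
    exact f0_ne h1
  · intro h x hx
    rw [sign_smul hx.1, pairL_eq hx, h, dotProduct_zero, if_pos rfl, add_zero]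

/-- the sign changes in the pointwise stabiliser -/
theorem card_EK : Nat.card (E ⊓ K : Subgroup Co1) = 2 ^ 8 := by
  let D : Subgroup (Multiplicative golayCode) := (SL.toAddMonoidHom.ker).toSubgroup
  have hD : ∀ c : Multiplicative golayCode, c ∈ D ↔ S c.toAdd = 0 := fun c => Iff.rfl
  have hDcard : Nat.card D = 2 ^ 9 := by
    have h1 := (SL.toAddMonoidHom.ker).card_mul_index
    have h2 : Function.Surjective SL.toAddMonoidHom := S_surj
    rw [AddSubgroup.index_ker, AddMonoidHom.range_eq_top.2 h2, AddSubgroup.card_top,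
      Cfsg.Agent.S0358.card_golayCode] at h1
    have h3 : Nat.card V = 8 := by rw [Nat.card_eq_fintype_card]; decide
    rw [h3] at h1
    have h4 : Nat.card D = Nat.card SL.toAddMonoidHom.ker := rfl
    omega
  have hmap : D.map sH = E ⊓ K := by
    ext s
    rw [Subgroup.mem_map, Subgroup.mem_inf, mem_E]
    constructor
    · rintro ⟨c, hc, rfl⟩
      exact ⟨⟨c.toAdd, rfl⟩, sign_mem_K.2 hc⟩
    · rintro ⟨⟨c, rfl⟩, hc⟩
      exact ⟨Multiplicative.ofAdd c, sign_mem_K.1 hc, rfl⟩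
  have hker : Nat.card sH.ker = 2 := by
    have h1 := sH.ker.card_mul_index
    rw [Subgroup.index_ker, range_signHom, Cfsg.Agent.MonsterU.CoFrameIrr.card_E] at h1
    have h3 : Nat.card (Multiplicative golayCode) = 4096 := Cfsg.Agent.S0358.card_golayCode
    rw [h3] at h1
    exact Nat.eq_of_mul_eq_mul_right (by norm_num : 0 < 2 ^ 11) (h1.trans (by norm_num))
  have hkle : sH.ker ≤ D := by
    intro c hc
    rw [hD]
    apply sign_mem_K.1
    have h1 : sH c = 1 := hc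
    have h2 : pr (signCo0 c.toAdd) = 1 := h1
    rw [h2]
    exact K.one_mem
  have h1 := card_map_mul sH D hkle
  rw [hmap, hDcard, hker] at h1
  exact Nat.eq_of_mul_eq_mul_right (by norm_num : 0 < 2) (h1.trans (by norm_num))

/-- **The order of the kernel.** -/
theorem card_ker_fac : Nat.card fac.ker = 2 ^ 14 := by
  have hm : ∀ s : fac.ker, toT s ∈ phi.ker := by
    intro s
    rw [MonoidHom.mem_ker]
    exact Prod.ext (phi_toT_fst s) s.2
  let ψ : fac.ker →* phi.ker := (toT.comp fac.ker.subtype).codRestrict _ hm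
  have hψ : ∀ s : fac.ker, ((ψ s : phi.ker) : MulAction.stabilizer M24 T0) = toT s := fun s => rfl
  have hsurj : Function.Surjective ψ := by
    intro x
    have hx : phi x = 1 := x.2
    obtain ⟨s, hs⟩ := exists_toT (σ := (x : MulAction.stabilizer M24 T0)) (by rw [hx]; rfl)
    refine ⟨⟨s, ?_⟩, ?_⟩
    · rw [MonoidHom.mem_ker, fac_apply, hs, hx]; rfl
    · apply Subtype.ext
      rw [hψ]; exact hs
  have hker : Nat.card ψ.ker = 2 ^ 8 := by
    rw [← card_EK]
    refine Nat.card_congr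
      { toFun := fun s => ⟨((s : fac.ker) : K), ?_⟩
        invFun := fun s => ⟨⟨⟨s, s.2.2⟩, ?_⟩, ?_⟩
        left_inv := fun s => rfl
        right_inv := fun s => rfl }
    · refine ⟨?_, ((s : fac.ker) : K).2⟩
      have h1 : ψ s = 1 := s.2
      have h2 : toT ((s : fac.ker) : K) = 1 := congrArg Subtype.val h1
      have h3 : toP ((s : fac.ker) : K) = 1 := congrArg Subtype.val h2
      exact (toM24_eq_one_iff (Subgroup.inclusion K_le_F ((s : fac.ker) : K))).1 h3
    · rw [MonoidHom.mem_ker, fac_apply]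
      have h3 : toP ⟨s, s.2.2⟩ = 1 :=
        (toM24_eq_one_iff (Subgroup.inclusion K_le_F ⟨s, s.2.2⟩)).2 s.2.1
      have h4 : toT ⟨s, s.2.2⟩ = 1 := Subtype.ext h3
      rw [h4, map_one]; rfl
    · rw [MonoidHom.mem_ker]
      have h3 : toP ⟨s, s.2.2⟩ = 1 :=
        (toM24_eq_one_iff (Subgroup.inclusion K_le_F ⟨s, s.2.2⟩)).2 s.2.1
      have h4 : toT ⟨s, s.2.2⟩ = 1 := Subtype.ext h3
      exact Subtype.ext h4
  have h1 := ψ.ker.card_mul_index
  rw [Subgroup.index_ker, MonoidHom.range_eq_top.2 hsurj, Subgroup.card_top, card_ker, hker] at h1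
  rw [← h1]
  norm_num

/-! ### the setwise stabiliser -/

/-- the stabiliser of the subspace -/
def Stab : Subgroup Co1 where
  carrier := {g | ∀ u, g • u ∈ U4 ↔ u ∈ U4}
  one_mem' := fun u => by rw [one_smul]
  mul_mem' := by
    intro a b ha hb u
    rw [mul_smul, ha, hb]
  inv_mem' := by
    intro a ha u
    rw [← ha, smul_inv_smul]

theorem mem_Stab {g : Co1} : g ∈ Stab ↔ ∀ u, g • u ∈ U4 ↔ u ∈ U4 := Iff.rfl

theorem mem_Stab_of {g : Co1} (h : ∀ u ∈ U4, g • u ∈ U4) : g ∈ Stab := by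
  have hfin : Finite U4 := Nat.finite_of_card_ne_zero (by rw [card_U4]; norm_num)
  intro u
  refine ⟨fun hu => ?_, h u⟩
  let f : U4 → U4 := fun x => ⟨g • (x : L2), h x x.2⟩
  have hf : Function.Injective f := by
    intro x y hxy
    have h1 : g • (x : L2) = g • (y : L2) := congrArg Subtype.val hxy
    exact Subtype.ext (smul_left_cancel g h1)
  obtain ⟨x, hx⟩ := Finite.surjective_of_injective hf ⟨g • u, hu⟩
  have h1 : g • (x : L2) = g • u := congrArg Subtype.val hx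
  rw [← smul_left_cancel g h1]
  exact x.2

/-- an invertible matrix with given first row, and its inverse -/
def cm (a : V) : Matrix (Fin 3) (Fin 3) (ZMod 2) × Matrix (Fin 3) (Fin 3) (ZMod 2) :=
  if a 0 = 1 then (!![1, a 1, a 2; 0, 1, 0; 0, 0, 1], !![1, a 1, a 2; 0, 1, 0; 0, 0, 1])
  else if a 1 = 1 then (!![0, 1, a 2; 1, 0, 0; 0, 0, 1], !![0, 1, 0; 1, 0, a 2; 0, 0, 1])
  else (!![0, 0, 1; 0, 1, 0; 1, 0, 0], !![0, 0, 1; 0, 1, 0; 1, 0, 0])

theorem cm_spec : ∀ a : V, a ≠ 0 → (cm a).1 * (cm a).2 = 1 ∧ (cm a).2 * (cm a).1 = 1 ∧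
    (Pi.single 0 1 : V) ᵥ* (cm a).1 = a := by
  decide +kernel

theorem exists_gl {a b : V} (ha : a ≠ 0) (hb : b ≠ 0) :
    ∃ A : GL (Fin 3) (ZMod 2), b ᵥ* (A : Matrix (Fin 3) (Fin 3) (ZMod 2)) = a := by
  obtain ⟨h1, h2, h3⟩ := cm_spec a ha
  obtain ⟨h4, h5, h6⟩ := cm_spec b hb
  refine ⟨⟨(cm b).2 * (cm a).1, (cm a).2 * (cm b).1, ?_, ?_⟩, ?_⟩
  · rw [Matrix.mul_assoc, ← Matrix.mul_assoc (cm a).1, h1, Matrix.one_mul, h5]
  · rw [Matrix.mul_assoc, ← Matrix.mul_assoc (cm b).1, h4, Matrix.one_mul, h2]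
  · show b ᵥ* ((cm b).2 * (cm a).1) = a
    calc b ᵥ* ((cm b).2 * (cm a).1) =
        ((Pi.single 0 1 : V) ᵥ* (cm b).1) ᵥ* ((cm b).2 * (cm a).1) := by rw [h6]
      _ = a := by rw [Matrix.vecMul_vecMul, ← Matrix.mul_assoc, h4, Matrix.one_mul, h3]

theorem sp_mem_Stab (c : golayCode) (σ : MulAction.stabilizer M24 T0) :
    pr (signCo0 c * permCo0 (σ : M24)) ∈ Stab := mem_Stab_of fun _ hu => stab_mem_U4 c σ hu

theorem trans_out {x y : L2} (hx : x ∈ U4) (hx1 : x ∉ W1) (hy : y ∈ U4) (hy1 : y ∉ W1) :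
    ∃ g ∈ Stab, g • x = y := by
  have hlx : lab x ≠ 0 := fun h => hx1 ((lab_eq_zero hx).1 h)
  have hly : lab y ≠ 0 := fun h => hy1 ((lab_eq_zero hy).1 h)
  obtain ⟨A, hA⟩ := exists_gl hlx hly
  obtain ⟨σ, hσ⟩ := phi_surjective (A, 1)
  have h1 := lab_sp (c := 0) (σ := σ) hx
  rw [hσ, ← hA] at h1
  have h2 : lab (pr (signCo0 0 * permCo0 (σ : M24)) • x) = lab y := by
    have h3 := congrArg (fun v => v ᵥ* ((A⁻¹ : GL (Fin 3) (ZMod 2)) : Matrix (Fin 3) (Fin 3) (ZMod 2))) h1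
    simp only [Matrix.vecMul_vecMul] at h3
    have h4 : (A : Matrix (Fin 3) (Fin 3) (ZMod 2)) * ((A⁻¹ : GL (Fin 3) (ZMod 2)) : Matrix (Fin 3) (Fin 3) (ZMod 2)) = 1 := by
      rw [← Units.val_mul, mul_inv_cancel, Units.val_one]
    rwa [h4, Matrix.vecMul_one, Matrix.vecMul_one] at h3
  rcases eq_or_of_lab (stab_mem_U4 0 σ hx) hy h2 with h3 | h3
  · exact ⟨_, sp_mem_Stab 0 σ, h3⟩
  · obtain ⟨i, hi⟩ : ∃ i, lab y i ≠ 0 := by
      by_contra hn
      push Not at hn
      exact hly (funext hn)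
    refine ⟨pr (signCo0 (uw i)) * pr (signCo0 0 * permCo0 (σ : M24)), Stab.mul_mem ?_ (sp_mem_Stab 0 σ), ?_⟩
    · have h4 := sp_mem_Stab (uw i) 1
      have e : ((1 : MulAction.stabilizer M24 T0) : M24) = 1 := rfl
      rwa [e, map_one, mul_one] at h4
    · rw [mul_smul, h3, sign_smul (W12.add_mem hy.1 (W1_le_W12 f0_mem_W1)), pairL_add]
      have h4 : pairL f0 (uw i) = 0 := congrFun lab_f0 i
      have h5 : pairL y (uw i) ≠ 0 := hi
      rw [h4, add_zero, if_neg h5, add_assoc, add_self, add_zero]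

/-! ### the sextet map -/

/-- the colouring -/
def T (p : GolayPt) : Fin 6 := Fin.ofNat 6 (2 * (kk p).val + (vv p 0).val)

theorem isSextet_T : IsSextet T where
  card := by decide +kernel
  code := by
    intro k l hkl
    rw [mem_supports_iff]
    revert k l
    decide +kernel

/-- the weights of the tetrads -/
def wt3 (i : Fin 3) (p : GolayPt) : ℤ := if kk p = 0 ∧ vv p i = 1 then 4 else 0

theorem wt3_sum : ∀ i, ∑ p, (if kk p = 0 ∧ vv p i = 1 then (1 : ℤ) else 0) = 4 := by decide +kernel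

theorem wt3_mem (i : Fin 3) : wt3 i ∈ leechLattice := by
  have h := four_mul_mem (fun p => if kk p = 0 ∧ vv p i = 1 then (1 : ℤ) else 0) (by rw [wt3_sum]; norm_num)
  convert h using 1
  funext p
  unfold wt3
  split_ifs <;> rfl

/-- the vectors of the tetrads -/
def tv (i : Fin 3) : leechLattice := ⟨wt3 i, wt3_mem i⟩

theorem xi_tv_four : ∀ (i : Fin 3) (p : GolayPt), xiFun T (wt3 i) p = 4 * (xiFun T (wt3 i) p / 4) := by
  decide +kernel

theorem xi_tv_tet : ∀ i : Fin 3, ∃ ε : ZMod 2, ∀ p, ((xiFun T (wt3 i) p / 4 : ℤ) : ZMod 2) = tet 0 (Pi.single i 1) ε p := by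
  decide +kernel

theorem tv_tet : ∀ (i : Fin 3) (p : GolayPt), ((wt3 i p / 4 : ℤ) : ZMod 2) = tet 0 (Pi.single i 1) 0 p := by
  decide +kernel

theorem tv_four : ∀ (i : Fin 3) (p : GolayPt), wt3 i p = 4 * (wt3 i p / 4) := by decide +kernel

theorem e8_four : ∀ p : GolayPt, xiFun T (Pi.single (point 0 0) 8) p = 4 * (xiFun T (Pi.single (point 0 0) 8) p / 4) := by
  decide +kernel

theorem e8_tet : ∀ p : GolayPt, ((xiFun T (Pi.single (point 0 0) 8) p / 4 : ℤ) : ZMod 2) = tet 0 (Pi.single 0 1) 1 p := by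
  decide +kernel

/-- recognition of classes of the subspace -/
theorem cl_of_tet {v : leechLattice} {w : GolayPt → ℤ} (hw : ∀ p, (v : GolayPt → ℤ) p = 4 * w p) {a : V} {ε : ZMod 2}
    (h : ∀ p, ((w p : ℤ) : ZMod 2) = tet 0 a ε p) : cl v ∈ U4 ∧ lab (cl v) = a := by
  have h1 : ∀ c, pairL (cl v) c = a ⬝ᵥ S c := by
    intro c
    rw [pairL_cl, pair_of_four hw, ← dot_tet 0 a ε]
    exact Finset.sum_congr rfl fun p _ => by rw [h]
  refine ⟨⟨cl_mem_W12.2 (four_mem_V12 fun p => ⟨_, hw p⟩), fun c hc => ?_⟩, ?_⟩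
  · rw [h1, hc, dotProduct_zero]
  · funext i
    show pairL (cl v) (uw i) = a i
    rw [h1, S_uw, dotProduct_single_one]

/-- the sextet map in `Co1` -/
def xi : Co1 := pr (xiCo0 T isSextet_T)

theorem xi_cl (v : leechLattice) : xi • cl v = cl (xiCo0 T isSextet_T • v) := rfl

theorem xi_f0 : xi • f0 ∈ U4 ∧ lab (xi • f0) = Pi.single 0 1 := by
  have h1 : f0 = cl (e8 (point 0 0)) := (cong_iff_cl _ _).1 (cong_e8 none (point 0 0))
  rw [h1, xi_cl]
  refine cl_of_tet (w := fun p => xiFun T (Pi.single (point 0 0) 8) p / 4) (ε := 1) (fun p => ?_) e8_tet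
  rw [xiCo0_smul, e8_coe]
  exact e8_four p

theorem xi_tv (i : Fin 3) : xi • cl (tv i) ∈ U4 := by
  rw [xi_cl]
  obtain ⟨ε, hε⟩ := xi_tv_tet i
  exact (cl_of_tet (w := fun p => xiFun T (wt3 i) p / 4) (ε := ε) (fun p => by
    rw [xiCo0_smul]; exact xi_tv_four i p) hε).1

theorem tv_mem (i : Fin 3) : cl (tv i) ∈ U4 ∧ lab (cl (tv i)) = Pi.single i 1 :=
  cl_of_tet (w := fun p => wt3 i p / 4) (ε := 0) (tv_four i) (tv_tet i)

theorem xi_mem_Stab : xi ∈ Stab := by
  refine mem_Stab_of fun x hx => ?_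
  have h1 : xi • (∑ i, lab x i • cl (tv i)) ∈ U4 := by
    rw [Finset.smul_sum]
    refine AddSubgroup.sum_mem _ fun i _ => ?_
    rcases zero_or_one (lab x i) with h6 | h6
    · rw [h6, zero_smul, smul_zero]; exact U4.zero_mem
    · rw [h6, one_smul]; exact xi_tv i
  rcases span_U4 (fun i => (tv_mem i).1) (fun i => (tv_mem i).2) hx with h | h
  · rw [h]; exact h1
  · rw [h, smul_add]; exact U4.add_mem h1 xi_f0.1

theorem xi_f0_not_mem : xi • f0 ∉ W1 := by
  intro h
  have h1 := (lab_eq_zero xi_f0.1).2 h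
  rw [xi_f0.2] at h1
  have h2 := congrFun h1 0
  rw [Pi.single_eq_same] at h2
  exact one_ne_zero h2

theorem exists_to_f0 {x : L2} (hx : x ∈ U4) (h0 : x ≠ 0) : ∃ g ∈ Stab, g • x = f0 := by
  by_cases h1 : x ∈ W1
  · rcases (mem_W1 x).1 h1 with h | h
    · exact absurd h h0
    · exact ⟨1, Stab.one_mem, by rw [one_smul]; exact h⟩
  · obtain ⟨g, hg, hgx⟩ := trans_out hx h1 xi_f0.1 xi_f0_not_mem
    exact ⟨xi⁻¹ * g, Stab.mul_mem (Stab.inv_mem xi_mem_Stab) hg, by rw [mul_smul, hgx, inv_smul_smul]⟩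

/-- **Transitivity.** -/
theorem trans_U4 {x y : L2} (hx : x ∈ U4) (hx0 : x ≠ 0) (hy : y ∈ U4) (hy0 : y ≠ 0) :
    ∃ g ∈ Stab, g • x = y := by
  obtain ⟨g, hg, h1⟩ := exists_to_f0 hx hx0
  obtain ⟨k, hk, h2⟩ := exists_to_f0 hy hy0
  refine ⟨k⁻¹ * g, Stab.mul_mem (Stab.inv_mem hk) hg, ?_⟩
  rw [mul_smul, h1, ← h2, inv_smul_smul]

/-! ### the quadratic form -/

theorem qf_W12 {x : L2} (hx : x ∈ W12) : qf x = 0 := by
  obtain ⟨v, rfl⟩ := cl_surjective x
  have key : ∀ u ∈ V12, (∀ i, (4 : ℤ) ∣ (u : GolayPt → ℤ) i) → qf (cl u) = 0 := by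
    intro u hu h4
    choose w hw using h4
    have h1 := pair_allOne hu
    rw [pair_eq_zero_iff] at h1
    have h2 : sup allOne = Finset.univ := by
      ext i
      rw [mem_sup]
      exact ⟨fun _ => Finset.mem_univ _, fun _ => rfl⟩
    rw [h2] at h1
    rw [qf_cl_eq_zero]
    have h3 : sqNorm (u : GolayPt → ℤ) = 16 * ∑ i, w i ^ 2 := by
      unfold sqNorm
      rw [Finset.mul_sum]
      refine Finset.sum_congr rfl fun i _ => ?_
      rw [hw i]; ring
    have h5 : ∑ i, (u : GolayPt → ℤ) i = 4 * ∑ i, w i := by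
      rw [Finset.mul_sum]
      exact Finset.sum_congr rfl fun i _ => hw i
    have h6 : (2 : ℤ) ∣ ∑ i, w i := by omega
    have h7 : (2 : ℤ) ∣ ∑ i, w i ^ 2 - ∑ i, w i := by
      rw [← Finset.sum_sub_distrib]
      refine Finset.dvd_sum fun i _ => ?_
      have e : w i ^ 2 - w i = (w i - 1) * w i := by ring
      rw [e]
      have := Int.even_mul_succ_self (w i - 1)
      rw [sub_add_cancel] at this
      exact this.two_dvd
    omega
  rcases (mem_V12_iff_hw (V12_le_V23 (cl_mem_W12.1 hx))).1 (cl_mem_W12.1 hx) with h | h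
  · exact key v (cl_mem_W12.1 hx) ((hw_eq_zero_iff (V12_le_V23 (cl_mem_W12.1 hx))).1 h)
  · have e : cl v = cl (v + (2 : ℕ) • u0) := by rw [map_add, cl_two, add_zero]
    have hm : v + (2 : ℕ) • u0 ∈ V12 := V12.add_mem (cl_mem_W12.1 hx) (two_smul_mem_V12 _)
    rw [e]
    refine key _ hm ?_
    rw [← hw_eq_zero_iff (V12_le_V23 hm), hw_add (V12_le_V23 (cl_mem_W12.1 hx)), h,
      Cfsg.Agent.MonsterU.CoFrame23.hw_two_u0]
    funext i
    show (1 : ZMod 2) + 1 = 0
    decide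

end Cfsg.Agent.H848.TrioK
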