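import Cfsg.Agent.H848.TrioU
import Cfsg.Agent.H848.TrioK
import Cfsg.Agent.H848.Dual
import Cfsg.Agent.CoOneType.CentOctad
import Mathlib

/-!
# The sign change on an octad acting on the lattice modulo two: fixed points and commutators

`eps o`, `W16 o` its fixed points, `W8 o` its commutators, `q8` the characteristic function of the classes of type 2,
`CO o` the centraliser.
-/

set_option autoImplicit false

namespace Cfsg.Agent.H848.Oct

open Cfsg
open Cfsg.Agent.SporadicA.Co0Mono hiding smul_add smul_sub smul_neg smul_zero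
open Cfsg.Agent.SporadicA.Co1Simple
open Cfsg.Agent.SporadicStructure.Co0Base (e8 e8_coe)
open Cfsg.Agent.CoOneType.SignFacts
open Cfsg.Agent.CoOneType.CoOneE (pr pr_surjective E mem_E)
open Cfsg.Agent.MonsterU.Lam2
open Cfsg.Agent.MonsterU.CoFrame
open Cfsg.Agent.MonsterU.CoFrameAct
open Cfsg.Agent.MonsterU.CoFrameL2
open Cfsg.Agent.MonsterU.CoFrameIrr (card_W1 card_W12 card_W23 signHom range_signHom)
open Cfsg.Agent.MonsterU.CoFrameF (toM24 toM24_eq toM24_surjective toM24_eq_one_iff exists_of_mem_F sp_mem_F)
open Cfsg.Agent.H848.Dual (B sub perp mem_perp card_perp perp_perp exists_bf)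
open Cfsg.Spor (Co1)
open scoped Pointwise Matrix

/-- the sign change -/
noncomputable def eps (o : golayCode) : Co1 := pr (signCo0 o)

/-- the fixed points of the sign change -/
noncomputable def W16 (o : golayCode) : AddSubgroup L2 where
  carrier := {x | eps o • x = x}
  zero_mem' := smul_zero _
  add_mem' := by
    intro a b ha hb
    show eps o • (a + b) = a + b
    rw [smul_add, ha, hb]
  neg_mem' := by
    intro a ha
    show eps o • (-a) = -a
    rw [smul_neg, ha]

theorem mem_W16 {o : golayCode} {x : L2} : x ∈ W16 o ↔ eps o • x = x := Iff.rfl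

/-- the commutators of the sign change -/
noncomputable def W8 (o : golayCode) : AddSubgroup L2 :=
  (AddMonoidHom.mk' (fun x : L2 => eps o • x + x) (fun a b => by
    show eps o • (a + b) + (a + b) = (eps o • a + a) + (eps o • b + b)
    rw [smul_add]; abel)).range

theorem mem_W8 {o : golayCode} {x : L2} : x ∈ W8 o ↔ ∃ y : L2, eps o • y + y = x := Iff.rfl

/-- the centraliser of the sign change -/
noncomputable def CO (o : golayCode) : Subgroup Co1 := Subgroup.centralizer {eps o}

theorem mem_CO {o : golayCode} {g : Co1} : g ∈ CO o ↔ g * eps o = eps o * g :=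
  Subgroup.mem_centralizer_singleton_iff

open Classical in
/-- the classes of type 2 -/
noncomputable def q8 (x : L2) : ZMod 2 := if IsType 2 x then 1 else 0

theorem eps_mul_eps (o : golayCode) : eps o * eps o = 1 := by
  rw [eps, ← map_mul, signCo0_mul_self, map_one]

theorem eps_smul_smul (o : golayCode) (x : L2) : eps o • eps o • x = x := by
  rw [← mul_smul, eps_mul_eps, one_smul]

theorem W8_le_W16 (o : golayCode) : W8 o ≤ W16 o := by
  rintro _ ⟨x, rfl⟩
  show eps o • (eps o • x + x) = eps o • x + x
  rw [smul_add, eps_smul_smul, add_comm]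

theorem CO_mem_W16 {o : golayCode} {g : Co1} (hg : g ∈ CO o) {x : L2} (hx : x ∈ W16 o) : g • x ∈ W16 o := by
  rw [mem_W16] at hx ⊢
  rw [← mul_smul, ← mem_CO.1 hg, mul_smul, hx]

theorem CO_mem_W8 {o : golayCode} {g : Co1} (hg : g ∈ CO o) {x : L2} (hx : x ∈ W8 o) : g • x ∈ W8 o := by
  obtain ⟨y, rfl⟩ := hx
  refine ⟨g • y, ?_⟩
  show eps o • g • y + g • y = g • (eps o • y + y)
  rw [smul_add, ← mul_smul, ← mul_smul, mem_CO.1 hg]

/-- the commutators are the orthogonal space of the fixed points -/
theorem perp_W8 (o : golayCode) : perp (W8 o) = W16 o := by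
  ext x
  rw [mem_perp, mem_W16]
  constructor
  · intro h
    have h1 : eps o • x + x = 0 := by
      apply bf_nondeg
      intro y
      have h2 := h _ ⟨y, rfl⟩
      have h3 : bf x (eps o • y + y) = bf (eps o • x + x) y := by
        rw [bf_add_right, bf_add_left]
        congr 1
        rw [← bf_smul1 (eps o) x (eps o • y), eps_smul_smul]
      rw [← h3]
      exact h2
    exact (add_eq_zero_iff_eq_neg.1 h1).trans (neg_eq x)
  · rintro h _ ⟨y, rfl⟩
    show bf x (eps o • y + y) = 0
    rw [bf_add_right]
    have h4 : bf x (eps o • y) = bf x y := by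
      conv_lhs => rw [← h]
      exact bf_smul1 _ _ _
    rw [h4]
    exact CharTwo.add_self_eq_zero _

theorem perp_W16 (o : golayCode) : perp (W16 o) = W8 o := by
  rw [← perp_W8, perp_perp]

end Cfsg.Agent.H848.Oct
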