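import Cfsg.Agent.H848.SpSixLin
import Cfsg.Agent.H336.SpSix.Basic
import Cfsg.Agent.Co2Type.Quad

/-!
# `Sit` in groups with a large extraspecial subgroup (S3405)

`main` : `Sit th O K0` in `K` and `Large Q z` with `z` 2-central in `K` and `|Q| ≥ 2 ^ 13`; then `|Q|` is `≤ 2 ^ 18` or
`≥ 2 ^ 33`, and `2 ^ 13 * |Q|` divides `|K|`.
-/

set_option autoImplicit false

namespace Cfsg.Agent.H848.SpSixLarge

open Subgroup Cfsg.Agent.H336.SpSix Cfsg.Agent.Co2Type.Quad Cfsg.Agent.H848.SpSixLin

/-! ### counting -/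

theorem ncard_le_two {M : Type*} [AddCommGroup M] [Module (ZMod 2) M] [Finite M] (S S' : Set M)
    (h : ∀ x ∈ S, ∀ y ∈ S, x ∉ S' → y ∉ S' → x + y ∈ S') : S.ncard ≤ 2 * S'.ncard := by
  by_cases hc : ∃ y ∈ S, y ∉ S'
  · obtain ⟨y, hy, hy'⟩ := hc
    have h1 : S ⊆ S' ∪ (fun x => x + y) '' S' := by
      intro x hx
      by_cases hx' : x ∈ S'
      · exact Or.inl hx'
      · exact Or.inr ⟨x + y, h x hx y hy hx' hy', by
          change x + y + y = x
          rw [add_assoc, w_add_self, add_zero]⟩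
    calc S.ncard ≤ (S' ∪ (fun x => x + y) '' S').ncard := Set.ncard_le_ncard h1 (Set.toFinite _)
      _ ≤ S'.ncard + ((fun x => x + y) '' S').ncard := Set.ncard_union_le _ _
      _ ≤ S'.ncard + S'.ncard := Nat.add_le_add_left (Set.ncard_image_le (Set.toFinite _)) _
      _ = 2 * S'.ncard := by ring
  · push Not at hc
    have h1 : S ⊆ S' := hc
    have := Set.ncard_le_ncard h1 (Set.toFinite _)
    omega

theorem card_le_mul {M N : Type*} [AddCommGroup M] [Module (ZMod 2) M] [Finite M] [Finite N] (f : M → N) (S : Set M)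
    (h : ∀ x y, f x = f y → x + y ∈ S) : Nat.card M ≤ Nat.card N * S.ncard := by
  classical
  have h1 : ∀ x : M, ∃ y, f y = f x := fun x => ⟨x, rfl⟩
  let c : N → M := fun n => if hn : ∃ y, f y = n then hn.choose else 0
  have hc : ∀ x, f (c (f x)) = f x := fun x => by
    have hn : ∃ y, f y = f x := ⟨x, rfl⟩
    change f (if hn : ∃ y, f y = f x then hn.choose else 0) = f x
    rw [dif_pos hn]
    exact hn.choose_spec
  let F : M → N × S := fun x => (f x, ⟨x + c (f x), h _ _ (hc x).symm⟩)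
  have hF : Function.Injective F := by
    intro x y hxy
    have h2 : f x = f y := congrArg Prod.fst hxy
    have h3 : x + c (f x) = y + c (f y) := congrArg (fun t => (t.2 : M)) hxy
    rw [h2] at h3
    exact add_right_cancel h3
  have := Nat.card_le_card_of_injective F hF
  rwa [Nat.card_prod, Nat.card_coe_set_eq] at this

section

variable {K : Type*} [Group K] {th : V → K} {O K0 Q : Subgroup K}

theorem mem_cen (h : Sit th O K0) (v : V) : th v ∈ centralizer ({th a} : Set K) :=
  mem_centralizer_singleton_iff.2 (h.comm v a)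

/-- `A` acting on `Q / ⟨z⟩` -/
noncomputable def T (h : Sit th O K0) (L : Large Q (th a)) (v : V) : L.V →ₗ[ZMod 2] L.V :=
  (L.act ⟨th v, mem_cen h v⟩).toLinearMap

theorem T_apply (h : Sit th O K0) (L : Large Q (th a)) (v : V) (w : L.V) :
    T h L v w = L.act ⟨th v, mem_cen h v⟩ w := rfl

theorem T_add (h : Sit th O K0) (L : Large Q (th a)) (u v : V) (w : L.V) :
    T h L (u + v) w = T h L u (T h L v w) := by
  have : (⟨th (u + v), mem_cen h (u + v)⟩ : centralizer ({th a} : Set K)) =
      ⟨th u, mem_cen h u⟩ * ⟨th v, mem_cen h v⟩ := Subtype.ext (h.add u v)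
  rw [T_apply, this, map_mul]
  rfl

theorem T_zero (h : Sit th O K0) (L : Large Q (th a)) (w : L.V) : T h L 0 w = w := by
  have : (⟨th 0, mem_cen h 0⟩ : centralizer ({th a} : Set K)) = 1 := Subtype.ext h.zero
  rw [T_apply, this, map_one]
  rfl

theorem T_a (h : Sit th O K0) (L : Large Q (th a)) (w : L.V) : T h L a w = w := by
  rw [T_apply, L.act_mem _ (show th a ∈ Q from L.z_mem)]
  rfl

theorem T_b (h : Sit th O K0) (L : Large Q (th a)) (u : V) (v w : L.V) : L.b (T h L u v) (T h L u w) = L.b v w :=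
  L.b_act _ v w

theorem T_pr (h : Sit th O K0) (L : Large Q (th a)) (v : V) (x : Q) :
    T h L v (L.pr x) = L.pr x ↔ (x : K) * th v * (x : K)⁻¹ = th v ∨ (x : K) * th v * (x : K)⁻¹ = th (v + a) := by
  rw [T_apply, L.act_pr, L.pr_eq_pr, L.conjQ_coe]
  have hx : (x : K) * th a = th a * x := L.comm_z x x.2
  constructor
  · rintro (h1 | h1)
    · left
      have h1' : th v * (x : K) * (th v)⁻¹ = x := h1
      rw [mul_inv_eq_iff_eq_mul] at h1' ⊢
      exact h1'.symm
    · right
      have h1' : th v * (x : K) * (th v)⁻¹ = x * th a := h1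
      rw [mul_inv_eq_iff_eq_mul] at h1' ⊢
      rw [h.add, mul_assoc, ← hx, ← mul_assoc, h1', mul_assoc, mul_assoc, h.comm v a, ← mul_assoc (th a),
        h.sq, one_mul]
  · rintro (h1 | h1)
    · left
      change th v * (x : K) * (th v)⁻¹ = x
      rw [mul_inv_eq_iff_eq_mul] at h1 ⊢
      exact h1.symm
    · right
      change th v * (x : K) * (th v)⁻¹ = x * th a
      rw [mul_inv_eq_iff_eq_mul] at h1 ⊢
      rw [mul_assoc (x : K), h.comm a v, ← mul_assoc, h1, h.add]
      rw [mul_assoc, mul_assoc, hx, ← mul_assoc (th a), h.sq, one_mul]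

/-- elements of `Q` centralising `A` are in `A` -/
theorem mem_of_comm (h : Sit th O K0) (L : Large Q (th a)) {x : K} (hx : x ∈ Q) (hc : ∀ v, x * th v = th v * x) :
    ∃ v, th v = x := by
  refine h.mem_of_sq hc (n := 2) ?_
  have h1 : x ^ (2 ^ 2) = (x * x) * (x * x) := by
    rw [show (2 : ℕ) ^ 2 = 2 * 2 from rfl, pow_mul, pow_two, pow_two]
  rw [h1]
  rcases L.sq x hx with h2 | h2 <;> rw [h2]
  · rw [one_mul]
  · exact h.sq a

/-- elements of `Q` acting trivially modulo `z` act as `1` or as the transvection -/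
theorem act_cases (h : Sit th O K0) {x : K}
    (hx : ∀ v, x * th v * x⁻¹ = th v ∨ x * th v * x⁻¹ = th (v + a)) :
    (∀ v, x * th v * x⁻¹ = th v) ∨ ∀ v, x * th v * x⁻¹ = th (tv a v) := by
  have hn : x ∈ normalizer (h.A : Set K) := h.mem_normalizer.2 fun v => by
    rcases hx v with h1 | h1
    · exact ⟨v, h1⟩
    · exact ⟨_, h1⟩
  obtain ⟨g, hg, hg'⟩ := h.exists_isom_of_mem hn
  have h1 : ∀ v, g v = v ∨ g v = v + a := fun v => by
    rcases hx v with h1 | h1
    · left; exact h.inj ((hg' v).symm.trans h1)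
    · right; exact h.inj ((hg' v).symm.trans h1)
  have h2 : ∀ v, om a v = 0 → g v = v := by
    intro v hv
    refine (h1 v).resolve_right fun h3 => a_ne (eq_zero_of_om fun u => ?_)
    have h4 := hg v u
    have h5 : ∀ w, om w a = 0 → om w (g u) = om w u := by
      intro w hw
      rcases h1 u with h6 | h6 <;> rw [h6]
      rw [om_add_right, hw, add_zero]
    rw [h3, om_add_left, h5 v (by rw [om_comm]; exact hv), h5 a (om_self a)] at h4
    rw [om_comm]
    have : om v u + om a u = om v u + 0 := by rw [h4, add_zero]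
    exact add_left_cancel this
  rcases isom_trivial_perp a_ne hg h2 with h3 | h3
  · exact Or.inl fun v => by rw [hg', h3]
  · exact Or.inr fun v => by rw [hg', h3]

theorem comm_of_conj {x y : K} (h : x * y * x⁻¹ = y) : x * y = y * x := by
  rwa [mul_inv_eq_iff_eq_mul] at h

/-- two elements of `Q` with the same action differ by an element of `A` -/
theorem mul_mem_of_same (h : Sit th O K0) (L : Large Q (th a)) {x y : K} (hx : x ∈ Q) (hy : y ∈ Q)
    (hx' : ∀ v, x * th v * x⁻¹ = th (tv a v)) (hy' : ∀ v, y * th v * y⁻¹ = th (tv a v)) : ∃ v, th v = x⁻¹ * y := by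
  refine mem_of_comm h L (Q.mul_mem (Q.inv_mem hx) hy) fun v => ?_
  have h1 : y * th v = th (tv a v) * y := mul_inv_eq_iff_eq_mul.1 (hy' v)
  have h2 : x * th v = th (tv a v) * x := mul_inv_eq_iff_eq_mul.1 (hx' v)
  rw [mul_assoc, h1, ← mul_assoc, ← mul_assoc]
  congr 1
  rw [inv_mul_eq_iff_eq_mul, ← mul_assoc, h2, mul_inv_cancel_right]

/-- the fixed space has at most one nonzero vector -/
theorem hfix (h : Sit th O K0) (L : Large Q (th a)) (hX : ∀ v, th v ∈ Q ↔ v = 0 ∨ v = a) (x y : L.V)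
    (hx : ∀ u, T h L u x = x) (hy : ∀ u, T h L u y = y) (hx0 : x ≠ 0) (hy0 : y ≠ 0) : x = y := by
  obtain ⟨x, rfl⟩ := L.pr_surjective x
  obtain ⟨y, rfl⟩ := L.pr_surjective y
  have key : ∀ w : Q, (∀ u, T h L u (L.pr w) = L.pr w) → L.pr w ≠ 0 →
      ∀ v, (w : K) * th v * (w : K)⁻¹ = th (tv a v) := by
    intro w hw hw0
    refine (act_cases h fun v => (T_pr h L v w).1 (hw v)).resolve_left fun h1 => hw0 ?_
    obtain ⟨v, hv⟩ := mem_of_comm h L w.2 fun v => comm_of_conj (h1 v)
    have h2 : th v ∈ Q := by rw [hv]; exact w.2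
    rw [L.pr_eq_zero, ← hv]
    rcases (hX v).1 h2 with h3 | h3
    · left; rw [h3, h.zero]
    · right; rw [h3]
  obtain ⟨v, hv⟩ := mul_mem_of_same h L x.2 y.2 (key x hx hx0) (key y hy hy0)
  have h2 : th v ∈ Q := by rw [hv]; exact Q.mul_mem (Q.inv_mem x.2) y.2
  have h3 : (y : K) = x * th v := by rw [hv, mul_inv_cancel_left]
  refine Eq.symm (L.pr_eq_pr.2 ?_)
  rcases (hX v).1 h2 with h4 | h4
  · left; rw [h3, h4, h.zero, mul_one]
  · right; rw [h3, h4]

theorem hinv (h : Sit th O K0) (L : Large Q (th a)) (c : V) (hc : om a c = 0) :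
    ∃ g : L.V ≃ₗ[ZMod 2] L.V, ∀ v w, g (T h L v w) = T h L (tv c v) (g w) := by
  obtain ⟨k, -, hk⟩ := h.exists_tv c
  have hk' : k * th a = th a * k := by
    have := hk a
    rw [tv_of_zero (by rw [om_comm]; exact hc)] at this
    exact comm_of_conj this
  refine ⟨L.act ⟨k, mem_centralizer_singleton_iff.2 hk'⟩, fun v w => ?_⟩
  rw [T_apply, T_apply]
  have h1 : (⟨k, mem_centralizer_singleton_iff.2 hk'⟩ : centralizer ({th a} : Set K)) * ⟨th v, mem_cen h v⟩ =
      ⟨th (tv c v), mem_cen h _⟩ * ⟨k, mem_centralizer_singleton_iff.2 hk'⟩ := by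
    apply Subtype.ext
    change k * th v = th (tv c v) * k
    rw [← hk, inv_mul_cancel_right]
  have h2 := congrArg (fun t => L.act t w) h1
  simp only [map_mul] at h2
  exact h2

/-- the projection of `A ∩ Q` -/
noncomputable def be (L : Large Q (th a)) (x : X) : L.V := by
  classical exact if hx : th (io x) ∈ Q then L.pr ⟨th (io x), hx⟩ else 0

theorem be_of_mem (L : Large Q (th a)) {x : X} (hx : th (io x) ∈ Q) : be L x = L.pr ⟨th (io x), hx⟩ := by
  rw [be, dif_pos hx]

theorem exists_be (h : Sit th O K0) (L : Large Q (th a)) {v : V} (hv : th v ∈ Q) : ∃ x, be L x = L.pr ⟨th v, hv⟩ := by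
  have h1 : th (io (ro v)) ∈ Q := by
    rcases io_ro v with h1 | h1
    · rw [h1]; exact hv
    · rw [h1, h.add]; exact Q.mul_mem hv L.z_mem
  refine ⟨ro v, ?_⟩
  rw [be_of_mem L h1, L.pr_eq_pr]
  rcases io_ro v with h2 | h2
  · left
    change th (io (ro v)) = th v
    rw [h2]
  · right
    change th (io (ro v)) = th v * th a
    rw [h2, h.add]

theorem exists_of_be (h : Sit th O K0) (L : Large Q (th a)) {w : L.V} (hw : w ∈ Set.range (be L)) :
    ∃ v, ∃ hv : th v ∈ Q, w = L.pr ⟨th v, hv⟩ := by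
  obtain ⟨x, rfl⟩ := hw
  by_cases hx : th (io x) ∈ Q
  · exact ⟨_, hx, be_of_mem L hx⟩
  · refine ⟨0, by rw [h.zero]; exact Q.one_mem, ?_⟩
    rw [be, dif_neg hx]
    symm
    rw [L.pr_eq_zero]
    left; exact h.zero

theorem mem_be_of_comm (h : Sit th O K0) (L : Large Q (th a)) (w : Q) (hw : ∀ v, (w : K) * th v = th v * w) :
    L.pr w ∈ Set.range (be L) := by
  obtain ⟨v, hv⟩ := mem_of_comm h L w.2 hw
  have hv' : th v ∈ Q := by rw [hv]; exact w.2
  obtain ⟨x, hx⟩ := exists_be h L hv'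
  refine ⟨x, ?_⟩
  rw [hx]
  congr 1
  exact Subtype.ext hv

theorem ncard_be (L : Large Q (th a)) : (Set.range (be L)).ncard ≤ 32 := by
  rw [← Set.image_univ]
  refine (Set.ncard_image_le (Set.toFinite _)).trans ?_
  rw [Set.ncard_univ, Nat.card_eq_fintype_card, Fintype.card_fun, ZMod.card, Fintype.card_fin]
  norm_num

theorem comm_add (h : Sit th O K0) {w : K} {u v : V} (hu : w * th u = th u * w) (hv : w * th v = th v * w) :
    w * th (u + v) = th (u + v) * w := by
  rw [h.add, ← mul_assoc, hu, mul_assoc, hv, mul_assoc]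

/-- an element commuting with `th u`, `th a^⊥` -/
theorem comm_all (h : Sit th O K0) {w : K} {u : V} (hu : om a u = 1) (h1 : ∀ v, om a v = 0 → w * th v = th v * w)
    (h2 : w * th u = th u * w) (v : V) : w * th v = th v * w := by
  rcases z2 (om a v) with h3 | h3
  · exact h1 v h3
  · have h4 : v = (v + u) + u := by rw [add_add_self]
    rw [h4]
    exact comm_add h (h1 _ (by rw [om_add_right, h3, hu]; decide)) h2

/-- an element centralising `a^⊥` and moving `u` modulo `a^⊥` -/
theorem act_perp (h : Sit th O K0) {x : K} {u v' : V} (hu : om a u = 1)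
    (hx : ∀ v, om a v = 0 → x * th v = th v * x) (hxu : x * th u = th (u + v') * x) :
    x * th u * x⁻¹ = th u ∨ x * th u * x⁻¹ = th (u + a) := by
  have hn : x ∈ normalizer (h.A : Set K) := h.mem_normalizer.2 fun v => by
    rcases z2 (om a v) with h3 | h3
    · exact ⟨v, by rw [hx v h3, mul_inv_cancel_right]⟩
    · refine ⟨v + v', ?_⟩
      have h4 : v = (v + u) + u := by rw [add_add_self]
      have h5 : om a (v + u) = 0 := by rw [om_add_right, h3, hu]; decide
      rw [mul_inv_eq_iff_eq_mul]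
      calc x * th v = x * th ((v + u) + u) := by rw [← h4]
        _ = x * th (v + u) * th u := by rw [h.add, mul_assoc]
        _ = th (v + u) * (x * th u) := by rw [hx _ h5, mul_assoc]
        _ = th (v + u) * th (u + v') * x := by rw [hxu, mul_assoc]
        _ = th (v + v') * x := by
          rw [← h.add]
          congr 2
          rw [← add_assoc, add_add_self]
  rcases h.act_of_perp a_ne hn hx with h1 | h1
  · exact Or.inl (h1 u)
  · right
    rw [h1, tv_of_one hu]

variable [Finite K]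

/-- the case `A ≤ Q` -/
theorem case_top (h : Sit th O K0) (L : Large Q (th a)) (hX : ∀ v, th v ∈ Q) : Nat.card L.V ≤ 2 ^ 11 := by
  let f : L.V → (Fin 5 → ZMod 2) := fun w i => L.b w (L.pr ⟨th (io (Pi.single i 1)), hX _⟩)
  have h1 : ∀ x y, f x = f y → x + y ∈ Set.range (be L) := by
    intro x y hxy
    obtain ⟨w, hw⟩ := L.pr_surjective (x + y)
    have h2 : ∀ i, (w : K) * th (io (Pi.single i 1)) = th (io (Pi.single i 1)) * w := by
      intro i
      have h3 : L.b (L.pr w) (L.pr ⟨th (io (Pi.single i 1)), hX _⟩) = 0 := by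
        rw [hw, map_add, LinearMap.add_apply]
        have := congrFun hxy i
        change L.b x _ = L.b y _ at this
        rw [this]
        exact z2_add_self _
      exact (L.b_pr _ _).1 h3
    have h3 : ∀ v, (w : K) * th v = th v * w := by
      have h5 : ∀ y : X, (w : K) * th (io y) = th (io y) * w := by
        intro y
        have h6 : y = ∑ i, Pi.single i (y i) := (Finset.univ_sum_single y).symm
        have h7 : ∀ s : Finset (Fin 5), (w : K) * th (io (∑ i ∈ s, Pi.single i (y i))) =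
            th (io (∑ i ∈ s, Pi.single i (y i))) * w := by
          intro s
          induction s using Finset.induction_on with
          | empty => rw [Finset.sum_empty, io_zero, h.zero, mul_one, one_mul]
          | insert j s hj ih =>
            rw [Finset.sum_insert hj, io_add]
            refine comm_add h ?_ ih
            rcases z2 (y j) with h8 | h8
            · rw [h8, Pi.single_zero, io_zero, h.zero, mul_one, one_mul]
            · rw [h8]; exact h2 j
        rw [h6]
        exact h7 _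
      intro v
      rcases io_ro v with h8 | h8
      · rw [← h8]; exact h5 _
      · have : v = io (ro v) + a := by rw [h8, add_assoc, v_add_self, add_zero]
        rw [this]
        exact comm_add h (h5 _) (L.comm_z w w.2)
    rw [← hw]
    exact mem_be_of_comm h L w h3
  have h2 := card_le_mul f _ h1
  have h3 := ncard_be L
  rw [Nat.card_eq_fintype_card (α := Fin 5 → ZMod 2), Fintype.card_fun, ZMod.card, Fintype.card_fin] at h2
  calc Nat.card L.V ≤ 2 ^ 5 * (Set.range (be L)).ncard := h2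
    _ ≤ 2 ^ 5 * 32 := Nat.mul_le_mul_left _ h3
    _ ≤ 2 ^ 11 := by norm_num

/-- four vectors generating `a^⊥` together with `a` -/
def fo : Fin 4 → V := ![Pi.single (Sum.inl 1) 1, Pi.single (Sum.inl 2) 1, Pi.single (Sum.inr 1) 1,
  Pi.single (Sum.inr 2) 1]

theorem om_fo (i : Fin 4) : om a (fo i) = 0 := by
  rw [a, om_single_inl]
  fin_cases i <;> simp [fo]

theorem perp_sum {v : V} (hv : om a v = 0) : v = v (Sum.inl 0) • a + v (Sum.inl 1) • fo 0 + v (Sum.inl 2) • fo 1 +
    v (Sum.inr 1) • fo 2 + v (Sum.inr 2) • fo 3 := by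
  rw [a, om_single_inl] at hv
  apply v_ext <;> simp [fo, a, hv]

/-- the case `A ∩ Q = a^⊥` -/
theorem case_perp (h : Sit th O K0) (L : Large Q (th a)) (hX : ∀ v, th v ∈ Q ↔ om a v = 0) :
    Nat.card L.V ≤ 2 ^ 11 := by
  have hfo : ∀ i, th (fo i) ∈ Q := fun i => (hX _).2 (om_fo i)
  let f : L.V → (Fin 4 → ZMod 2) := fun w i => L.b w (L.pr ⟨th (fo i), hfo i⟩)
  -- the perpendicular space
  let R : Set L.V := {w | ∀ v, ∀ hv : th v ∈ Q, L.b w (L.pr ⟨th v, hv⟩) = 0}
  have hR : ∀ w : Q, L.pr w ∈ R → ∀ v, om a v = 0 → (w : K) * th v = th v * w := by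
    intro w hw v hv
    exact (L.b_pr _ _).1 (hw v ((hX v).2 hv))
  have hR' : ∀ w : Q, (∀ v, om a v = 0 → (w : K) * th v = th v * w) → L.pr w ∈ R := by
    intro w hw v hv
    exact (L.b_pr _ _).2 (hw v ((hX v).1 hv))
  have hRadd : ∀ x ∈ R, ∀ y ∈ R, x + y ∈ R := by
    intro x hx y hy v hv
    rw [map_add, LinearMap.add_apply, hx v hv, hy v hv, add_zero]
  obtain ⟨u, hu⟩ := exists_om a_ne
  let Y : Set L.V := {w | w ∈ R ∧ T h L u w = w}
  -- an element of `R` commuting with `th u` modulo `B` commutes modulo `z`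
  have hRT : ∀ w ∈ R, T h L u w ∈ R := by
    intro w hw v hv
    have h1 : T h L u (L.pr ⟨th v, hv⟩) = L.pr ⟨th v, hv⟩ := by
      rw [T_pr]
      left
      change th v * th u * (th v)⁻¹ = th u
      rw [h.comm v u, mul_inv_cancel_right]
    rw [← h1, T_b]
    exact hw v hv
  have hY1 : ∀ w ∈ R, T h L u w + w ∈ Set.range (be L) → T h L u w = w := by
    intro w hw hwB
    obtain ⟨x, rfl⟩ := L.pr_surjective w
    obtain ⟨v, hv, hv'⟩ := exists_of_be h L hwB
    have h1 : T h L u (L.pr x) = L.pr (⟨th v, hv⟩ * x) := by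
      rw [L.pr_mul, ← hv', add_assoc, w_add_self, add_zero]
    rw [T_apply, L.act_pr, L.pr_eq_pr, L.conjQ_coe] at h1
    have hxc := hR x hw
    obtain ⟨v', hv0, h2⟩ : ∃ v', om a v' = 0 ∧ th u * (x : K) * (th u)⁻¹ = th v' * x := by
      have hva := (hX v).1 hv
      rcases h1 with h1 | h1
      · exact ⟨v, hva, h1⟩
      · refine ⟨v + a, by rw [om_add_right, hva, om_self, add_zero], ?_⟩
        have h1' : th u * (x : K) * (th u)⁻¹ = th v * x * th a := h1
        rw [h1', h.add, mul_assoc, mul_assoc, hxc a (om_self a)]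
    rw [mul_inv_eq_iff_eq_mul] at h2
    rw [T_pr]
    refine act_perp h hu hxc (v' := v') ?_
    rw [h.add, h.comm u v', mul_assoc, h2, mul_assoc (th v'), ← mul_assoc (th v') (th v'), h.sq, one_mul]
  have hYB : ∀ x ∈ Y, ∀ y ∈ Y, x ∉ Set.range (be L) → y ∉ Set.range (be L) → x + y ∈ Set.range (be L) := by
    have key : ∀ x : Q, L.pr x ∈ Y → L.pr x ∉ Set.range (be L) → ∀ v, (x : K) * th v * (x : K)⁻¹ = th (tv a v) := by
      intro x hx hxB
      refine (act_cases h fun v => ?_).resolve_left fun h1 => hxB (mem_be_of_comm h L x fun v => comm_of_conj (h1 v))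
      rcases z2 (om a v) with h1 | h1
      · left
        rw [hR x hx.1 v h1, mul_inv_cancel_right]
      · have h2 : ∀ v, T h L v (L.pr x) = L.pr x := by
          intro v
          rcases z2 (om a v) with h3 | h3
          · rw [T_pr]; left; rw [hR x hx.1 v h3, mul_inv_cancel_right]
          · have h4 : v = (v + u) + u := by rw [add_add_self]
            rw [h4, T_add, hx.2, T_pr]
            left
            rw [hR x hx.1 _ (by rw [om_add_right, h3, hu]; decide), mul_inv_cancel_right]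
        exact (T_pr h L v x).1 (h2 v)
    intro x hx y hy hxB hyB
    obtain ⟨x, rfl⟩ := L.pr_surjective x
    obtain ⟨y, rfl⟩ := L.pr_surjective y
    obtain ⟨v, hv⟩ := mul_mem_of_same h L x.2 y.2 (key x hx hxB) (key y hy hyB)
    have h1 : L.pr x + L.pr y = L.pr (x⁻¹ * y) := by
      rw [L.pr_mul, L.pr_inv, L.neg_eq]
    rw [h1]
    refine mem_be_of_comm h L _ fun v' => ?_
    have h2 : ((x⁻¹ * y : Q) : K) = th v := hv.symm
    rw [h2, h.comm]
  have hRY : ∀ x ∈ R, ∀ y ∈ R, x ∉ Y → y ∉ Y → x + y ∈ Y := by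
    have hTT : ∀ w, T h L u (T h L u w) = w := fun w => by rw [← T_add, v_add_self, T_zero]
    have key : ∀ x ∈ R, x ∉ Y → T h L u x + x ∈ Y ∧ T h L u x + x ∉ Set.range (be L) := by
      intro x hx hxY
      refine ⟨⟨hRadd _ (hRT x hx) _ hx, ?_⟩, fun hB => hxY ⟨hx, hY1 x hx hB⟩⟩
      rw [map_add, hTT, add_comm]
    intro x hx y hy hxY hyY
    obtain ⟨h1, h2⟩ := key x hx hxY
    obtain ⟨h3, h4⟩ := key y hy hyY
    have h5 := hYB _ h1 _ h3 h2 h4
    refine ⟨hRadd _ hx _ hy, hY1 _ (hRadd _ hx _ hy) ?_⟩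
    have h6 : T h L u (x + y) + (x + y) = T h L u x + x + (T h L u y + y) := by
      rw [map_add]; abel
    rw [h6]
    exact h5
  have hfR : ∀ x y, f x = f y → x + y ∈ R := by
    intro x y hxy
    obtain ⟨w, hw⟩ := L.pr_surjective (x + y)
    have h2 : ∀ i, (w : K) * th (fo i) = th (fo i) * w := by
      intro i
      have h3 : L.b (L.pr w) (L.pr ⟨th (fo i), hfo i⟩) = 0 := by
        rw [hw, map_add, LinearMap.add_apply]
        have := congrFun hxy i
        change L.b x _ = L.b y _ at this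
        rw [this]
        exact z2_add_self _
      exact (L.b_pr _ _).1 h3
    have h3 : ∀ (c : ZMod 2) (v : V), (w : K) * th v = th v * w → (w : K) * th (c • v) = th (c • v) * w := by
      intro c v hv
      rcases z2 c with rfl | rfl
      · rw [zero_smul, h.zero, mul_one, one_mul]
      · rw [one_smul]; exact hv
    rw [← hw]
    refine hR' w fun v hv => ?_
    rw [perp_sum hv]
    exact comm_add h (comm_add h (comm_add h (comm_add h (h3 _ _ (L.comm_z w w.2)) (h3 _ _ (h2 0))) (h3 _ _ (h2 1)))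
      (h3 _ _ (h2 2))) (h3 _ _ (h2 3))
  have c1 := card_le_mul f R hfR
  have c2 := ncard_le_two R Y hRY
  have c3 := ncard_le_two Y (Set.range (be L)) hYB
  have c4 := ncard_be L
  rw [Nat.card_eq_fintype_card (α := Fin 4 → ZMod 2), Fintype.card_fun, ZMod.card, Fintype.card_fin] at c1
  calc Nat.card L.V ≤ 2 ^ 4 * R.ncard := c1
    _ ≤ 2 ^ 4 * (2 * (2 * 32)) := Nat.mul_le_mul_left _ (by omega)
    _ ≤ 2 ^ 11 := by norm_num

/-- the remaining case: `A ∩ Q = ⟨z⟩` -/
theorem inter_eq (h : Sit th O K0) (L : Large Q (th a)) (hQ : 2 ^ 13 ≤ Nat.card Q) (v : V) :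
    th v ∈ Q ↔ v = 0 ∨ v = a := by
  have hc := L.card_eq
  rcases h.inter_cases a_ne Q (fun k _ hk x hx => L.conj_mem k hk x hx) with h1 | h1 | h1 | h1
  · exact absurd ((h1 a).1 L.z_mem) a_ne
  · exact h1 v
  · have := case_perp h L h1
    omega
  · have := case_top h L h1
    omega

theorem card_lt_or (h : Sit th O K0) (L : Large Q (th a)) (hQ : 2 ^ 13 ≤ Nat.card Q) :
    Nat.card Q ≤ 2 ^ 18 ∨ 2 ^ 33 ≤ Nat.card Q := by
  have hX := inter_eq h L hQ
  have hc := L.card_eq
  by_contra hcon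
  push Not at hcon
  have := bound (T := T h L) L.b L.exists_b_eq (fun v hv => L.b_nondeg hv) (T_zero h L) (T_add h L) (T_a h L)
    (T_b h L) (hfix h L hX) (hinv h L) (by omega)
  omega

/-! ### the order -/

omit [Finite K] in
theorem card_subgroupOf (H C : Subgroup K) : Nat.card (H.subgroupOf C) = Nat.card (H ⊓ C : Subgroup K) := by
  rw [← Subgroup.subgroupOf_map_subtype, Nat.card_congr
    ((H.subgroupOf C).equivMapOfInjective C.subtype C.subtype_injective).toEquiv]

omit [Finite K] in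
/-- the part of the normaliser in the centraliser of `th a` -/
theorem dvd_card_stab (h : Sit th O K0) :
    2 ^ 15 ∣ Nat.card (((normalizer (h.A : Set K))).subgroupOf (centralizer ({th a} : Set K))) := by
  classical
  let N := normalizer (h.A : Set K)
  let C := centralizer ({th a} : Set K)
  let act : MulAction N K := MulAction.compHom K ((MulAut.conj (G := K)).comp N.subtype)
  have hact : ∀ (n : N) (x : K), act.toSMul.smul n x = (n : K) * x * (n : K)⁻¹ := fun n x => rfl
  have hO : MulAction.orbit N (th a) = th '' {v | v ≠ 0} := by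
    ext x
    constructor
    · rintro ⟨n, rfl⟩
      change (n : K) * th a * (n : K)⁻¹ ∈ _
      obtain ⟨g, -, hg⟩ := h.exists_isom_of_mem n.2
      rw [hg]
      exact ⟨g a, fun h0 => a_ne (g.map_eq_zero_iff.1 h0), rfl⟩
    · rintro ⟨v, hv, rfl⟩
      obtain ⟨k, hk, hk'⟩ := h.exists_conj a_ne hv
      exact ⟨⟨k, h.K0_le hk⟩, hk'⟩
  have hOc : Nat.card (MulAction.orbit N (th a)) = 63 := by
    rw [hO, Nat.card_coe_set_eq, Set.ncard_image_of_injective _ h.inj]
    have h1 : ({v | v ≠ 0} : Set V) = {0}ᶜ := rfl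
    rw [h1, Set.ncard_compl, Set.ncard_singleton, Nat.card_eq_fintype_card]
    simp
  have hS : MulAction.stabilizer N (th a) = C.subgroupOf N := by
    ext n
    rw [MulAction.mem_stabilizer_iff, mem_subgroupOf, mem_centralizer_singleton_iff]
    change (n : K) * th a * (n : K)⁻¹ = th a ↔ _
    rw [mul_inv_eq_iff_eq_mul]
  have h1 : Nat.card N = 63 * Nat.card (C.subgroupOf N) := by
    rw [← hOc, ← hS, Nat.card_congr (MulAction.orbitEquivQuotientStabilizer N (th a))]
    exact Subgroup.card_eq_card_quotient_mul_card_subgroup _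
  have h2 := h.card_dvd_normalizer
  have h3 : Nat.card (N.subgroupOf C) = Nat.card (C.subgroupOf N) := by
    rw [card_subgroupOf, card_subgroupOf, inf_comm]
  change 2 ^ 15 ∣ Nat.card (N.subgroupOf C)
  rw [h3]
  have h4 : 2 ^ 15 ∣ 63 * Nat.card (C.subgroupOf N) := by
    rw [← h1]
    exact (show 2 ^ 15 ∣ 1451520 * 64 by norm_num).trans h2
  exact (Nat.Coprime.dvd_mul_left (by norm_num)).1 h4

/-- the order of `K` -/
theorem dvd_card (h : Sit th O K0) (L : Large Q (th a)) (hQ : 2 ^ 13 ≤ Nat.card Q) :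
    2 ^ 13 * Nat.card Q ∣ Nat.card K := by
  classical
  have hX := inter_eq h L hQ
  let C := centralizer ({th a} : Set K)
  let H : Subgroup C := (normalizer (h.A : Set K)).subgroupOf C
  let f : H →* (L.V ≃ₗ[ZMod 2] L.V) := L.act.comp H.subtype
  -- the kernel on `H`
  have hk0 : ∀ x : f.ker, ∃ hx : (((x : H) : C) : K) ∈ Q, ∀ u, T h L u (L.pr ⟨_, hx⟩) = L.pr ⟨_, hx⟩ := by
    intro x
    have hxQ : ((((x : H) : C) : K)) ∈ Q := L.mem_of_act _ x.2
    refine ⟨hxQ, fun u => ?_⟩
    rw [T_pr]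
    have h1 : ((((x : H) : C) : K)) ∈ normalizer (h.A : Set K) := (x : H).2
    obtain ⟨g, hg, hg'⟩ := h.exists_isom_of_mem h1
    change (((x : H) : C) : K) * th u * (((x : H) : C) : K)⁻¹ = th u ∨ _
    have h2 : th (g u + u) ∈ Q := by
      rw [h.add, ← hg', ← h.inv u]
      have h3 : (((x : H) : C) : K) * th u * (((x : H) : C) : K)⁻¹ * (th u)⁻¹ =
        (((x : H) : C) : K) * (th u * (((x : H) : C) : K) * (th u)⁻¹)⁻¹ := by group
      rw [h.inv u] at h3
      rw [h.inv u, h3]
      refine Q.mul_mem hxQ (Q.inv_mem ?_)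
      have h4 := L.conj_mem (th u) (h.comm u a) _ hxQ
      rwa [h.inv u] at h4
    rcases (hX _).1 h2 with h3 | h3
    · left
      rw [hg']
      congr 1
      exact (Cfsg.Agent.H336.SpSix.add_eq_zero_iff _ _).1 h3
    · right
      rw [hg']
      congr 1
      rw [← h3, add_comm u, add_add_self]
  have hk1 : Nat.card f.ker ≤ 4 := by
    obtain ⟨x0, hx0⟩ : ∃ x0 : K, ∀ x : f.ker, (((x : H) : C) : K) = 1 ∨ (((x : H) : C) : K) = th a ∨
        (((x : H) : C) : K) = x0 ∨ (((x : H) : C) : K) = x0 * th a := by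
      by_cases hc : ∃ x : f.ker, L.pr ⟨_, (hk0 x).choose⟩ ≠ 0
      · obtain ⟨x0, hx0⟩ := hc
        refine ⟨(((x0 : H) : C) : K), fun x => ?_⟩
        by_cases hx : L.pr ⟨_, (hk0 x).choose⟩ = 0
        · rcases L.pr_eq_zero.1 hx with h1 | h1
          · left; exact h1
          · right; left; exact h1
        · have h2 := hfix h L hX _ _ (hk0 x).choose_spec (hk0 x0).choose_spec hx hx0
          rcases L.pr_eq_pr.1 h2 with h1 | h1
          · right; right; left; exact h1
          · right; right; right; exact h1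
      · push Not at hc
        refine ⟨1, fun x => ?_⟩
        rcases L.pr_eq_zero.1 (hc x) with h1 | h1
        · left; exact h1
        · right; left; exact h1
    let F : f.ker → ({1, th a, x0, x0 * th a} : Finset K) := fun x => ⟨(((x : H) : C) : K), by
      simp only [Finset.mem_insert, Finset.mem_singleton]
      exact hx0 x⟩
    have hF : Function.Injective F := by
      intro x y hxy
      have h7 : (F x : K) = F y := congrArg Subtype.val hxy
      exact Subtype.ext (Subtype.ext (Subtype.ext h7))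
    refine (Nat.card_le_card_of_injective F hF).trans ?_
    rw [Nat.card_eq_fintype_card, Fintype.card_coe]
    exact Finset.card_le_four
  obtain ⟨j, hj, hj'⟩ : ∃ j, j ≤ 2 ∧ Nat.card f.ker = 2 ^ j := by
    have : Fact (Nat.Prime 2) := ⟨Nat.prime_two⟩
    have hp : IsPGroup 2 f.ker := by
      intro x
      refine ⟨2, ?_⟩
      apply Subtype.ext
      apply Subtype.ext
      apply Subtype.ext
      change (((x : H) : C) : K) ^ (2 ^ 2) = 1
      obtain ⟨hxQ, -⟩ := hk0 x
      rw [show (2 : ℕ) ^ 2 = 2 * 2 from rfl, pow_mul, pow_two, pow_two]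
      rcases L.sq _ hxQ with h2 | h2 <;> rw [h2]
      · rw [one_mul]
      · exact h.sq a
    obtain ⟨j, hj⟩ := IsPGroup.iff_card.1 hp
    refine ⟨j, ?_, hj⟩
    rw [hj] at hk1
    exact (Nat.pow_le_pow_iff_right (by norm_num : 1 < 2)).1 (hk1.trans (by norm_num : 4 ≤ 2 ^ 2))
  have hcard : ∀ {G1 G2 : Type _} [Group G1] [Group G2] (F : G1 →* G2), Nat.card G1 = Nat.card F.range * Nat.card F.ker := by
    intro G1 G2 _ _ F
    rw [← Nat.card_congr (QuotientGroup.quotientKerEquivRange F).toEquiv]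
    exact Subgroup.card_eq_card_quotient_mul_card_subgroup _
  have h1 : 2 ^ 15 ∣ Nat.card f.range * 2 ^ j := by
    rw [← hj', ← hcard f]
    exact dvd_card_stab h
  have h2 : 2 ^ 13 ∣ Nat.card f.range := by
    have h3 : 2 ^ 15 ∣ Nat.card f.range * 2 ^ 2 := h1.trans (Nat.mul_dvd_mul_left _ (pow_dvd_pow 2 hj))
    have h4 : 2 ^ 13 * 2 ^ 2 ∣ Nat.card f.range * 2 ^ 2 := by
      rw [← pow_add]; exact h3
    exact Nat.dvd_of_mul_dvd_mul_right (by norm_num) h4
  have h3 : Nat.card f.range ∣ Nat.card L.act.range := by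
    refine Subgroup.card_dvd_of_le ?_
    rintro _ ⟨x, rfl⟩
    exact ⟨(x : C), rfl⟩
  have h4 : Nat.card L.act.ker = Nat.card Q := by
    have hQC : Q ≤ C := fun x hx => mem_centralizer_singleton_iff.2 (L.comm_z x hx)
    have h5 : L.act.ker = Q.subgroupOf C := by
      ext x
      constructor
      · intro hx; exact L.mem_of_act x hx
      · intro hx; exact L.act_mem x hx
    rw [h5]
    exact Nat.card_congr (Subgroup.subgroupOfEquivOfLe hQC).toEquiv
  have h5 : Nat.card C = Nat.card L.act.range * Nat.card Q := by rw [← h4]; exact hcard L.act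
  have h6 : 2 ^ 13 * Nat.card Q ∣ Nat.card C := by
    rw [h5]
    exact Nat.mul_dvd_mul_right (h2.trans h3) _
  exact h6.trans (Subgroup.card_subgroup_dvd_card C)

omit [Finite K] in
theorem isPGroup_large {z : K} (L : Large Q z) : IsPGroup 2 Q := by
  intro x
  refine ⟨2, Subtype.ext ?_⟩
  change (x : K) ^ 2 ^ 2 = 1
  rw [show (2 : ℕ) ^ 2 = 2 * 2 from rfl, pow_mul, pow_two, pow_two]
  rcases L.sq x x.2 with h1 | h1 <;> rw [h1]
  · rw [one_mul]
  · exact L.z_sq

/-- `z` is 2-central -/
theorem odd_of_large {z : K} (L : Large Q z) : ¬ 2 ∣ (centralizer ({z} : Set K)).index := by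
  have : Fact (Nat.Prime 2) := ⟨Nat.prime_two⟩
  obtain ⟨S, hQS⟩ := (isPGroup_large L).exists_le_sylow
  have hzS : ∀ s ∈ S, s * z = z * s := by
    have : Nontrivial ↥S := ⟨⟨⟨z, hQS L.z_mem⟩, 1, fun e => L.z_ne (congrArg Subtype.val e)⟩⟩
    obtain ⟨w, hwc', hw⟩ := (nontrivial_iff_exists_ne_one (center ↥S)).1 (S.isPGroup'.center_nontrivial)
    have hwc : ∀ s ∈ S, s * (w : K) = w * s := fun s hs =>
      congrArg Subtype.val (mem_center_iff.1 hwc' ⟨s, hs⟩)
    have hwQ : (w : K) ∈ Q := L.self _ (hwc z (hQS L.z_mem)).symm fun y hy => (hwc y (hQS hy)).symm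
    rcases L.cent _ hwQ (fun y hy => (hwc y (hQS hy)).symm) with e | e
    · exact absurd (Subtype.ext e) hw
    · rw [← e]; exact hwc
  intro h2
  apply S.not_dvd_index
  refine h2.trans (index_dvd_of_le fun x hx => ?_)
  rw [mem_centralizer_singleton_iff]
  exact hzS x hx

/-- the general statement -/
theorem main (h : Sit th O K0) {z : K} (L : Large Q z) (hQ : 2 ^ 13 ≤ Nat.card Q) :
    (Nat.card Q ≤ 2 ^ 18 ∨ 2 ^ 33 ≤ Nat.card Q) ∧ 2 ^ 13 * Nat.card Q ∣ Nat.card K := by
  obtain ⟨g, hg⟩ := h.exists_conj_of_odd_index L.z_ne (n := 1) (by rw [pow_one, pow_two]; exact L.z_sq)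
    (odd_of_large L) a_ne
  have hL := L.conj g
  have hc : Nat.card (Q.map (MulAut.conj g).toMonoidHom) = Nat.card Q :=
    (Nat.card_congr (Q.equivMapOfInjective _ (MulAut.conj g).injective).toEquiv).symm
  generalize hQ' : Q.map (MulAut.conj g).toMonoidHom = Q' at hL hc
  rw [hg] at hL
  rw [← hc] at hQ ⊢
  exact ⟨card_lt_or h hL hQ, dvd_card h hL hQ⟩

/-- large groups -/
theorem false_of_large (h : Sit th O K0) {z : K} (L : Large Q z) (h1 : 2 ^ 18 < Nat.card Q)
    (h2 : Nat.card Q < 2 ^ 33) : False := by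
  have := (main h L (by omega)).1
  omega

/-- small centralisers -/
theorem false_of_card (h : Sit th O K0) {z : K} (L : Large Q z) (h1 : 2 ^ 13 ≤ Nat.card Q)
    (h2 : ¬ 2 ^ 26 ∣ Nat.card K) : False := by
  refine h2 ?_
  have h3 := (main h L h1).2
  have : Fact (Nat.Prime 2) := ⟨Nat.prime_two⟩
  obtain ⟨n, hn⟩ := IsPGroup.iff_card.1 (isPGroup_large L)
  rw [hn] at h1 h3
  have h4 : 13 ≤ n := (Nat.pow_le_pow_iff_right (by norm_num : 1 < 2)).1 h1
  refine dvd_trans ?_ h3
  rw [← pow_add]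
  exact pow_dvd_pow 2 (by omega)

end

end Cfsg.Agent.H848.SpSixLarge
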