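import Cfsg.Agent.H336.SpSix.Def

/-!
# Representations of `V / ⟨a⟩` over the field of two elements with a one-dimensional fixed space (S3405)

`bound` : let `V / ⟨a⟩` act on a space `W` with a perfect invariant form, with at most one nonzero fixed vector, such
that the transvections fixing `a` can be lifted to `W`.  If `|W| < 2 ^ 32` then `|W| ≤ 2 ^ 17`.
-/

set_option autoImplicit false

namespace Cfsg.Agent.H848.SpSixLin

open Cfsg.Agent.H336.SpSix

/-! ### fixed vectors -/

/-- commuting operators of order two have a common nonzero fixed vector -/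
theorem exists_fixed {I W : Type*} [Fintype I] [AddCommGroup W] [Module (ZMod 2) W] (T : I → W →ₗ[ZMod 2] W)
    (hc : ∀ i j w, T i (T j w) = T j (T i w)) (h2 : ∀ i w, T i (T i w) = w) (U : Submodule (ZMod 2) W)
    (hU : ∀ i, ∀ w ∈ U, T i w ∈ U) (hne : U ≠ ⊥) : ∃ x ∈ U, x ≠ 0 ∧ ∀ i, T i x = x := by
  classical
  have key : ∀ s : Finset I, ∃ x ∈ U, x ≠ 0 ∧ ∀ i ∈ s, T i x = x := by
    intro s
    induction s using Finset.induction_on with
    | empty =>
      obtain ⟨x, hx, hx0⟩ := U.exists_mem_ne_zero_of_ne_bot hne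
      exact ⟨x, hx, hx0, by simp⟩
    | insert j s hj ih =>
      obtain ⟨x, hx, hx0, hxs⟩ := ih
      by_cases h : T j x + x = 0
      · refine ⟨x, hx, hx0, fun i hi => ?_⟩
        rcases Finset.mem_insert.1 hi with rfl | hi
        · have h3 : x + x = 0 := by
            have : (2 : ZMod 2) • x = 0 := by
              have : (2 : ZMod 2) = 0 := by decide
              rw [this, zero_smul]
            rwa [two_smul] at this
          exact add_right_cancel (h.trans h3.symm)
        · exact hxs i hi
      · refine ⟨T j x + x, U.add_mem (hU j x hx) hx, h, fun i hi => ?_⟩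
        rcases Finset.mem_insert.1 hi with rfl | hi
        · rw [map_add, h2, add_comm]
        · rw [map_add, hc, hxs i hi]
  obtain ⟨x, hx, hx0, hxs⟩ := key Finset.univ
  exact ⟨x, hx, hx0, fun i => hxs i (Finset.mem_univ i)⟩

theorem w_add_self {W : Type*} [AddCommGroup W] [Module (ZMod 2) W] (x : W) : x + x = 0 := by
  have : (2 : ZMod 2) • x = 0 := by
    have : (2 : ZMod 2) = 0 := by decide
    rw [this, zero_smul]
  rwa [two_smul] at this

/-! ### the complement -/

/-- the distinguished vector -/
def a : V := Pi.single (Sum.inl 0) 1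

/-- functions on five points -/
abbrev X := Fin 5 → ZMod 2

/-- a complement to `⟨a⟩` in `V` -/
def io (x : X) : V := fun
  | Sum.inl i => ![0, x 0, x 1] i
  | Sum.inr i => ![x 2, x 3, x 4] i

/-- the projection -/
def ro (v : V) : X := ![v (Sum.inl 1), v (Sum.inl 2), v (Sum.inr 0), v (Sum.inr 1), v (Sum.inr 2)]

theorem v_ext {u v : V} (h0 : u (Sum.inl 0) = v (Sum.inl 0)) (h1 : u (Sum.inl 1) = v (Sum.inl 1))
    (h2 : u (Sum.inl 2) = v (Sum.inl 2)) (h3 : u (Sum.inr 0) = v (Sum.inr 0))
    (h4 : u (Sum.inr 1) = v (Sum.inr 1)) (h5 : u (Sum.inr 2) = v (Sum.inr 2)) : u = v := by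
  funext i
  rcases i with i | i <;> fin_cases i <;> assumption

theorem x_ext {u v : X} (h0 : u 0 = v 0) (h1 : u 1 = v 1) (h2 : u 2 = v 2) (h3 : u 3 = v 3) (h4 : u 4 = v 4) :
    u = v := by
  funext i
  fin_cases i <;> assumption

theorem a_l0 : a (Sum.inl 0) = 1 := by simp [a]
theorem a_l1 : a (Sum.inl 1) = 0 := by simp [a]
theorem a_l2 : a (Sum.inl 2) = 0 := by simp [a]
theorem a_r (i : Fin 3) : a (Sum.inr i) = 0 := by simp [a]

theorem a_ne : a ≠ 0 := fun h => by
  have := congrFun h (Sum.inl 0)
  rw [a_l0] at this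
  exact one_ne_zero this

theorem io_add (x y : X) : io (x + y) = io x + io y := by
  apply v_ext <;> simp [io]

theorem io_zero : io 0 = 0 := by
  apply v_ext <;> simp [io]

theorem ro_io (x : X) : ro (io x) = x := by
  apply x_ext <;> rfl

theorem ro_add (u v : V) : ro (u + v) = ro u + ro v := by
  apply x_ext <;> rfl

theorem ro_a : ro a = 0 := by
  apply x_ext <;> simp [ro, a]

theorem io_ro (v : V) : io (ro v) = v ∨ io (ro v) = v + a := by
  rcases z2 (v (Sum.inl 0)) with h | h
  · left
    apply v_ext <;> simp [io, ro, h]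
  · right
    apply v_ext <;> simp [io, ro, h, a_l0, a_l1, a_l2, a_r, z2_add_self]

theorem io_inj {x y : X} (h : io x = io y) : x = y := by
  rw [← ro_io x, h, ro_io]

theorem io_ne_a (x : X) : io x ≠ a := fun h => by
  have := congrFun h (Sum.inl 0)
  rw [a_l0] at this
  exact zero_ne_one this

/-- every coordinate function of the complement is `om y (io x)` with `y` orthogonal to `a` -/
theorem exists_coord (i : Fin 5) : ∃ y : V, om a y = 0 ∧ ∀ x, om y (io x) = x i := by
  fin_cases i
  · refine ⟨Pi.single (Sum.inr 1) 1, ?_, fun x => ?_⟩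
    · rw [a, om_single_inl]; simp
    · rw [om_single_inr]; rfl
  · refine ⟨Pi.single (Sum.inr 2) 1, ?_, fun x => ?_⟩
    · rw [a, om_single_inl]; simp
    · rw [om_single_inr]; rfl
  · refine ⟨Pi.single (Sum.inl 0) 1, ?_, fun x => ?_⟩
    · rw [a, om_single_inl]; simp
    · rw [om_single_inl]; rfl
  · refine ⟨Pi.single (Sum.inl 1) 1, ?_, fun x => ?_⟩
    · rw [a, om_single_inl]; simp
    · rw [om_single_inl]; rfl
  · refine ⟨Pi.single (Sum.inl 2) 1, ?_, fun x => ?_⟩
    · rw [a, om_single_inl]; simp
    · rw [om_single_inl]; rfl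

/-- sums over the complement of functions invariant under `a` -/
theorem sum_tv {M : Type*} [AddCommMonoid M] (F : V → M) (hF : ∀ v, F (v + a) = F v) (c : V) (hc : om a c = 0) :
    ∑ x : X, F (tv c (io x)) = ∑ x : X, F (io x) := by
  have hinj : Function.Injective (fun x : X => ro (tv c (io x))) := by
    intro x y hxy
    have h1 : ro (tv c (io (x + y))) = 0 := by
      rw [io_add, map_add, ro_add]
      have : ro (tv c (io x)) = ro (tv c (io y)) := hxy
      rw [this]
      funext i
      exact z2_add_self _
    have h2 : tv c (io (x + y)) = 0 ∨ tv c (io (x + y)) = a := by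
      have h3 := io_ro (tv c (io (x + y)))
      rw [h1, io_zero] at h3
      rcases h3 with h3 | h3
      · exact Or.inl h3.symm
      · right
        exact (Cfsg.Agent.H336.SpSix.add_eq_zero_iff _ _).1 h3.symm
    have h4 : io (x + y) = 0 := by
      rcases h2 with h2 | h2
      · exact (tv c).map_eq_zero_iff.1 h2
      · exfalso
        have h5 : tv c a = a := tv_of_zero (by rw [om_comm]; exact hc)
        exact io_ne_a _ ((tv c).injective (h2.trans h5.symm))
    rw [io_add] at h4
    exact io_inj ((Cfsg.Agent.H336.SpSix.add_eq_zero_iff _ _).1 h4)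
  have hbij : Function.Bijective (fun x : X => ro (tv c (io x))) := ⟨hinj, Finite.injective_iff_surjective.1 hinj⟩
  rw [← hbij.sum_comp (fun x : X => F (io x))]
  refine Finset.sum_congr rfl fun x _ => ?_
  rcases io_ro (tv c (io x)) with h | h
  · rw [h]
  · rw [h, hF]

/-! ### monomials -/

/-- monomials -/
def mo (R : Finset (Fin 5)) (x : X) : ZMod 2 := ∏ i ∈ R, x i

theorem mo_empty (x : X) : mo ∅ x = 1 := by simp [mo]

theorem mo_shift_notMem {R : Finset (Fin 5)} {i : Fin 5} (hi : i ∉ R) (x : X) :
    mo R (x + Pi.single i 1) = mo R x := by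
  refine Finset.prod_congr rfl fun j hj => ?_
  have : j ≠ i := fun h => hi (h ▸ hj)
  simp [this]

theorem mo_shift_mem {R : Finset (Fin 5)} {i : Fin 5} (hi : i ∈ R) (x : X) :
    mo R (x + Pi.single i 1) = mo R x + mo (R.erase i) x := by
  have h1 : ∀ y : X, mo R y = y i * mo (R.erase i) y := fun y => (Finset.mul_prod_erase R (fun j => y j) hi).symm
  rw [h1, mo_shift_notMem (Finset.notMem_erase i R), h1 x]
  simp only [Pi.add_apply, Pi.single_eq_same]
  ring

theorem mo_univ (x : X) : mo Finset.univ x = if x = 1 then 1 else 0 := by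
  split_ifs with h
  · subst h
    simp [mo]
  · rw [mo, Finset.prod_eq_zero_iff]
    by_contra hc
    push Not at hc
    refine h (funext fun i => ?_)
    exact (z2 (x i)).resolve_left (hc i (Finset.mem_univ i))

/-! ### the bound -/

section Bound

variable {W : Type*} [AddCommGroup W] [Module (ZMod 2) W] (T : V → W →ₗ[ZMod 2] W)

/-- the linear map from functions on the complement -/
def Phi (w : W) : (X → ZMod 2) →ₗ[ZMod 2] W where
  toFun f := ∑ x : X, f x • T (io x) w
  map_add' f g := by
    simp only [Pi.add_apply, add_smul, Finset.sum_add_distrib]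
  map_smul' c f := by
    simp only [Pi.smul_apply, smul_eq_mul, mul_smul, Finset.smul_sum, RingHom.id_apply]

theorem Phi_apply (w : W) (f : X → ZMod 2) : Phi T w f = ∑ x : X, f x • T (io x) w := rfl

variable {T}

theorem Phi_shift (hadd : ∀ u v w, T (u + v) w = T u (T v w)) (w : W) (f : X → ZMod 2) (u : X) :
    T (io u) (Phi T w f) = Phi T w (fun x => f (x + u)) := by
  rw [Phi_apply, Phi_apply, map_sum]
  rw [← Equiv.sum_comp (Equiv.addRight u) (fun x : X => T (io u) (f x • T (io x) w))]
  refine Finset.sum_congr rfl fun x _ => ?_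
  rw [Equiv.coe_addRight, map_smul, ← hadd, io_add, add_comm (io x), ← add_assoc, v_add_self, zero_add]

theorem Phi_add_shift (hadd : ∀ u v w, T (u + v) w = T u (T v w)) (w : W) (f : X → ZMod 2) (u : X) :
    T (io u) (Phi T w f) + Phi T w f = Phi T w (fun x => f (x + u) + f x) := by
  rw [Phi_shift hadd, ← map_add]
  rfl

end Bound

section Main

variable {W : Type*} [AddCommGroup W] [Module (ZMod 2) W] [Finite W] {T : V → W →ₗ[ZMod 2] W}

omit [Finite W] in
/-- the singles generate -/
theorem all_of_singles (h0 : ∀ w, T 0 w = w) (hadd : ∀ u v w, T (u + v) w = T u (T v w)) (ha : ∀ w, T a w = w)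
    {x : W} (h : ∀ i, T (io (Pi.single i 1)) x = x) (v : V) : T v x = x := by
  have h1 : ∀ (y : X), T (io y) x = x := by
    intro y
    have h2 : y = ∑ i, Pi.single i (y i) := (Finset.univ_sum_single y).symm
    have h3 : ∀ s : Finset (Fin 5), T (io (∑ i ∈ s, Pi.single i (y i))) x = x := by
      intro s
      induction s using Finset.induction_on with
      | empty => rw [Finset.sum_empty, io_zero, h0]
      | insert j s hj ih =>
        rw [Finset.sum_insert hj, io_add, hadd, ih]
        rcases z2 (y j) with h4 | h4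
        · rw [h4, Pi.single_zero, io_zero, h0]
        · rw [h4, h]
    rw [h2]
    exact h3 _
  rcases io_ro v with h5 | h5
  · rw [← h5]; exact h1 _
  · have : v = io (ro v) + a := by rw [h5, add_assoc, v_add_self, add_zero]
    rw [this, hadd, ha, h1]

omit [Finite W] in
/-- an invariant subspace containing a vector not orthogonal to the fixed vector is everything -/
theorem eq_top (b : LinearMap.BilinForm (ZMod 2) W) (hdual : ∀ f : W →ₗ[ZMod 2] ZMod 2, ∃ v, ∀ w, b v w = f w)
    (h0 : ∀ w, T 0 w = w) (hadd : ∀ u v w, T (u + v) w = T u (T v w))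
    (hTb : ∀ u v w, b (T u v) (T u w) = b v w)
    (hfix : ∀ x y, (∀ u, T u x = x) → (∀ u, T u y = y) → x ≠ 0 → y ≠ 0 → x = y)
    {s w0 : W} (hs : ∀ u, T u s = s) (hs0 : s ≠ 0) (hw0 : b s w0 ≠ 0) (U : Submodule (ZMod 2) W) (hU : w0 ∈ U)
    (hUT : ∀ u, ∀ w ∈ U, T u w ∈ U) : U = ⊤ := by
  have hTT : ∀ u w, T u (T u w) = w := fun u w => by rw [← hadd, v_add_self, h0]
  by_contra hne
  obtain ⟨f, hf0, hf⟩ := Submodule.exists_le_ker_of_lt_top U (lt_top_iff_ne_top.2 hne)
  obtain ⟨v, hv⟩ := hdual f
  have hv0 : v ≠ 0 := by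
    rintro rfl
    apply hf0
    ext w
    rw [← hv]
    simp
  let P : Submodule (ZMod 2) W :=
    { carrier := {y | ∀ u ∈ U, b y u = 0}
      zero_mem' := fun u _ => by simp
      add_mem' := fun {y y'} hy hy' u hu => by rw [map_add, LinearMap.add_apply, hy u hu, hy' u hu, add_zero]
      smul_mem' := fun c y hy u hu => by rw [map_smul, LinearMap.smul_apply, hy u hu, smul_zero] }
  have hP : v ∈ P := fun u hu => by
    rw [hv]
    exact hf hu
  have hP0 : P ≠ ⊥ := fun h => hv0 (by rw [h] at hP; exact (Submodule.mem_bot _).1 hP)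
  obtain ⟨x, hx, hx0, hxT⟩ := exists_fixed T (fun i j w => by rw [← hadd, ← hadd, add_comm]) hTT P
    (fun i y hy u hu => by
      rw [← hTb i, hTT]
      exact hy _ (hUT i u hu)) hP0
  have : x = s := hfix x s hxT hs hx0 hs0
  exact hw0 (this ▸ hx w0 hU)

/-- the bound -/
theorem bound (b : LinearMap.BilinForm (ZMod 2) W) (hdual : ∀ f : W →ₗ[ZMod 2] ZMod 2, ∃ v, ∀ w, b v w = f w)
    (hnd : ∀ v, (∀ w, b v w = 0) → v = 0)
    (h0 : ∀ w, T 0 w = w) (hadd : ∀ u v w, T (u + v) w = T u (T v w)) (ha : ∀ w, T a w = w)
    (hTb : ∀ u v w, b (T u v) (T u w) = b v w)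
    (hfix : ∀ x y, (∀ u, T u x = x) → (∀ u, T u y = y) → x ≠ 0 → y ≠ 0 → x = y)
    (hinv : ∀ c, om a c = 0 → ∃ g : W ≃ₗ[ZMod 2] W, ∀ v w, g (T v w) = T (tv c v) (g w))
    (hcard : Nat.card W < 2 ^ 32) : Nat.card W ≤ 2 ^ 17 := by
  classical
  have hTT : ∀ u w, T u (T u w) = w := fun u w => by rw [← hadd, v_add_self, h0]
  have hcomm : ∀ i j w, T i (T j w) = T j (T i w) := fun i j w => by rw [← hadd, ← hadd, add_comm]
  by_cases htriv : (⊤ : Submodule (ZMod 2) W) = ⊥
  · have : Subsingleton W := by
      refine ⟨fun x y => ?_⟩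
      have hx : x ∈ (⊤ : Submodule (ZMod 2) W) := trivial
      have hy : y ∈ (⊤ : Submodule (ZMod 2) W) := trivial
      rw [htriv, Submodule.mem_bot] at hx hy
      rw [hx, hy]
    rw [Nat.card_unique]
    norm_num
  obtain ⟨s, -, hs0, hs⟩ := exists_fixed T hcomm hTT ⊤ (fun _ _ _ => trivial) htriv
  obtain ⟨w0, hw0⟩ : ∃ w0, b s w0 ≠ 0 := by
    by_contra hc
    push Not at hc
    exact hs0 (hnd s hc)
  have hfs : ∀ x, (∀ u, T u x = x) → x = 0 ∨ x = s := by
    intro x hx
    by_cases hx0 : x = 0
    · exact Or.inl hx0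
    · exact Or.inr (hfix x s hx hs hx0 hs0)
  have htop := fun U hU hUT => eq_top b hdual h0 hadd hTb hfix hs hs0 hw0 U hU hUT
  -- the kernel of a commuting operator
  have hall : ∀ (f : X → ZMod 2), Phi T w0 f = 0 → ∀ w, Phi T w f = 0 := by
    intro f hf w
    let U : Submodule (ZMod 2) W :=
      { carrier := {w | Phi T w f = 0}
        zero_mem' := by
          change Phi T 0 f = 0
          rw [Phi_apply]
          simp
        add_mem' := fun {x y} hx hy => by
          change Phi T (x + y) f = 0
          change Phi T x f = 0 at hx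
          change Phi T y f = 0 at hy
          rw [Phi_apply] at hx hy ⊢
          simp only [map_add, smul_add, Finset.sum_add_distrib, hx, hy, add_zero]
        smul_mem' := fun c x hx => by
          change Phi T (c • x) f = 0
          change Phi T x f = 0 at hx
          rw [Phi_apply] at hx ⊢
          simp only [map_smul, smul_comm _ c]
          rw [← Finset.smul_sum, hx, smul_zero] }
    have hU : U = ⊤ := by
      refine htop U hf fun u x hx => ?_
      change Phi T (T u x) f = 0
      change Phi T x f = 0 at hx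
      have : Phi T (T u x) f = T u (Phi T x f) := by
        rw [Phi_apply, Phi_apply, map_sum]
        refine Finset.sum_congr rfl fun y _ => ?_
        rw [map_smul, hcomm]
      rw [this, hx, map_zero]
    have : w ∈ U := by rw [hU]; trivial
    exact this
  -- the constant function
  have hone : Phi T w0 (fun _ => 1) = 0 := by
    have hker : LinearMap.ker (Phi T w0) ≠ ⊥ := by
      intro hk
      have hinj := LinearMap.ker_eq_bot.1 hk
      have h1 := Nat.card_le_card_of_injective _ hinj
      have h2 : Nat.card (X → ZMod 2) = 2 ^ 32 := by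
        rw [Nat.card_eq_fintype_card, Fintype.card_fun, Fintype.card_fun, ZMod.card, Fintype.card_fin]
        norm_num
      rw [h2] at h1
      exact absurd hcard (not_lt.2 h1)
    let S : X → (X → ZMod 2) →ₗ[ZMod 2] (X → ZMod 2) := fun u => LinearMap.funLeft (ZMod 2) (ZMod 2) (fun x => x + u)
    have hS : ∀ u f x, S u f x = f (x + u) := fun u f x => rfl
    obtain ⟨f, hf, hf0, hfu⟩ := exists_fixed S (fun i j w => by
      funext x
      rw [hS, hS, hS, hS, add_assoc, add_assoc, add_comm i]) (fun i w => by
      funext x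
      rw [hS, hS, add_assoc]
      congr 1
      have : i + i = 0 := by funext j; exact z2_add_self _
      rw [this, add_zero]) (LinearMap.ker (Phi T w0)) (fun i f hf => by
      rw [LinearMap.mem_ker] at hf ⊢
      have : Phi T w0 (S i f) = T (io i) (Phi T w0 f) := (Phi_shift hadd w0 f i).symm
      rw [this, hf, map_zero]) hker
    have h1 : ∀ x, f x = f 0 := fun x => by
      have := congrFun (hfu x) 0
      rw [hS, zero_add] at this
      exact this
    have h2 : f 0 = 1 := by
      refine (z2 (f 0)).resolve_left fun h3 => hf0 (funext fun x => ?_)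
      rw [h1 x, h3]; rfl
    have h3 : f = fun _ => 1 := funext fun x => by rw [h1 x, h2]
    rw [LinearMap.mem_ker, h3] at hf
    exact hf
  -- linear functions
  have hfixlin : ∀ (f : X → ZMod 2), (∀ u x, f (x + u) + f x = f u) → ∀ v, T v (Phi T w0 f) = Phi T w0 f := by
    intro f hf
    refine all_of_singles h0 hadd ha fun i => ?_
    have h1 := Phi_add_shift hadd w0 f (Pi.single i 1)
    have h2 : Phi T w0 (fun x => f (x + Pi.single i 1) + f x) = 0 := by
      have h3 : (fun x => f (x + Pi.single i 1) + f x) = f (Pi.single i 1) • (fun _ : X => (1 : ZMod 2)) := by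
        funext x
        rw [hf]; simp
      rw [h3, map_smul, hone, smul_zero]
    rw [h2] at h1
    exact add_right_cancel (h1.trans (w_add_self _).symm)
  have hlin : ∀ y, om a y = 0 → Phi T w0 (fun x => om y (io x)) = 0 := by
    let H : AddSubgroup V :=
      { carrier := {y | om a y = 0 ∧ Phi T w0 (fun x => om y (io x)) = 0}
        zero_mem' := by
          refine ⟨om_zero_right a, ?_⟩
          have : (fun x => om 0 (io x)) = (0 : X → ZMod 2) := funext fun x => om_zero_left _
          rw [this, map_zero]
        add_mem' := fun {y y'} hy hy' => by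
          refine ⟨by rw [om_add_right, hy.1, hy'.1, add_zero], ?_⟩
          have : (fun x => om (y + y') (io x)) = (fun x => om y (io x)) + (fun x => om y' (io x)) :=
            funext fun x => om_add_left _ _ _
          rw [this, map_add, hy.2, hy'.2, add_zero]
        neg_mem' := fun {y} hy => by rw [v_neg]; exact hy }
    have hmem : ∀ y, y ∈ H ↔ om a y = 0 ∧ Phi T w0 (fun x => om y (io x)) = 0 := fun y => Iff.rfl
    have hH : ∀ c, om a c = 0 → ∀ y ∈ H, tv c y ∈ H := by
      intro c hc y hy
      rw [hmem] at hy ⊢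
      have hca : tv c a = a := tv_of_zero (by rw [om_comm]; exact hc)
      have h1 : om a (tv c y) = 0 := by
        rw [← hca, isom_tv c a y]; exact hy.1
      refine ⟨h1, ?_⟩
      obtain ⟨g, hg⟩ := hinv c hc
      obtain ⟨w, hw⟩ := g.surjective w0
      have h2 := hall _ hy.2 w
      have h3 := congrArg g h2
      rw [map_zero, Phi_apply, map_sum] at h3
      rw [Phi_apply, ← h3, ← sum_tv (fun v => om (tv c y) v • T v w0) (fun v => by
        rw [om_add_right, om_comm _ a, h1, add_zero, hadd, ha]) c hc]
      refine Finset.sum_congr rfl fun x _ => ?_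
      rw [isom_tv c, map_smul, hg, hw]
    -- two orthogonal vectors
    have hcases := fun y => hfs (Phi T w0 (fun x => om y (io x))) (hfixlin _ fun u x => by
      rw [io_add, om_add_right, add_comm (om y (io x)), add_assoc, z2_add_self, add_zero])
    obtain ⟨y, hy, hy0, hya⟩ : ∃ y ∈ H, y ≠ 0 ∧ y ≠ a := by
      let y1 : V := Pi.single (Sum.inl 1) 1
      let y2 : V := Pi.single (Sum.inl 2) 1
      have e1 : om a y1 = 0 := by rw [a, om_single_inl]; simp [y1]
      have e2 : om a y2 = 0 := by rw [a, om_single_inl]; simp [y2]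
      have e3 : om a (y1 + y2) = 0 := by rw [om_add_right, e1, e2, add_zero]
      have n1 : y1 (Sum.inl 1) = 1 := by simp [y1]
      have n2 : y2 (Sum.inl 2) = 1 := by simp [y2]
      have n3 : (y1 + y2) (Sum.inl 1) = 1 := by simp [y1, y2]
      have f1 : ∀ y : V, y (Sum.inl 1) = 1 → y ≠ 0 ∧ y ≠ a := by
        intro y hy
        constructor
        · rintro rfl; exact zero_ne_one hy
        · rintro rfl; rw [a_l1] at hy; exact zero_ne_one hy
      have f2 : ∀ y : V, y (Sum.inl 2) = 1 → y ≠ 0 ∧ y ≠ a := by
        intro y hy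
        constructor
        · rintro rfl; exact zero_ne_one hy
        · rintro rfl; rw [a_l2] at hy; exact zero_ne_one hy
      rcases hcases y1 with h1 | h1
      · exact ⟨y1, (hmem _).2 ⟨e1, h1⟩, f1 _ n1⟩
      rcases hcases y2 with h2 | h2
      · exact ⟨y2, (hmem _).2 ⟨e2, h2⟩, f2 _ n2⟩
      refine ⟨y1 + y2, (hmem _).2 ⟨e3, ?_⟩, f1 _ n3⟩
      have : (fun x => om (y1 + y2) (io x)) = (fun x => om y1 (io x)) + (fun x => om y2 (io x)) :=
        funext fun x => om_add_left _ _ _
      rw [this, map_add, h1, h2]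
      exact w_add_self s
    intro v hv
    -- invariance gives everything
    have key : ∀ c, om a c = 0 → om c y = 1 → c ∈ H := by
      intro c hc h
      have := hH c hc y hy
      rw [tv_of_one h] at this
      have h2 := H.add_mem hy this
      rwa [self_add_add] at h2
    have : v ∈ H := by
      rcases z2 (om v y) with h | h
      · obtain ⟨d, hd1, hd2⟩ := exists_om_one_zero hy0 a_ne hya
        have h3 : d ∈ H := key d hd2 (by rw [om_comm]; exact hd1)
        have h4 : v + d ∈ H := key (v + d) (by rw [om_add_right, hv, hd2, add_zero]) (by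
          rw [om_add_left, h, om_comm d, hd1, zero_add])
        have h5 := H.add_mem h4 h3
        rwa [add_add_self] at h5
      · exact key v hv h
    exact ((hmem v).1 this).2
  -- monomials
  have hm0 : Phi T w0 (mo ∅) = 0 := by
    have : mo ∅ = fun _ => 1 := funext fun x => mo_empty x
    rw [this]; exact hone
  have hm1 : ∀ i, Phi T w0 (mo {i}) = 0 := by
    intro i
    obtain ⟨y, hy, hy'⟩ := exists_coord i
    have : mo {i} = fun x => om y (io x) := funext fun x => by rw [hy']; simp [mo]
    rw [this]
    exact hlin y hy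
  have hmT : ∀ R i, T (io (Pi.single i 1)) (Phi T w0 (mo R)) =
      Phi T w0 (mo R) + if i ∈ R then Phi T w0 (mo (R.erase i)) else 0 := by
    intro R i
    rw [Phi_shift hadd]
    split_ifs with hi
    · rw [← map_add]
      congr 1
      funext x
      exact mo_shift_mem hi x
    · rw [add_zero]
      congr 1
      funext x
      exact mo_shift_notMem hi x
  have hm2 : ∀ R : Finset (Fin 5), R.card ≤ 1 → Phi T w0 (mo R) = 0 := by
    intro R hR
    rcases Nat.le_one_iff_eq_zero_or_eq_one.1 hR with h | h
    · rw [Finset.card_eq_zero.1 h]; exact hm0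
    · obtain ⟨i, rfl⟩ := Finset.card_eq_one.1 h
      exact hm1 i
  have hm3 : ∀ R : Finset (Fin 5), R.card ≤ 2 → Phi T w0 (mo R) = 0 ∨ Phi T w0 (mo R) = s := by
    intro R hR
    refine hfs _ (all_of_singles h0 hadd ha fun i => ?_)
    rw [hmT]
    split_ifs with hi
    · rw [hm2 (R.erase i) (by rw [Finset.card_erase_of_mem hi]; omega), add_zero]
    · rw [add_zero]
  -- the spanning set
  let I := Option {R : Finset (Fin 5) // 3 ≤ R.card}
  let g : I → W := fun o => o.elim s (fun R => Phi T w0 (mo R.1))
  have hgs : g none = s := rfl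
  have hgR : ∀ (R : Finset (Fin 5)) (hR : 3 ≤ R.card), g (some ⟨R, hR⟩) = Phi T w0 (mo R) := fun _ _ => rfl
  have hallm : ∀ R, Phi T w0 (mo R) ∈ Submodule.span (ZMod 2) (Set.range g) := by
    intro R
    by_cases hR : 3 ≤ R.card
    · rw [← hgR R hR]
      exact Submodule.subset_span ⟨_, rfl⟩
    · rcases hm3 R (by omega) with h | h
      · rw [h]; exact Submodule.zero_mem _
      · rw [h, ← hgs]
        exact Submodule.subset_span ⟨_, rfl⟩
  have hspan1 : ∀ i, ∀ w ∈ Submodule.span (ZMod 2) (Set.range g),
      T (io (Pi.single i 1)) w ∈ Submodule.span (ZMod 2) (Set.range g) := by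
    intro i w hw
    induction hw using Submodule.span_induction with
    | mem x hx =>
      obtain ⟨o, rfl⟩ := hx
      rcases o with _ | ⟨R, hR⟩
      · rw [hgs, hs]
        exact Submodule.subset_span ⟨none, rfl⟩
      · rw [hgR, hmT]
        refine Submodule.add_mem _ (hallm R) ?_
        split_ifs
        · exact hallm _
        · exact Submodule.zero_mem _
    | zero => rw [map_zero]; exact Submodule.zero_mem _
    | add x y _ _ hx hy => rw [map_add]; exact Submodule.add_mem _ hx hy
    | smul c x _ hx => rw [map_smul]; exact Submodule.smul_mem _ _ hx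
  have hspan2 : ∀ y : X, ∀ w ∈ Submodule.span (ZMod 2) (Set.range g),
      T (io y) w ∈ Submodule.span (ZMod 2) (Set.range g) := by
    intro y
    have h2 : y = ∑ i, Pi.single i (y i) := (Finset.univ_sum_single y).symm
    have h3 : ∀ t : Finset (Fin 5), ∀ w ∈ Submodule.span (ZMod 2) (Set.range g),
        T (io (∑ i ∈ t, Pi.single i (y i))) w ∈ Submodule.span (ZMod 2) (Set.range g) := by
      intro t
      induction t using Finset.induction_on with
      | empty => intro w hw; rw [Finset.sum_empty, io_zero, h0]; exact hw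
      | insert j t hj ih =>
        intro w hw
        rw [Finset.sum_insert hj, io_add, hadd]
        rcases z2 (y j) with h4 | h4
        · rw [h4, Pi.single_zero, io_zero, h0]; exact ih w hw
        · rw [h4]; exact hspan1 j _ (ih w hw)
    rw [h2]
    exact h3 _
  have hspan3 : ∀ v : V, ∀ w ∈ Submodule.span (ZMod 2) (Set.range g),
      T v w ∈ Submodule.span (ZMod 2) (Set.range g) := by
    intro v w hw
    rcases io_ro v with h5 | h5
    · rw [← h5]; exact hspan2 _ w hw
    · have : v = io (ro v) + a := by rw [h5, add_assoc, v_add_self, add_zero]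
      rw [this, hadd, ha]
      exact hspan2 _ w hw
  have hw0mem : w0 ∈ Submodule.span (ZMod 2) (Set.range g) := by
    have h1 : Phi T w0 (mo Finset.univ) = T (io 1) w0 := by
      rw [Phi_apply, Finset.sum_eq_single (1 : X)]
      · rw [mo_univ, if_pos rfl, one_smul]
      · intro x _ hx
        rw [mo_univ, if_neg hx, zero_smul]
      · intro h; exact absurd (Finset.mem_univ _) h
    have h2 := hspan3 (io 1) _ (hallm Finset.univ)
    rw [h1, hTT] at h2
    exact h2
  have hfull := htop _ hw0mem hspan3
  have hsurj : Function.Surjective (Fintype.linearCombination (ZMod 2) g) := by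
    rw [← LinearMap.range_eq_top, Fintype.range_linearCombination, hfull]
  have hle := Nat.card_le_card_of_surjective _ hsurj
  refine hle.trans ?_
  rw [Nat.card_eq_fintype_card, Fintype.card_fun, ZMod.card]
  have : Fintype.card I = 17 := by decide
  rw [this]

end Main

end Cfsg.Agent.H848.SpSixLin
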