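import Cfsg.Agent.H848.OctBase
import Cfsg.Agent.H848.NormFive
import Cfsg.Agent.H848.SetupFive
import Cfsg.Prelude.Def_Classical

/-!
# The elementary abelian subgroup of order 1024: definition, order, invariance

`T = C_G(pre h (W16 o))`.
-/

set_option autoImplicit false
set_option linter.unusedSectionVars false

open Cfsg

namespace Cfsg.Agent.H848.TenA

open Cfsg.Agent.SporadicA
open Cfsg.Agent.SporadicA.Co1Simple
open Cfsg.Agent.CoOneType.CoOneE (pr E)
open Cfsg.Agent.MonsterU.Lam2 (L2 cl cl_surjective bf qf bf_nondeg bf_comm add_self neg_eq IsType type_cases)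
open Cfsg.Agent.MonsterU.CoFrameL2
open Cfsg.Agent.MonsterU.CoFrameIrr
open Cfsg.Agent.MonsterU.AmalGen (pre mem_pre pre_mono pre_conj z_mem_pre EE bf_W12 pre_W1)
open Cfsg.Agent.MonsterU.AmalInf (AA mem_AA CA mem_CA conj_AA pi_CA_mem_E Einf exists_lift mem_EE_iff comm_AA)
open Cfsg.Agent.MonsterU.Ch
open Cfsg.Agent.H848.Dual (perp mem_perp card_perp perp_perp exists_bf perp_anti)
open Cfsg.Agent.H848.Oct
open Cfsg.Agent.H848.NormFive (mem_normalizer_of conj_z)
open Cfsg.Agent.H848.NormFour (card_pre)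
open Cfsg.Spor (Co1)

/-- the facts on the octad -/
structure Facts (o : golayCode) : Prop where
  f0_mem : f0 ∈ W8 o
  type8 : ∀ x ∈ W8 o, x = 0 ∨ IsType 2 x ∨ IsType 4 x
  hyp : ∃ b : (Fin 4 ⊕ Fin 4 → ZMod 2) ≃+ W8 o, ∀ v, q8 (b v : L2) = quadFormPlus 4 (ZMod 2) v
  frame : ∀ x ∈ W8 o, x ∈ W12 ↔ q8 (x + f0) = q8 x
  fix : ∀ g : Co1, (∀ x ∈ W16 o, x ∈ W12 → g • x = x) → g = 1 ∨ g = eps o
  nofix : ∀ x ∈ W12, (∀ g ∈ CO o, g • f0 = f0 → g • x + x ∈ W8 o) → x ∈ W8 o
  trans : ∀ x ∈ W8 o, IsType 4 x → ∃ g ∈ CO o, g • f0 = x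
  card : Nat.card (CO o) ≤ 135 * 2 ^ 11 * 322560

/-! ### the lattice modulo two -/

theorem zmod_cases : ∀ a : ZMod 2, a = 0 ∨ a = 1 := by decide

theorem perp_inf (U U' : AddSubgroup L2) : perp (U ⊓ U') = perp U ⊔ perp U' := by
  rw [← perp_perp (perp U ⊔ perp U')]
  congr 1
  apply le_antisymm
  · rintro x ⟨h1, h2⟩ u hu
    obtain ⟨a, ha, b, hb, rfl⟩ := AddSubgroup.mem_sup.1 hu
    rw [Cfsg.Agent.MonsterU.Lam2.bf_add_right, bf_comm x a, bf_comm x b, ha x h1, hb x h2, add_zero]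
  · have h1 := perp_anti (le_sup_left : perp U ≤ perp U ⊔ perp U')
    have h2 := perp_anti (le_sup_right : perp U' ≤ perp U ⊔ perp U')
    rw [perp_perp] at h1 h2
    exact le_inf h1 h2

theorem perp_W12 : perp W12 = W12 := by
  ext x
  exact ⟨fun hx => Cfsg.Agent.MonsterU.AmalGen.mem_W12_of_bf hx, fun hx u hu => bf_W12 hx hu⟩

section

variable {o : golayCode} (F : Facts o)
include F

theorem eps_ne : eps o ≠ 1 := by
  intro h1
  obtain ⟨x, hx⟩ := mem_W8.1 F.f0_mem
  rw [h1, one_smul, add_self] at hx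
  exact f0_ne hx.symm

theorem card_W8 : Nat.card (W8 o) = 2 ^ 8 := by
  obtain ⟨b, -⟩ := F.hyp
  rw [← Nat.card_congr b.toEquiv]
  simp

theorem card_W16 : Nat.card (W16 o) = 2 ^ 16 := by
  have h1 := card_perp (W8 o)
  rw [perp_W8, card_W8 F] at h1
  exact Nat.eq_of_mul_eq_mul_right (by norm_num : 0 < 2 ^ 8) (h1.trans (by norm_num))

theorem qf_W8 {x : L2} (hx : x ∈ W8 o) : qf x = 0 := by
  rcases F.type8 x hx with rfl | h2 | h4
  · have := Cfsg.Agent.MonsterU.Lam2.qf_add 0 0
    rw [add_zero, Cfsg.Agent.MonsterU.Lam2.bf_zero_left, add_zero] at this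
    exact left_eq_add.1 this
  · rw [qf_of_type h2]; rfl
  · rw [qf_of_type h4]; rfl

/-- the polar form with `f0` -/
theorem q8_zero : q8 0 = 0 := by
  rcases F.type8 _ F.f0_mem with h | h | h
  · exact absurd h f0_ne
  · unfold q8
    rw [if_neg]
    intro h0
    obtain ⟨g, hg⟩ := IsType.trans (Or.inl rfl) h0 h
    rw [smul_zero] at hg
    exact f0_ne hg.symm
  · unfold q8
    rw [if_neg]
    intro h0
    obtain ⟨b, hb⟩ := F.hyp
    have h1 := hb 0
    have h2 : quadFormPlus 4 (ZMod 2) 0 = 0 := by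
      unfold quadFormPlus
      simp
    rw [map_zero, h2] at h1
    have h3 : q8 (0 : L2) = 0 := h1
    unfold q8 at h3
    rw [if_pos h0] at h3
    exact one_ne_zero h3

theorem q8_f0 : q8 f0 = 0 := by
  have h1 := (F.frame 0 (W8 o).zero_mem).1 W12.zero_mem
  rw [zero_add, q8_zero F] at h1
  exact h1

/-- the form is quadratic -/
theorem q8_three {x y w : L2} (hx : x ∈ W8 o) (hy : y ∈ W8 o) (hw : w ∈ W8 o) :
    q8 (x + y + w) + q8 (x + y) + q8 w = (q8 (x + w) + q8 x + q8 w) + (q8 (y + w) + q8 y + q8 w) := by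
  obtain ⟨b, hb⟩ := F.hyp
  obtain ⟨u, hu⟩ := b.surjective ⟨x, hx⟩
  obtain ⟨v, hv⟩ := b.surjective ⟨y, hy⟩
  obtain ⟨t, ht⟩ := b.surjective ⟨w, hw⟩
  have hu' : (b u : L2) = x := congrArg Subtype.val hu
  have hv' : (b v : L2) = y := congrArg Subtype.val hv
  have ht' : (b t : L2) = w := congrArg Subtype.val ht
  have e1 : x + y + w = (b (u + v + t) : L2) := by
    rw [map_add, map_add, AddSubgroup.coe_add, AddSubgroup.coe_add, hu', hv', ht']
  have e2 : x + y = (b (u + v) : L2) := by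
    rw [map_add, AddSubgroup.coe_add, hu', hv']
  have e3 : x + w = (b (u + t) : L2) := by
    rw [map_add, AddSubgroup.coe_add, hu', ht']
  have e4 : y + w = (b (v + t) : L2) := by
    rw [map_add, AddSubgroup.coe_add, hv', ht']
  rw [e1, e2, e3, e4, ← hu', ← hv', ← ht', hb, hb, hb, hb, hb, hb, hb]
  unfold quadFormPlus
  simp only [Pi.add_apply, ← Finset.sum_add_distrib]
  apply Finset.sum_congr rfl
  intro i _
  generalize u (Sum.inl i) = a1
  generalize u (Sum.inr i) = a2
  generalize v (Sum.inl i) = b1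
  generalize v (Sum.inr i) = b2
  generalize t (Sum.inl i) = c1
  generalize t (Sum.inr i) = c2
  revert a1 a2 b1 b2 c1 c2
  decide

/-- the frame classes have index two -/
theorem add_mem_W12 {x y : L2} (hx : x ∈ W8 o) (hy : y ∈ W8 o) (hx' : x ∉ W12) (hy' : y ∉ W12) : x + y ∈ W12 := by
  rw [F.frame _ ((W8 o).add_mem hx hy)]
  have h1 := q8_three F hx hy F.f0_mem
  rw [F.frame _ hx] at hx'
  rw [F.frame _ hy] at hy'
  rw [q8_f0 F] at h1
  generalize q8 (x + y + f0) = a at h1 ⊢
  generalize q8 (x + y) = b at h1 ⊢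
  generalize q8 (x + f0) = c at h1 hx'
  generalize q8 x = d at h1 hx'
  generalize q8 (y + f0) = e at h1 hy'
  generalize q8 y = f at h1 hy'
  revert a b c d e f
  decide

/-- there is a class of type 4 outside the frame classes -/
theorem exists_out : ∃ x ∈ W8 o, IsType 4 x ∧ x ∉ W12 ∧ q8 x = 0 := by
  have h1 : ∃ x ∈ W8 o, x ∉ W12 := by
    obtain ⟨b, hb⟩ := F.hyp
    obtain ⟨u, hu⟩ := b.surjective ⟨f0, F.f0_mem⟩
    have hu' : (b u : L2) = f0 := congrArg Subtype.val hu
    have hune : u ≠ 0 := by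
      rintro rfl
      rw [map_zero] at hu'
      exact f0_ne hu'.symm
    -- a vector not orthogonal to `u`
    have h2 : ∃ v : Fin 4 ⊕ Fin 4 → ZMod 2, quadFormPlus 4 (ZMod 2) (v + u) + quadFormPlus 4 (ZMod 2) v ≠
        quadFormPlus 4 (ZMod 2) u := by
      obtain ⟨i, hi⟩ := Function.ne_iff.1 hune
      have hi1 : u i = 1 := (zmod_cases _).resolve_left hi
      rcases i with i | i
      · refine ⟨Pi.single (Sum.inr i) 1, fun h => ?_⟩
        unfold quadFormPlus at h
        rw [← Finset.sum_add_distrib] at h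
        have h3 : ∀ j, ((Pi.single (Sum.inr i) 1 : Fin 4 ⊕ Fin 4 → ZMod 2) + u) (Sum.inl j) *
            ((Pi.single (Sum.inr i) 1 : Fin 4 ⊕ Fin 4 → ZMod 2) + u) (Sum.inr j) +
            (Pi.single (Sum.inr i) 1 : Fin 4 ⊕ Fin 4 → ZMod 2) (Sum.inl j) *
              (Pi.single (Sum.inr i) 1 : Fin 4 ⊕ Fin 4 → ZMod 2) (Sum.inr j) =
            u (Sum.inl j) * u (Sum.inr j) + if j = i then 1 else 0 := by
          intro j
          rw [Pi.add_apply, Pi.add_apply, Pi.single_apply, Pi.single_apply, if_neg (by simp)]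
          by_cases hj : j = i
          · subst hj
            rw [if_pos rfl, if_pos rfl, hi1]
            generalize u (Sum.inr j) = a
            revert a; decide
          · rw [if_neg (by simpa using hj), if_neg hj]
            ring
        rw [Finset.sum_congr rfl fun j _ => h3 j, Finset.sum_add_distrib, Finset.sum_ite_eq',
          if_pos (Finset.mem_univ _)] at h
        exact one_ne_zero (left_eq_add.1 h.symm)
      · refine ⟨Pi.single (Sum.inl i) 1, fun h => ?_⟩
        unfold quadFormPlus at h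
        rw [← Finset.sum_add_distrib] at h
        have h3 : ∀ j, ((Pi.single (Sum.inl i) 1 : Fin 4 ⊕ Fin 4 → ZMod 2) + u) (Sum.inl j) *
            ((Pi.single (Sum.inl i) 1 : Fin 4 ⊕ Fin 4 → ZMod 2) + u) (Sum.inr j) +
            (Pi.single (Sum.inl i) 1 : Fin 4 ⊕ Fin 4 → ZMod 2) (Sum.inl j) *
              (Pi.single (Sum.inl i) 1 : Fin 4 ⊕ Fin 4 → ZMod 2) (Sum.inr j) =
            u (Sum.inl j) * u (Sum.inr j) + if j = i then 1 else 0 := by
          intro j
          rw [Pi.add_apply, Pi.add_apply, Pi.single_apply, Pi.single_apply, if_neg (c := (Sum.inr j : Fin 4 ⊕ Fin 4) = Sum.inl i) (by simp)]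
          by_cases hj : j = i
          · subst hj
            rw [if_pos rfl, if_pos rfl, hi1]
            generalize u (Sum.inl j) = a
            revert a; decide
          · rw [if_neg (by simpa using hj), if_neg hj]
            ring
        rw [Finset.sum_congr rfl fun j _ => h3 j, Finset.sum_add_distrib, Finset.sum_ite_eq',
          if_pos (Finset.mem_univ _)] at h
        exact one_ne_zero (left_eq_add.1 h.symm)
    obtain ⟨v, hv⟩ := h2
    refine ⟨b v, (b v).2, fun hw => hv ?_⟩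
    have h3 := (F.frame _ (b v).2).1 hw
    have h4 : (b v : L2) + f0 = (b (v + u) : L2) := by
      rw [map_add, AddSubgroup.coe_add, hu']
    rw [h4, hb, hb] at h3
    have h5 : quadFormPlus 4 (ZMod 2) u = 0 := by
      rw [← hb, hu', q8_f0 F]
    rw [h5, h3]
    exact CharTwo.add_self_eq_zero _
  obtain ⟨x, hx, hx'⟩ := h1
  -- `x` or `x + f0` is of type 4
  have key : ∀ x ∈ W8 o, x ∉ W12 → q8 x = 0 → IsType 4 x := by
    intro x hx hx' h0
    rcases F.type8 x hx with h | h | h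
    · exact absurd (h ▸ W12.zero_mem) hx'
    · unfold q8 at h0
      rw [if_pos h] at h0
      exact absurd h0 one_ne_zero
    · exact h
  rcases zmod_cases (q8 x) with h0 | h0
  · exact ⟨x, hx, key x hx hx' h0, hx', h0⟩
  · have h2 : x + f0 ∉ W12 := by
      intro h3
      apply hx'
      have h4 := W12.sub_mem h3 (W1_le_W12 f0_mem_W1)
      rwa [add_sub_cancel_right] at h4
    have h3 : q8 (x + f0) = 0 := by
      rw [F.frame x hx, h0] at hx'
      exact (zmod_cases _).resolve_right hx'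
    exact ⟨x + f0, (W8 o).add_mem hx F.f0_mem, key _ ((W8 o).add_mem hx F.f0_mem) h2 h3, h2, h3⟩

end

end Cfsg.Agent.H848.TenA
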