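import Cfsg.Agent.H848.TenA

/-!
# The elementary abelian subgroup of order 1024: order

`T = C_G(pre h (W16 o))` is elementary abelian of order 1024.
-/

set_option autoImplicit false
set_option linter.unusedSectionVars false

open Cfsg

namespace Cfsg.Agent.H848.TenB

open Cfsg.Agent.SporadicA
open Cfsg.Agent.SporadicA.Co1Simple
open Cfsg.Agent.CoOneType.CoOneE (pr E)
open Cfsg.Agent.MonsterU.Lam2 (L2 cl cl_surjective bf qf bf_nondeg bf_comm add_self neg_eq IsType type_cases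
  bf_add_left bf_add_right)
open Cfsg.Agent.MonsterU.CoFrameL2
open Cfsg.Agent.MonsterU.CoFrameIrr
open Cfsg.Agent.MonsterU.AmalGen (pre mem_pre pre_mono pre_conj z_mem_pre EE bf_W12 pre_W1)
open Cfsg.Agent.MonsterU.AmalInf (AA mem_AA CA mem_CA conj_AA pi_CA_mem_E Einf exists_lift mem_EE_iff comm_AA τy' τz'
  τzy τzy')
open Cfsg.Agent.MonsterU.Ch
open Cfsg.Agent.H848.Dual (perp mem_perp card_perp perp_perp exists_bf perp_anti)
open Cfsg.Agent.H848.Oct
open Cfsg.Agent.H848.TenA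
open Cfsg.Agent.H848.NormFive (mem_normalizer_of conj_z)
open Cfsg.Agent.H848.NormFour (card_pre)
open Cfsg.Spor (Co1)

variable {G : Type*} [Group G] {Q : Subgroup G} {z : G} {eta : G → L2}
  {pi : Subgroup.centralizer ({z} : Set G) →* Co1}

/-- powers of `z` -/
def zp (z : G) (a : ZMod 2) : G := if a = 0 then 1 else z

theorem zp_zero : zp z 0 = 1 := if_pos rfl

theorem zp_one : zp z 1 = z := if_neg one_ne_zero

section

variable (h : Chart Q z eta pi)
include h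

theorem zp_add (a b : ZMod 2) : zp z (a + b) = zp z a * zp z b := by
  have hz := h.large.z_sq
  rcases zmod_cases a with rfl | rfl <;> rcases zmod_cases b with rfl | rfl
  · rw [add_zero, zp_zero, mul_one]
  · rw [zero_add, zp_zero, one_mul]
  · rw [add_zero, zp_zero, mul_one]
  · have : (1 : ZMod 2) + 1 = 0 := by decide
    rw [this, zp_zero, zp_one, hz]

theorem zp_inj {a b : ZMod 2} (hab : zp z a = zp z b) : a = b := by
  have hz := h.large.z_ne
  rcases zmod_cases a with rfl | rfl <;> rcases zmod_cases b with rfl | rfl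
  · rfl
  · rw [zp_zero, zp_one] at hab
    exact absurd hab.symm hz
  · rw [zp_zero, zp_one] at hab
    exact absurd hab hz
  · rfl

theorem zp_mem (a : ZMod 2) (W : AddSubgroup L2) : zp z a ∈ pre h W := by
  unfold zp
  split_ifs
  · exact Subgroup.one_mem _
  · exact z_mem_pre h W

theorem zp_comm {q : G} (hq : q * z = z * q) (a : ZMod 2) : q * zp z a = zp z a * q := by
  unfold zp
  split_ifs
  · rw [mul_one, one_mul]
  · exact hq

theorem qz {q : G} (hq : q ∈ Q) : q * z = z * q := h.large.comm_z _ hq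

/-- functionals on the inverse image of a subspace -/
theorem exists_w (U : AddSubgroup L2) (μ : G → ZMod 2) (hμ : ∀ a ∈ pre h U, ∀ b ∈ pre h U, μ (a * b) = μ a + μ b)
    (hz : μ z = 0) : ∃ w : L2, ∀ e ∈ pre h U, bf w (eta e) = μ e := by
  choose s hs hse using h.eta_surj
  have hsE : ∀ u ∈ U, s u ∈ pre h U := fun u hu => ⟨hs u, by rw [hse]; exact hu⟩
  have hμs : ∀ e ∈ pre h U, μ e = μ (s (eta e)) := by
    intro e he
    rcases (h.eta_eq he.1 (hs (eta e))).1 (hse (eta e)).symm with h1 | h1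
    · rw [← h1]
    · conv_lhs => rw [h1]
      rw [hμ _ (hsE _ he.2) _ (z_mem_pre h U), hz, add_zero]
  let f : U →+ ZMod 2 := AddMonoidHom.mk' (fun u => μ (s u)) (by
    intro u v
    have h1 := hμs _ ((pre h U).mul_mem (hsE u u.2) (hsE v v.2))
    rw [h.eta_mul _ (hs _) _ (hs _), hse, hse, hμ _ (hsE u u.2) _ (hsE v v.2)] at h1
    exact h1.symm)
  obtain ⟨w, hw⟩ := exists_bf U f
  refine ⟨w, fun e he => ?_⟩
  rw [hμs e he]
  exact hw ⟨eta e, he.2⟩

/-- conjugation in `Q` -/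
theorem conj_Q {q e : G} (hq : q ∈ Q) (he : e ∈ Q) : q * e * q⁻¹ = e * zp z (bf (eta q) (eta e)) := by
  rcases zmod_cases (bf (eta q) (eta e)) with h2 | h2
  · rw [h2, zp_zero, mul_one, (h.comm_iff hq he).2 h2, mul_inv_cancel_right]
  · have h3 := (h.comm_z_iff hq he).2 h2
    have h5 := h.large.comm_z _ hq
    rw [h2, zp_one]
    calc q * e * q⁻¹ = e * (q * z) * q⁻¹ := by rw [h3]; group
      _ = e * z := by rw [h5]; group

/-- elements trivial on a subspace -/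
theorem exists_w_of_fix (U : AddSubgroup L2) (c : Subgroup.centralizer ({z} : Set G))
    (hc : ∀ x ∈ U, pi c • x = x) :
    ∃ w : L2, ∀ e ∈ pre h U, (c : G) * e * (c : G)⁻¹ = e * zp z (bf w (eta e)) := by
  classical
  have hcz : (c : G) * z = z * c := Subgroup.mem_centralizer_singleton_iff.1 c.2
  have h1 : ∀ e ∈ pre h U, ∃ a : ZMod 2, (c : G) * e * (c : G)⁻¹ = e * zp z a := by
    intro e he
    have hcQ := h.large.conj_mem c hcz e he.1
    rcases (h.eta_eq hcQ he.1).1 (by rw [h.eta_conj c e he.1]; exact hc _ he.2) with h2 | h2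
    · exact ⟨0, by rw [h2, zp_zero, mul_one]⟩
    · exact ⟨1, by rw [h2, zp_one]⟩
  let μ : G → ZMod 2 := fun e => if he : e ∈ pre h U then (h1 e he).choose else 0
  have hμ : ∀ e ∈ pre h U, (c : G) * e * (c : G)⁻¹ = e * zp z (μ e) := by
    intro e he
    have h2 : μ e = (h1 e he).choose := dif_pos he
    rw [h2]
    exact (h1 e he).choose_spec
  obtain ⟨w, hw⟩ := exists_w h U μ (by
    intro a ha b hb
    apply zp_inj h
    apply mul_left_cancel (a := a * b)
    rw [← hμ _ ((pre h U).mul_mem ha hb), zp_add h]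
    have h3 : (c : G) * (a * b) * (c : G)⁻¹ = ((c : G) * a * (c : G)⁻¹) * ((c : G) * b * (c : G)⁻¹) := by group
    rw [h3, hμ a ha, hμ b hb]
    have h4 := zp_comm h (qz h hb.1) (μ a)
    calc a * zp z (μ a) * (b * zp z (μ b)) = a * (zp z (μ a) * b) * zp z (μ b) := by group
      _ = a * b * (zp z (μ a) * zp z (μ b)) := by rw [← h4]; group) (by
    apply zp_inj h
    apply mul_left_cancel (a := z)
    rw [← hμ _ (z_mem_pre h U), hcz, mul_inv_cancel_right, zp_zero, mul_one])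
  refine ⟨w, fun e he => ?_⟩
  rw [hw e he]
  exact hμ e he

/-- membership of `W12` modulo a subspace -/
theorem exists_w12 {U : AddSubgroup L2} {w : L2} (hw : ∀ x ∈ U, x ∈ W12 → bf w x = 0) :
    ∃ v ∈ W12, ∀ x ∈ U, bf v x = bf w x := by
  have h1 : w ∈ perp (U ⊓ W12) := fun x hx => hw x hx.1 hx.2
  rw [perp_inf, perp_W12] at h1
  obtain ⟨a, ha, b, hb, rfl⟩ := AddSubgroup.mem_sup.1 h1
  refine ⟨b, hb, fun x hx => ?_⟩
  rw [bf_add_left, ha x hx, zero_add]

/-! ### the subgroup -/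

/-- the subgroup of order `2 ^ 10` -/
noncomputable abbrev T (o : golayCode) : Subgroup G := Subgroup.centralizer (pre h (W16 o) : Set G)

variable {o : golayCode}

theorem mem_T {c : G} : c ∈ T h o ↔ ∀ x ∈ pre h (W16 o), x * c = c * x := Subgroup.mem_centralizer_iff

theorem T_z {c : G} (hc : c ∈ T h o) : c * z = z * c := ((mem_T h).1 hc z (z_mem_pre h _)).symm

/-- elements of `Q` -/
theorem mem_T_Q {q : G} (hq : q ∈ Q) : q ∈ T h o ↔ eta q ∈ W8 o := by
  rw [mem_T, ← perp_W16, mem_perp]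
  constructor
  · intro h1 u hu
    obtain ⟨e, he, rfl⟩ := h.eta_surj u
    exact (h.comm_iff hq he).1 (h1 e ⟨he, hu⟩).symm
  · intro h1 e he
    exact ((h.comm_iff hq he.1).2 (h1 _ he.2)).symm

theorem pre_W8_le : pre h (W8 o) ≤ T h o := fun _ hq => (mem_T_Q h hq.1).2 hq.2

theorem mem_pre_W8 {q : G} (hq : q ∈ Q) (hqT : q ∈ T h o) : q ∈ pre h (W8 o) := ⟨hq, (mem_T_Q h hq).1 hqT⟩

theorem pre_W8_le_X : pre h (W8 o) ≤ pre h (W16 o) := pre_mono h (W8_le_W16 o)

/-- an element of the centraliser of `z` over the centraliser of the sign change normalises the subgroup -/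
theorem conj_T {c : Subgroup.centralizer ({z} : Set G)} (hc : pi c ∈ CO o) {t : G} (ht : t ∈ T h o) :
    (c : G) * t * (c : G)⁻¹ ∈ T h o := by
  rw [mem_T] at ht ⊢
  intro x hx
  have h1 : ((c⁻¹ : Subgroup.centralizer ({z} : Set G)) : G) * x * ((c⁻¹ : Subgroup.centralizer ({z} : Set G)) : G)⁻¹ ∈
      pre h (W16 o) := by
    refine pre_conj h c⁻¹ (fun u hu => ?_) hx
    rw [map_inv]
    exact CO_mem_W16 ((CO o).inv_mem hc) hu
  have h2 : (c : G)⁻¹ * x * c ∈ pre h (W16 o) := by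
    have e : ((c⁻¹ : Subgroup.centralizer ({z} : Set G)) : G) * x * ((c⁻¹ : Subgroup.centralizer ({z} : Set G)) : G)⁻¹ =
      (c : G)⁻¹ * x * c := by rw [Subgroup.coe_inv, inv_inv]
    rw [← e]; exact h1
  have h3 := ht _ h2
  calc x * ((c : G) * t * (c : G)⁻¹) = (c : G) * (((c : G)⁻¹ * x * c) * t) * (c : G)⁻¹ := by group
    _ = (c : G) * t * (c : G)⁻¹ * x := by rw [h3]; group

theorem Q_pi {q : G} (hq : q ∈ Q) : pi ⟨q, Subgroup.mem_centralizer_singleton_iff.2 (qz h hq)⟩ = 1 :=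
  (h.pi_eq_one _).2 hq

theorem conj_T_Q {q : G} (hq : q ∈ Q) {t : G} (ht : t ∈ T h o) : q * t * q⁻¹ ∈ T h o :=
  conj_T h (c := ⟨q, Subgroup.mem_centralizer_singleton_iff.2 (qz h hq)⟩) (by
    rw [Q_pi h hq]; exact (CO o).one_mem) ht

section

variable (F : Facts o)
include F

/-- elements commuting with `D` -/
theorem pi_of_comm {c : Subgroup.centralizer ({z} : Set G)}
    (hc : ∀ d ∈ pre h (W16 o ⊓ W12), (c : G) * d = d * c) : pi c = 1 ∨ pi c = eps o := by
  apply F.fix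
  intro x hx hx'
  obtain ⟨d, hd, rfl⟩ := h.eta_surj x
  rw [← h.eta_conj c d hd, hc d ⟨hd, hx, hx'⟩, mul_inv_cancel_right]

theorem pi_T {c : Subgroup.centralizer ({z} : Set G)} (hc : (c : G) ∈ T h o) : pi c = 1 ∨ pi c = eps o :=
  pi_of_comm h F fun d hd => ((mem_T h).1 hc d (pre_mono h inf_le_left hd)).symm

/-- two elements outside `Q` differ by an element of `Q` -/
theorem mul_mem_Q {a b : G} (ha : a ∈ T h o) (hb : b ∈ T h o) (haQ : a ∉ Q) (hbQ : b ∉ Q) : a * b ∈ Q := by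
  have ha' : a ∈ Subgroup.centralizer ({z} : Set G) := Subgroup.mem_centralizer_singleton_iff.2 (T_z h ha)
  have hb' : b ∈ Subgroup.centralizer ({z} : Set G) := Subgroup.mem_centralizer_singleton_iff.2 (T_z h hb)
  have h1 : pi ⟨a, ha'⟩ = eps o := (pi_T h F (c := ⟨a, ha'⟩) ha).resolve_left fun h1 => haQ ((h.pi_eq_one _).1 h1)
  have h2 : pi ⟨b, hb'⟩ = eps o := (pi_T h F (c := ⟨b, hb'⟩) hb).resolve_left fun h1 => hbQ ((h.pi_eq_one _).1 h1)
  have h3 : pi (⟨a, ha'⟩ * ⟨b, hb'⟩) = 1 := by rw [map_mul, h1, h2, eps_mul_eps]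
  exact (h.pi_eq_one _).1 h3

theorem sq_Q {q : G} (hq : q ∈ pre h (W8 o)) : q * q = 1 := (h.sq_one hq.1).2 (qf_W8 F hq.2)

section

variable {y τ : G} (hyQ : y ∈ Q) (hy : eta y = f0) (τz : τ * z * τ⁻¹ = y) (τy : τ * y * τ⁻¹ = z * y)
  (τE : ∀ e ∈ EE h, τ * e * τ⁻¹ * e⁻¹ ∈ pre h W1)
include hyQ hy τz τy τE

/-- `τ` leaves the inverse images between `W1` and `W12` invariant -/
theorem tau_pre {W : AddSubgroup L2} (h1 : W1 ≤ W) (h2 : W ≤ W12) {e : G} (he : e ∈ pre h W) :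
    τ * e * τ⁻¹ ∈ pre h W := by
  have h3 := τE e (pre_mono h h2 he)
  have h4 := (pre h W).mul_mem (pre_mono h h1 h3) he
  rwa [inv_mul_cancel_right] at h4

theorem tau_pre' [Finite G] {W : AddSubgroup L2} (h1 : W1 ≤ W) (h2 : W ≤ W12) {e : G} (he : e ∈ pre h W) :
    τ⁻¹ * e * τ ∈ pre h W := by
  have h3 : τ ∈ Subgroup.normalizer (pre h W : Set G) :=
    mem_normalizer_of fun e he => tau_pre h F hyQ hy τz τy τE h1 h2 he
  rw [Subgroup.mem_normalizer_iff] at h3
  refine (h3 _).2 ?_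
  have e1 : τ * (τ⁻¹ * e * τ) * τ⁻¹ = e := by group
  rw [e1]; exact he

omit hyQ hy τz τy τE in
theorem W1_le : W1 ≤ W8 o := by
  intro x hx
  rcases (mem_W1 _).1 hx with rfl | rfl
  · exact (W8 o).zero_mem
  · exact F.f0_mem

omit τE in
theorem y_mem_T : y ∈ pre h (W8 o) := ⟨hyQ, by rw [hy]; exact F.f0_mem⟩

/-- the conjugate by `τ` of an element outside `W12` -/
theorem tau_out [Finite G] {p : G} (hp : p ∈ pre h (W8 o)) (hp' : eta p ∉ W12) :
    τ * p * τ⁻¹ ∈ CA Q z τ ∧ τ * p * τ⁻¹ ∉ Q ∧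
      (∀ d ∈ pre h (W16 o ⊓ W12), τ * p * τ⁻¹ * d = d * (τ * p * τ⁻¹)) := by
  have e1 : τ⁻¹ * (τ * p * τ⁻¹) * τ = p := by group
  have hyT : y ∈ pre h (W8 o) := y_mem_T h F hyQ hy τz τy
  have hpy : p * y = y * p := ((mem_T h).1 (pre_W8_le h hp) y (pre_W8_le_X h hyT)).symm
  have hpz : p * z = z * p := qz h hp.1
  refine ⟨?_, ?_, ?_⟩
  · rw [mem_CA]
    refine ⟨by rw [e1]; exact hp.1, ?_⟩
    have h3 : p * (z * y) = z * y * p := by rw [← mul_assoc, hpz, mul_assoc, hpy, mul_assoc]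
    calc τ * p * τ⁻¹ * z = τ * p * τ⁻¹ * (τ * (z * y) * τ⁻¹) := by rw [τzy h hyQ hy τz τy]
      _ = τ * (p * (z * y)) * τ⁻¹ := by group
      _ = τ * (z * y * p) * τ⁻¹ := by rw [h3]
      _ = τ * (z * y) * τ⁻¹ * (τ * p * τ⁻¹) := by group
      _ = z * (τ * p * τ⁻¹) := by rw [τzy h hyQ hy τz τy]
  · intro hQ
    have h3 : τ * p * τ⁻¹ ∈ EE h := Einf h hyQ hy τz τy _ hQ (by rw [e1]; exact hp.1)
    apply hp'
    have h4 := tau_pre' h F hyQ hy τz τy τE W1_le_W12 le_rfl h3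
    rw [e1] at h4
    exact h4.2
  · intro d hd
    have h3 := tau_pre' h F hyQ hy τz τy τE (le_inf ((W1_le h F).trans (W8_le_W16 o)) W1_le_W12) inf_le_right hd
    have h4 := (mem_T h).1 (pre_W8_le h hp) _ (pre_mono h inf_le_left h3)
    calc τ * p * τ⁻¹ * d = τ * (p * (τ⁻¹ * d * τ)) * τ⁻¹ := by group
      _ = τ * (τ⁻¹ * d * τ * p) * τ⁻¹ := by rw [h4]
      _ = d * (τ * p * τ⁻¹) := by group

/-- **An element of the subgroup outside `Q`.** -/
theorem exists_t0 [Finite G] : ∃ t ∈ T h o, t ∈ CA Q z τ ∧ t ∉ Q ∧ (t * t = 1 ∨ t * t = y) := by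
  obtain ⟨x, hx8, -, hx12, -⟩ := exists_out F
  obtain ⟨p, hp, rfl⟩ := h.eta_surj x
  obtain ⟨h1, h2, h3⟩ := tau_out h F hyQ hy τz τy τE ⟨hp, hx8⟩ hx12
  set t' := τ * p * τ⁻¹ with ht'
  have hpi : pi ⟨t', h1.2⟩ = eps o :=
    (pi_of_comm h F (c := ⟨t', h1.2⟩) h3).resolve_left fun h4 => h2 ((h.pi_eq_one _).1 h4)
  obtain ⟨w, hw⟩ := exists_w_of_fix h (W16 o) ⟨t', h1.2⟩ (fun x hx => by rw [hpi]; exact hx)
  obtain ⟨v, hv, hvw⟩ := exists_w12 h (U := W16 o) (w := w) (by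
    intro x hx hx'
    obtain ⟨d, hd, rfl⟩ := h.eta_surj x
    have h4 := hw d ⟨hd, hx⟩
    have h5 := h3 d ⟨hd, hx, hx'⟩
    have h6 : t' * d * t'⁻¹ = d := by rw [h5, mul_inv_cancel_right]
    apply zp_inj h
    apply mul_left_cancel (a := d)
    rw [← h4, zp_zero, mul_one]
    exact h6)
  obtain ⟨e, he, rfl⟩ := h.eta_surj v
  have heE : e ∈ EE h := ⟨he, hv⟩
  have heA : e ∈ AA Q τ := ((mem_EE_iff h hyQ hy τz τy).1 heE).2
  have htA : t' * e ∈ AA Q τ := Subgroup.mul_mem _ h1.1 heA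
  refine ⟨t' * e, ?_, ⟨htA, ?_⟩, ?_, ?_⟩
  · rw [mem_T]
    intro x hx
    have h4 := hw x hx
    have h5 := conj_Q h he hx.1
    rw [hvw _ hx.2] at h5
    have h6 : t' * e * x * (t' * e)⁻¹ = x := by
      calc t' * e * x * (t' * e)⁻¹ = t' * (e * x * e⁻¹) * t'⁻¹ := by group
        _ = t' * (x * zp z (bf w (eta x))) * t'⁻¹ := by rw [h5]
        _ = (t' * x * t'⁻¹) * (t' * zp z (bf w (eta x)) * t'⁻¹) := by group
        _ = (t' * x * t'⁻¹) * zp z (bf w (eta x)) := by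
          rw [zp_comm h (Subgroup.mem_centralizer_singleton_iff.1 h1.2), mul_inv_cancel_right]
        _ = x * (zp z (bf w (eta x)) * zp z (bf w (eta x))) := by
          have h7 : t' * x * t'⁻¹ = x * zp z (bf w (eta x)) := h4
          rw [h7, mul_assoc]
        _ = x := by
          rw [← zp_add h, CharTwo.add_self_eq_zero, zp_zero, mul_one]
    exact (mul_inv_eq_iff_eq_mul.1 h6).symm
  · exact Subgroup.mul_mem _ h1.2 (Subgroup.mem_centralizer_singleton_iff.2 (qz h he))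
  · intro h4
    apply h2
    have h5 := Q.mul_mem h4 (Q.inv_mem he)
    rwa [mul_inv_cancel_right] at h5
  · -- the square
    have h4 : τ⁻¹ * (t' * e) * τ ∈ Q := mem_AA.1 htA
    have h5 : ∀ a : G, a ∈ Q → a * a = 1 ∨ a * a = z := by
      intro a ha
      rcases zmod_cases (qf (eta a)) with h6 | h6
      · exact Or.inl ((h.sq_one ha).2 h6)
      · exact Or.inr ((h.sq_z ha).2 h6)
    have e2 : t' * e * (t' * e) = τ * (τ⁻¹ * (t' * e) * τ * (τ⁻¹ * (t' * e) * τ)) * τ⁻¹ := by group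
    rw [e2]
    rcases h5 _ h4 with h6 | h6
    · left; rw [h6]; group
    · right; rw [h6, τz]

/-- the squares -/
theorem sq_T [Finite G] {t : G} (ht : t ∈ T h o) : t * t = 1 := by
  by_cases htQ : t ∈ Q
  · exact sq_Q h F (mem_pre_W8 h htQ ht)
  obtain ⟨t0, ht0, -, ht0Q, hsq⟩ := exists_t0 h F hyQ hy τz τy τE
  -- all the elements outside `Q` have the same square
  have key : ∀ s ∈ T h o, s ∉ Q → s * s = t0 * t0 := by
    intro s hs hsQ
    have h1 := mul_mem_Q h F ht0 hs ht0Q hsQ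
    have h2 : t0 * s ∈ pre h (W8 o) := mem_pre_W8 h h1 (Subgroup.mul_mem _ ht0 hs)
    have h3 := sq_Q h F h2
    have h4 : t0 * (t0 * s) = t0 * s * t0 := ((mem_T h).1 ht0 _ (pre_W8_le_X h h2)).symm
    have h5 : s * t0 = t0 * s := by
      have h6 : t0 * (t0 * s) = t0 * (s * t0) := by rw [h4]; group
      exact (mul_left_cancel h6).symm
    have h6 : s * s * (t0 * t0) = 1 := by
      calc s * s * (t0 * t0) = s * (s * t0) * t0 := by group
        _ = s * (t0 * s) * t0 := by rw [h5]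
        _ = (s * t0) * (s * t0) := by group
        _ = 1 := by rw [h5, h3]
    have h7 : t0 * t0 * (t0 * t0) = 1 := by
      have hy2 : y * y = 1 := Cfsg.Agent.MonsterU.AmalInf.y_sq h hyQ hy τz τy
      rcases hsq with h8 | h8 <;> rw [h8]
      · rw [mul_one]
      · exact hy2
    exact mul_right_cancel (h6.trans h7.symm)
  rw [key t ht htQ]
  rcases hsq with h1 | h1
  · exact h1
  exfalso
  -- an element moving `f0`
  obtain ⟨x, hx8, hx4, hx12, -⟩ := exists_out F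
  obtain ⟨g, hg, hgx⟩ := F.trans x hx8 hx4
  obtain ⟨c, rfl⟩ := h.pi_surj g
  have hcz : (c : G) * z = z * c := Subgroup.mem_centralizer_singleton_iff.1 c.2
  have h2 := conj_T h hg ht0
  have h3 : (c : G) * t0 * (c : G)⁻¹ ∉ Q := by
    intro h4
    apply ht0Q
    have h5 := h.large.conj_mem (c : G)⁻¹ (by
      rw [inv_mul_eq_iff_eq_mul, ← mul_assoc, hcz, mul_inv_cancel_right]) _ h4
    have e : (c : G)⁻¹ * ((c : G) * t0 * (c : G)⁻¹) * (c : G)⁻¹⁻¹ = t0 := by group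
    rwa [e] at h5
  have h4 := key _ h2 h3
  have e2 : (c : G) * t0 * (c : G)⁻¹ * ((c : G) * t0 * (c : G)⁻¹) = (c : G) * (t0 * t0) * (c : G)⁻¹ := by group
  rw [e2, h1] at h4
  have h5 := h.eta_conj c y hyQ
  rw [h4, hy, hgx] at h5
  exact hx12 (h5 ▸ W1_le_W12 f0_mem_W1)

theorem ab_T [Finite G] {a b : G} (ha : a ∈ T h o) (hb : b ∈ T h o) : a * b = b * a := by
  have h1 := sq_T h F hyQ hy τz τy τE ha
  have h2 := sq_T h F hyQ hy τz τy τE hb
  have h3 := sq_T h F hyQ hy τz τy τE (Subgroup.mul_mem _ ha hb)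
  have h4 : (a * b)⁻¹ = a * b := inv_eq_of_mul_eq_one_left h3
  have h6 : a⁻¹ = a := inv_eq_of_mul_eq_one_left h1
  have h7 : b⁻¹ = b := inv_eq_of_mul_eq_one_left h2
  rw [← h4, mul_inv_rev, h6, h7]

/-- **The order.** -/
theorem card_T [Finite G] : Nat.card (T h o) = 2 ^ 10 := by
  obtain ⟨t0, ht0, -, ht0Q, hsq⟩ := exists_t0 h F hyQ hy τz τy τE
  let f : T h o →* Co1 := pi.comp (Subgroup.inclusion (fun t ht =>
    Subgroup.mem_centralizer_singleton_iff.2 (T_z h ht) : T h o ≤ Subgroup.centralizer ({z} : Set G)))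
  have hf : ∀ t : T h o, f t = 1 ↔ (t : G) ∈ Q := fun t => h.pi_eq_one _
  have h1 := f.ker.card_mul_index
  have h2 : Nat.card f.ker = 2 ^ 9 := by
    have h3 := card_pre h (W8 o)
    rw [card_W8 F] at h3
    have h4 : (2 : ℕ) * 2 ^ 8 = 2 ^ 9 := by norm_num
    rw [← h4, ← h3]
    exact Nat.card_congr
      { toFun := fun x => ⟨((x : T h o) : G), mem_pre_W8 h ((hf _).1 x.2) (x : T h o).2⟩
        invFun := fun q => ⟨⟨q, pre_W8_le h q.2⟩, (hf _).2 q.2.1⟩
        left_inv := fun s => rfl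
        right_inv := fun s => rfl }
  have h3 : Nat.card f.range = 2 := by
    have h4 : f.range = Subgroup.zpowers (eps o) := by
      apply le_antisymm
      · rintro _ ⟨t, rfl⟩
        rcases pi_T h F (c := ⟨t, Subgroup.mem_centralizer_singleton_iff.2 (T_z h t.2)⟩) t.2 with h5 | h5
        · have h6 : f t = 1 := h5
          rw [h6]; exact Subgroup.one_mem _
        · have h6 : f t = eps o := h5
          rw [h6]; exact Subgroup.mem_zpowers _
      · rw [Subgroup.zpowers_le]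
        refine ⟨⟨t0, ht0⟩, ?_⟩
        exact (pi_T h F (c := ⟨t0, Subgroup.mem_centralizer_singleton_iff.2 (T_z h ht0)⟩) ht0).resolve_left
          fun h5 => ht0Q ((h.pi_eq_one _).1 h5)
    rw [h4, Nat.card_zpowers]
    exact orderOf_eq_prime (by rw [pow_two]; exact eps_mul_eps o) (eps_ne F)
  rw [Subgroup.index_ker, h2, h3] at h1
  rw [← h1]
  norm_num

end

end

end

end Cfsg.Agent.H848.TenB
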