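import Cfsg.Agent.H848.TenC
import Cfsg.Agent.MonsterU.Fused

/-!
# The elementary abelian subgroup of order 1024: the quadratic form
-/

set_option autoImplicit false
set_option linter.unusedSectionVars false

open Cfsg

namespace Cfsg.Agent.H848.TenD

open Cfsg.Agent.SporadicA
open Cfsg.Agent.SporadicA.Co1Simple
open Cfsg.Agent.CoOneType.CoOneE (pr E)
open Cfsg.Agent.MonsterU.Lam2 (L2 cl cl_surjective bf qf bf_nondeg bf_comm add_self neg_eq IsType type_cases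
  bf_add_left bf_add_right)
open Cfsg.Agent.MonsterU.CoFrameL2
open Cfsg.Agent.MonsterU.CoFrameIrr
open Cfsg.Agent.MonsterU.AmalGen (pre mem_pre pre_mono pre_conj z_mem_pre EE bf_W12 pre_W1)
open Cfsg.Agent.MonsterU.AmalInf (AA mem_AA CA mem_CA conj_AA pi_CA_mem_E Einf exists_lift mem_EE_iff comm_AA τy' τz'
  τzy τzy')
open Cfsg.Agent.MonsterU.Ch
open Cfsg.Agent.H848.Dual (perp mem_perp card_perp perp_perp exists_bf perp_anti)
open Cfsg.Agent.H848.Oct
open Cfsg.Agent.H848.TenA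
open Cfsg.Agent.H848.TenB
open Cfsg.Agent.H848.TenC
open Cfsg.Agent.H848.NormFive (mem_normalizer_of conj_z)
open Cfsg.Agent.H848.NormFour (card_pre)
open Cfsg.Spor (Co1)

variable {G : Type*} [Group G] {Q : Subgroup G} {z : G} {eta : G → L2}
  {pi : Subgroup.centralizer ({z} : Set G) →* Co1}

open Classical in
/-- the characteristic function of the elements not conjugate to `z` -/
noncomputable def kap (z e : G) : ZMod 2 := if e = 1 ∨ ∃ g, g * z * g⁻¹ = e then 0 else 1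

theorem kap_eq_zero {e : G} : kap z e = 0 ↔ e = 1 ∨ ∃ g, g * z * g⁻¹ = e := by
  classical
  unfold kap
  split_ifs with h1
  · exact ⟨fun _ => h1, fun _ => rfl⟩
  · exact ⟨fun h => absurd h one_ne_zero, fun h => absurd h h1⟩

theorem kap_one : kap z (1 : G) = 0 := kap_eq_zero.2 (Or.inl rfl)

theorem kap_z : kap z z = 0 := kap_eq_zero.2 (Or.inr ⟨1, by group⟩)

theorem zmod_eq_of_iff {a b : ZMod 2} (h : a = 0 ↔ b = 0) : a = b := by
  revert a b; decide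

theorem kap_conj (g e : G) : kap z (g * e * g⁻¹) = kap z e := by
  apply zmod_eq_of_iff
  rw [kap_eq_zero, kap_eq_zero]
  constructor
  · rintro (h1 | ⟨k, h1⟩)
    · left
      have h2 : e = g⁻¹ * (g * e * g⁻¹) * g := by group
      rw [h2, h1]; group
    · right
      refine ⟨g⁻¹ * k, ?_⟩
      have h2 : e = g⁻¹ * (g * e * g⁻¹) * g := by group
      rw [h2, ← h1]; group
  · rintro (h1 | ⟨k, h1⟩)
    · left; rw [h1]; group
    · right
      exact ⟨g * k, by rw [← h1]; group⟩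

section

variable (h : Chart Q z eta pi) {o : golayCode} (F : Facts o)
  {y τ : G} (hyQ : y ∈ Q) (hy : eta y = f0) (τz : τ * z * τ⁻¹ = y) (τy : τ * y * τ⁻¹ = z * y)
  (τE : ∀ e ∈ EE h, τ * e * τ⁻¹ * e⁻¹ ∈ pre h W1)
include h F hyQ hy τz τy τE

theorem kap_pre [Finite G] {p : G} (hp : p ∈ pre h (W8 o)) : kap z p = q8 (eta p) := by
  have hq0 := q8_zero F
  by_cases h2 : IsType 2 (eta p)
  · have h3 : q8 (eta p) = 1 := by unfold q8; exact if_pos h2
    have h0 : eta p ≠ 0 := by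
      intro h0
      rw [h0, hq0] at h3
      exact zero_ne_one h3
    rw [h3]
    refine (zmod_cases _).resolve_left fun h4 => ?_
    rcases kap_eq_zero.1 h4 with h5 | ⟨g, h5⟩
    · apply h0
      rw [h5, h.eta_one]
    · have h6 : g * z * g⁻¹ ∈ Q := by rw [h5]; exact hp.1
      have h7 : g * z * g⁻¹ ≠ z := by
        intro h7
        apply h0
        rw [← h5, h7, h.eta_z]
      have h8 := Cfsg.Agent.MonsterU.Fused.not_type_two h h6 h7
      rw [h5] at h8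
      exact h8 h2
  · have h3 : q8 (eta p) = 0 := by unfold q8; exact if_neg h2
    rw [h3, kap_eq_zero]
    rcases F.type8 _ hp.2 with h4 | h4 | h4
    · rcases (h.eta_zero p hp.1).1 h4 with h5 | h5
      · exact Or.inl h5
      · exact Or.inr ⟨1, by rw [h5]; group⟩
    · exact absurd h4 h2
    · obtain ⟨g, -, hg, -⟩ := conj_of_type_four h F hyQ hy τz τy τE hp h4
      exact Or.inr ⟨g, hg⟩

/-- **The element opposite to `z`.** -/
theorem exists_t1 [Finite G] : ∃ t ∈ T h o, t ∉ Q ∧ (∃ g ∈ N h o, g * z * g⁻¹ = t) ∧ kap z t = 0 ∧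
    kap z (t * z) = 1 := by
  obtain ⟨x, hx8, hx4, hx12, hxq⟩ := exists_out F
  obtain ⟨p, hp, rfl⟩ := h.eta_surj x
  have hpT : p ∈ pre h (W8 o) := ⟨hp, hx8⟩
  obtain ⟨g, hg, hgp, c, hc, hcz, hcp, hgc⟩ := conj_of_type_four h F hyQ hy τz τy τE hpT hx4
  have hτN := tau_mem_N h F hyQ hy τz τy τE
  obtain ⟨h1, h2, -⟩ := tau_out h F hyQ hy τz τy τE hpT hx12
  have h3 : ∃ g ∈ N h o, g * z * g⁻¹ = τ * p * τ⁻¹ := by
    refine ⟨τ * g, (N h o).mul_mem hτN hg, ?_⟩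
    rw [← hgp]; group
  refine ⟨τ * p * τ⁻¹, conj_N h hτN (pre_W8_le h hpT), h2, h3, ?_, ?_⟩
  · obtain ⟨k, -, hk⟩ := h3
    exact kap_eq_zero.2 (Or.inr ⟨k, hk⟩)
  · have h4 : τ * p * τ⁻¹ * z = τ * (p * (τ⁻¹ * z * τ)) * τ⁻¹ := by group
    have hzy : z * y ∈ pre h (W8 o) :=
      Subgroup.mul_mem _ (z_mem_pre h _) (y_mem_T h F hyQ hy τz τy)
    rw [h4, kap_conj, τz' h hyQ hy τz τy, kap_pre h F hyQ hy τz τy τE (Subgroup.mul_mem _ hpT hzy),
      h.eta_mul _ hp _ hzy.1, h.eta_mul _ h.large.z_mem _ hyQ, h.eta_z, zero_add, hy]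
    rw [F.frame _ hx8, hxq] at hx12
    exact (zmod_cases _).resolve_left hx12

/-- the elements outside `Q` -/
theorem Q_orbit [Finite G] {t r : G} (ht : t ∈ T h o) (htQ : t ∉ Q) (hr : r ∈ T h o) (hrQ : r ∉ Q) :
    ∃ q ∈ Q, q * t * q⁻¹ = r ∨ q * t * q⁻¹ = r * z := by
  have h1 : t⁻¹ = t := inv_eq_of_mul_eq_one_left (sq_T h F hyQ hy τz τy τE ht)
  have h2 : r * t ∈ Q := mul_mem_Q h F hr ht hrQ htQ
  have h3 : r * t ∈ pre h (W8 o) := mem_pre_W8 h h2 (Subgroup.mul_mem _ hr ht)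
  obtain ⟨x, hx⟩ := mem_W8.1 h3.2
  obtain ⟨q, hq, rfl⟩ := h.eta_surj x
  have htz : t ∈ Subgroup.centralizer ({z} : Set G) := Subgroup.mem_centralizer_singleton_iff.2 (T_z h ht)
  have hpi : pi ⟨t, htz⟩ = eps o :=
    (pi_T h F (c := ⟨t, htz⟩) ht).resolve_left fun h2 => htQ ((h.pi_eq_one _).1 h2)
  have h4 : t * q⁻¹ * t⁻¹ ∈ Q := h.large.conj_mem t (T_z h ht) _ (Q.inv_mem hq)
  have h5 : eta (t * q⁻¹ * t⁻¹) = eps o • eta q := by
    have h6 := h.eta_conj ⟨t, htz⟩ q⁻¹ (Q.inv_mem hq)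
    rw [hpi, h.eta_inv hq] at h6
    exact h6
  have h6 : eta (q * (t * q⁻¹ * t⁻¹)) = eta (r * t) := by
    rw [h.eta_mul q hq _ h4, h5, ← hx, add_comm]
  refine ⟨q, hq, ?_⟩
  have h7 : q * t * q⁻¹ = q * (t * q⁻¹ * t⁻¹) * t := by group
  have h8 : r = r * t * t := by
    have h9 := sq_T h F hyQ hy τz τy τE ht
    rw [mul_assoc, h9, mul_one]
  rcases (h.eta_eq (Q.mul_mem hq h4) h2).1 h6 with h9 | h9
  · left
    rw [h7, h9, ← h8]
  · right
    rw [h7, h9, mul_assoc (r * t), ← T_z h ht, ← mul_assoc, ← h8]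

/-- the functional of `z` -/
noncomputable def nu (Q : Subgroup G) (r : G) : ZMod 2 := open Classical in if r ∈ Q then 0 else 1

omit h F hyQ hy τz τy τE in
theorem nu_eq_zero {r : G} : nu Q r = 0 ↔ r ∈ Q := by
  classical
  unfold nu
  split_ifs with h1
  · exact ⟨fun _ => h1, fun _ => rfl⟩
  · exact ⟨fun h => absurd h one_ne_zero, fun h => absurd h h1⟩

theorem nu_mul [Finite G] {r s : G} (hr : r ∈ T h o) (hs : s ∈ T h o) : nu Q (r * s) = nu Q r + nu Q s := by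
  have key : ∀ a b c : ZMod 2, ((a = 0 → (c = 0 ↔ b = 0)) ∧ (b = 0 → (c = 0 ↔ a = 0)) ∧ (a ≠ 0 → b ≠ 0 → c = 0)) →
      c = a + b := by decide
  apply key
  rw [Ne, Ne, nu_eq_zero, nu_eq_zero, nu_eq_zero]
  exact ⟨fun h1 => Subgroup.mul_mem_cancel_left _ h1, fun h1 => Subgroup.mul_mem_cancel_right _ h1,
    fun h1 h2 => mul_mem_Q h F hr hs h1 h2⟩

theorem kap_mul_z [Finite G] {r : G} (hr : r ∈ T h o) : kap z (r * z) = kap z r + nu Q r := by
  by_cases hrQ : r ∈ Q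
  · have h1 := mem_pre_W8 h hrQ hr
    rw [nu_eq_zero.2 hrQ, add_zero, kap_pre h F hyQ hy τz τy τE h1,
      kap_pre h F hyQ hy τz τy τE (Subgroup.mul_mem _ h1 (z_mem_pre h _)), h.eta_mul _ hrQ _ h.large.z_mem,
      h.eta_z, add_zero]
  · have h1 : nu Q r = 1 := (zmod_cases _).resolve_left fun h2 => hrQ (nu_eq_zero.1 h2)
    obtain ⟨t, ht, htQ, -, hk, hkz⟩ := exists_t1 h F hyQ hy τz τy τE
    obtain ⟨q, hq, hqr⟩ := Q_orbit h F hyQ hy τz τy τE ht htQ hr hrQ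
    have hz2 := h.large.z_sq
    have h5 : q * z * q⁻¹ = z := by rw [h.large.comm_z _ hq]; group
    have h3 : kap z (q * t * q⁻¹) = 0 := by rw [kap_conj, hk]
    have h4 : kap z (q * t * q⁻¹ * z) = 1 := by
      have h6 : q * t * q⁻¹ * z = q * (t * z) * q⁻¹ := by
        conv_lhs => rw [← h5]
        group
      rw [h6, kap_conj, hkz]
    rw [h1]
    rcases hqr with h7 | h7
    · rw [h7] at h3 h4
      rw [h3, h4, zero_add]
    · rw [h7] at h3 h4
      rw [mul_assoc, hz2, mul_one] at h4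
      rw [h3, h4]
      decide

/-- **The functional of the opposite element.** -/
theorem exists_mu [Finite G] : ∃ t ∈ T h o, t ∉ Q ∧ (∃ g ∈ N h o, g * z * g⁻¹ = t) ∧ kap z t = 0 ∧
    ∃ μ : G → ZMod 2, (∀ r ∈ T h o, ∀ s ∈ T h o, μ (r * s) = μ r + μ s) ∧
      (∀ r ∈ T h o, kap z (r * t) = kap z r + μ r) ∧ μ z = 1 ∧ μ t = 0 := by
  obtain ⟨t, ht, htQ, ⟨g, hg, hgt⟩, hk, hkz⟩ := exists_t1 h F hyQ hy τz τy τE
  have hg' : ∀ r ∈ T h o, g⁻¹ * r * g ∈ T h o := by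
    intro r hr
    have h1 := conj_N h ((N h o).inv_mem hg) hr
    rwa [inv_inv] at h1
  have hμ : ∀ r ∈ T h o, kap z (r * t) = kap z r + nu Q (g⁻¹ * r * g) := by
    intro r hr
    have h1 := kap_mul_z h F hyQ hy τz τy τE (hg' r hr)
    have h2 : r * t = g * (g⁻¹ * r * g * z) * g⁻¹ := by rw [← hgt]; group
    have h3 : kap z (g⁻¹ * r * g) = kap z r := by
      have h4 := kap_conj (z := z) g⁻¹ r
      rwa [inv_inv] at h4
    rw [h2, kap_conj, h1, h3]
  refine ⟨t, ht, htQ, ⟨g, hg, hgt⟩, hk, fun r => nu Q (g⁻¹ * r * g), ?_, hμ, ?_, ?_⟩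
  · intro r hr s hs
    have h1 := nu_mul h F hyQ hy τz τy τE (hg' r hr) (hg' s hs)
    have h2 : g⁻¹ * (r * s) * g = g⁻¹ * r * g * (g⁻¹ * s * g) := by group
    show nu Q (g⁻¹ * (r * s) * g) = _
    rw [h2, h1]
  · have hzT : z ∈ T h o := pre_W8_le h (z_mem_pre h _)
    have h1 := hμ z hzT
    have h2 : z * t = t * z := (T_z h ht).symm
    rw [h2, hkz, kap_z, zero_add] at h1
    exact h1.symm
  · have h1 := hμ t ht
    rw [sq_T h F hyQ hy τz τy τE ht, kap_one, hk, zero_add] at h1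
    exact h1.symm

end

end Cfsg.Agent.H848.TenD
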