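import Cfsg.Agent.H848.TenD

/-!
# The elementary abelian subgroup of order 1024: coordinates
-/

set_option autoImplicit false
set_option linter.unusedSectionVars false

open Cfsg

namespace Cfsg.Agent.H848.TenE

open Cfsg.Agent.SporadicA
open Cfsg.Agent.SporadicA.Co1Simple
open Cfsg.Agent.MonsterU.Lam2 (L2 cl cl_surjective bf qf bf_nondeg bf_comm add_self neg_eq IsType type_cases
  bf_add_left bf_add_right)
open Cfsg.Agent.MonsterU.CoFrameL2
open Cfsg.Agent.MonsterU.CoFrameIrr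
open Cfsg.Agent.MonsterU.AmalGen (pre mem_pre pre_mono pre_conj z_mem_pre EE bf_W12 pre_W1)
open Cfsg.Agent.MonsterU.Ch
open Cfsg.Agent.H848.Oct
open Cfsg.Agent.H848.TenA
open Cfsg.Agent.H848.TenB
open Cfsg.Agent.H848.TenC
open Cfsg.Agent.H848.TenD
open Cfsg.Spor (Co1)

/-- the space -/
abbrev V5 := Fin 5 ⊕ Fin 5 → ZMod 2

/-- the restriction to the last coordinates -/
def res (v : V5) : Fin 4 ⊕ Fin 4 → ZMod 2 := fun i => v (Sum.map Fin.succ Fin.succ i)

theorem res_add (v w : V5) : res (v + w) = res v + res w := rfl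

theorem plus_res (v : V5) : quadFormPlus 5 (ZMod 2) v =
    v (Sum.inl 0) * v (Sum.inr 0) + quadFormPlus 4 (ZMod 2) (res v) := by
  unfold quadFormPlus
  rw [Fin.sum_univ_succ]
  rfl

variable {G : Type*} [Group G] {Q : Subgroup G} {z : G} {eta : G → L2}
  {pi : Subgroup.centralizer ({z} : Set G) →* Co1}

theorem zp_add' {t : G} (ht : t * t = 1) (a b : ZMod 2) : zp t (a + b) = zp t a * zp t b := by
  rcases zmod_cases a with rfl | rfl <;> rcases zmod_cases b with rfl | rfl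
  · rw [add_zero, zp_zero, mul_one]
  · rw [zero_add, zp_zero, one_mul]
  · rw [add_zero, zp_zero, mul_one]
  · have : (1 : ZMod 2) + 1 = 0 := by decide
    rw [this, zp_zero, zp_one, ht]

/-- coordinates -/
structure Crd (h : Chart Q z eta pi) (o : golayCode) (t : G) (ι : V5 → G) : Prop where
  inj : Function.Injective ι
  add : ∀ x y, ι (x + y) = ι x * ι y
  mem : ∀ g, g ∈ T h o ↔ ∃ x, ι x = g
  kap : ∀ v, kap z (ι v) = quadFormPlus 5 (ZMod 2) v
  nu : ∀ v, nu Q (ι v) = v (Sum.inr 0)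
  he : ι (Pi.single (Sum.inl 0) 1) = z
  hf : ι (Pi.single (Sum.inr 0) 1) = t

section

variable (h : Chart Q z eta pi) {o : golayCode} (F : Facts o)
  {y τ : G} (hyQ : y ∈ Q) (hy : eta y = f0) (τz : τ * z * τ⁻¹ = y) (τy : τ * y * τ⁻¹ = z * y)
  (τE : ∀ e ∈ EE h, τ * e * τ⁻¹ * e⁻¹ ∈ pre h W1)
include h F hyQ hy τz τy τE

theorem exists_crd [Finite G] : ∃ t ∈ T h o, t ∉ Q ∧ (∃ g ∈ N h o, g * z * g⁻¹ = t) ∧ TenD.kap z (t * z) = 1 ∧
    ∃ ι : V5 → G, Crd h o t ι := by
  obtain ⟨t, ht, htQ, hgt, hkt, μ, hμ, hkμ, hμz, hμt⟩ := exists_mu h F hyQ hy τz τy τE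
  have hz2 : z * z = 1 := h.large.z_sq
  have hzQ : z ∈ Q := h.large.z_mem
  have hzT : z ∈ T h o := pre_W8_le h (z_mem_pre h _)
  have ht2 : t * t = 1 := sq_T h F hyQ hy τz τy τE ht
  have hab : ∀ a ∈ T h o, ∀ b ∈ T h o, a * b = b * a := fun a ha b hb => ab_T h F hyQ hy τz τy τE ha hb
  have hμ1 : μ 1 = 0 := by
    have h1 := hμ 1 (Subgroup.one_mem _) 1 (Subgroup.one_mem _)
    rw [mul_one] at h1
    exact left_eq_add.1 h1
  -- the section
  have hsec : ∀ w : W8 o, ∃ p ∈ pre h (W8 o), eta p = w ∧ μ p = 0 := by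
    intro w
    obtain ⟨p, hp, hpw⟩ := h.eta_surj w
    have hp8 : p ∈ pre h (W8 o) := ⟨hp, by rw [hpw]; exact w.2⟩
    rcases zmod_cases (μ p) with h0 | h0
    · exact ⟨p, hp8, hpw, h0⟩
    · refine ⟨p * z, Subgroup.mul_mem _ hp8 (z_mem_pre h _), ?_, ?_⟩
      · rw [h.eta_mul _ hp _ hzQ, h.eta_z, add_zero, hpw]
      · rw [hμ _ (pre_W8_le h hp8) _ hzT, h0, hμz]
        decide
  choose s hs hsw hsμ using hsec
  have huniq : ∀ a ∈ pre h (W8 o), ∀ b ∈ pre h (W8 o), eta a = eta b → μ a = μ b → a = b := by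
    intro a ha b hb h1 h2
    rcases (h.eta_eq ha.1 hb.1).1 h1 with h3 | h3
    · exact h3
    · exfalso
      rw [h3, hμ _ (pre_W8_le h hb) _ hzT, hμz] at h2
      exact one_ne_zero (add_eq_left.1 h2)
  have hsadd : ∀ a b, s (a + b) = s a * s b := by
    intro a b
    apply huniq _ (hs _) _ (Subgroup.mul_mem _ (hs a) (hs b))
    · rw [hsw, h.eta_mul _ (hs a).1 _ (hs b).1, hsw, hsw]
      rfl
    · rw [hsμ, hμ _ (pre_W8_le h (hs a)) _ (pre_W8_le h (hs b)), hsμ, hsμ, add_zero]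
  have hsT : ∀ a, s a ∈ T h o := fun a => pre_W8_le h (hs a)
  obtain ⟨b, hb⟩ := F.hyp
  have hs0 : s 0 = 1 := by
    have h1 := hsadd 0 0
    rw [add_zero] at h1
    exact left_eq_mul.1 h1
  have zpT : ∀ a, zp z a ∈ T h o := fun a => pre_W8_le h (zp_mem h a _)
  have tpT : ∀ a, zp t a ∈ T h o := by
    intro a
    unfold zp
    split_ifs
    · exact Subgroup.one_mem _
    · exact ht
  have hnu1 : TenD.nu Q (1 : G) = 0 := nu_eq_zero.2 Q.one_mem
  have hnut : ∀ a, TenD.nu Q (zp t a) = a := by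
    intro a
    rcases zmod_cases a with rfl | rfl
    · rw [zp_zero, hnu1]
    · rw [zp_one]
      exact (zmod_cases _).resolve_left fun h2 => htQ (nu_eq_zero.1 h2)
  have hnuz : ∀ a, TenD.nu Q (zp z a) = 0 := fun a => nu_eq_zero.2 (zp_mem h a (W8 o)).1
  have hnus : ∀ a, TenD.nu Q (s a) = 0 := fun a => nu_eq_zero.2 (hs a).1
  have hμzp : ∀ a, μ (zp z a) = a := by
    intro a
    rcases zmod_cases a with rfl | rfl
    · rw [zp_zero, hμ1]
    · rw [zp_one, hμz]
  have hμtp : ∀ a, μ (zp t a) = 0 := by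
    intro a
    rcases zmod_cases a with rfl | rfl
    · rw [zp_zero, hμ1]
    · rw [zp_one, hμt]
  let ι : V5 → G := fun v => zp z (v (Sum.inl 0)) * zp t (v (Sum.inr 0)) * s (b (res v))
  have hι : ∀ v, ι v = zp z (v (Sum.inl 0)) * zp t (v (Sum.inr 0)) * s (b (res v)) := fun v => rfl
  have hιT : ∀ v, ι v ∈ T h o := fun v =>
    Subgroup.mul_mem _ (Subgroup.mul_mem _ (zpT _) (tpT _)) (hsT _)
  have hνι : ∀ v, TenD.nu Q (ι v) = v (Sum.inr 0) := by
    intro v
    rw [hι, nu_mul h F hyQ hy τz τy τE (Subgroup.mul_mem _ (zpT _) (tpT _)) (hsT _),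
      nu_mul h F hyQ hy τz τy τE (zpT _) (tpT _), hnuz, hnut, hnus, zero_add, add_zero]
  have hμι : ∀ v, μ (ι v) = v (Sum.inl 0) := by
    intro v
    rw [hι, hμ _ (Subgroup.mul_mem _ (zpT _) (tpT _)) _ (hsT _), hμ _ (zpT _) _ (tpT _), hμzp, hμtp, hsμ,
      add_zero, add_zero]
  have hadd : ∀ v w, ι (v + w) = ι v * ι w := by
    intro v w
    rw [hι, hι, hι, res_add, map_add, hsadd, Pi.add_apply, Pi.add_apply, zp_add h, zp_add' ht2]
    have c1 := hab _ (zpT (w (Sum.inl 0))) _ (tpT (v (Sum.inr 0)))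
    have c2 := hab _ (Subgroup.mul_mem _ (zpT (w (Sum.inl 0))) (tpT (w (Sum.inr 0)))) _ (hsT (b (res v)))
    generalize s (b (res v)) = sv at c2 ⊢
    generalize s (b (res w)) = sw at c2 ⊢
    generalize zp z (v (Sum.inl 0)) = zv at c1 c2 ⊢
    generalize zp z (w (Sum.inl 0)) = zw at c1 c2 ⊢
    generalize zp t (v (Sum.inr 0)) = tv at c1 c2 ⊢
    generalize zp t (w (Sum.inr 0)) = tw at c1 c2 ⊢
    calc zv * zw * (tv * tw) * (sv * sw) = zv * (zw * tv) * tw * sv * sw := by group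
      _ = zv * (tv * zw) * tw * sv * sw := by rw [c1]
      _ = zv * tv * (zw * tw * sv) * sw := by group
      _ = zv * tv * (sv * (zw * tw)) * sw := by rw [c2]
      _ = zv * tv * sv * (zw * tw * sw) := by group
  have hinj : Function.Injective ι := by
    intro v w hvw
    have h1 : v (Sum.inl 0) = w (Sum.inl 0) := by rw [← hμι v, hvw, hμι w]
    have h2 : v (Sum.inr 0) = w (Sum.inr 0) := by rw [← hνι v, hvw, hνι w]
    rw [hι, hι, h1, h2] at hvw
    have h3 := mul_left_cancel hvw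
    have h4 : res v = res w := by
      apply b.injective
      apply Subtype.ext
      rw [← hsw, h3, hsw]
    funext i
    rcases i with i | i
    · refine Fin.cases h1 (fun j => ?_) i
      exact congrFun h4 (Sum.inl j)
    · refine Fin.cases h2 (fun j => ?_) i
      exact congrFun h4 (Sum.inr j)
  refine ⟨t, ht, htQ, hgt, ?_, ι, hinj, hadd, ?_, ?_, hνι, ?_, ?_⟩
  · have h1 := kap_mul_z h F hyQ hy τz τy τE ht
    rw [h1, hkt, zero_add]
    exact (zmod_cases _).resolve_left fun h2 => htQ (nu_eq_zero.1 h2)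
  · -- surjectivity
    intro g
    constructor
    · intro hg
      let f : V5 → T h o := fun v => ⟨ι v, hιT v⟩
      have hf : Function.Injective f := fun v w hvw => hinj (congrArg Subtype.val hvw)
      have hcard : Nat.card (T h o) ≤ Nat.card V5 := by
        rw [card_T h F hyQ hy τz τy τE]
        simp
      obtain ⟨v, hv⟩ := (Function.Injective.bijective_of_nat_card_le hf hcard).2 ⟨g, hg⟩
      exact ⟨v, congrArg Subtype.val hv⟩
    · rintro ⟨v, rfl⟩
      exact hιT v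
  · -- the form
    intro v
    rw [plus_res, ← hb, ← hsw (b (res v)), ← kap_pre h F hyQ hy τz τy τE (hs _), hι]
    have k1 : ∀ a, TenD.kap z (zp z a * s (b (res v))) = TenD.kap z (s (b (res v))) := by
      intro a
      rcases zmod_cases a with rfl | rfl
      · rw [zp_zero, one_mul]
      · rw [zp_one, hab _ hzT _ (hsT _), kap_mul_z h F hyQ hy τz τy τE (hsT _), hnus, add_zero]
    rcases zmod_cases (v (Sum.inr 0)) with h2 | h2
    · rw [h2, zp_zero, mul_one, mul_zero, zero_add, k1]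
    · rw [h2, zp_one, mul_one]
      have h3 : zp z (v (Sum.inl 0)) * t * s (b (res v)) = zp z (v (Sum.inl 0)) * s (b (res v)) * t := by
        rw [mul_assoc, hab _ ht _ (hsT _), mul_assoc]
      rw [h3, hkμ _ (Subgroup.mul_mem _ (zpT _) (hsT _)), k1, hμ _ (zpT _) _ (hsT _), hμzp, hsμ, add_zero,
        add_comm]
  · have h1 : res (Pi.single (Sum.inl 0) 1 : V5) = 0 := by
      funext i
      rcases i with i | i
      · exact Pi.single_eq_of_ne (by simp [Fin.succ_ne_zero]) _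
      · exact Pi.single_eq_of_ne (by simp) _
    rw [hι, h1, map_zero, hs0, mul_one, Pi.single_eq_same, Pi.single_eq_of_ne (by simp), zp_one, zp_zero, mul_one]
  · have h1 : res (Pi.single (Sum.inr 0) 1 : V5) = 0 := by
      funext i
      rcases i with i | i
      · exact Pi.single_eq_of_ne (by simp) _
      · exact Pi.single_eq_of_ne (by simp [Fin.succ_ne_zero]) _
    rw [hι, h1, map_zero, hs0, mul_one, Pi.single_eq_same, Pi.single_eq_of_ne (by simp), zp_one, zp_zero, one_mul]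

end

end Cfsg.Agent.H848.TenE
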