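import Cfsg.Agent.AutOrth.Gen
import Cfsg.Agent.LieClassical.OrthFinite
import Cfsg.Agent.LieClassical.OrthForms
import Cfsg.Agent.LargeExtra.Cards

/-!
# The orthogonal group of plus type in dimension ten over the field of two elements

`siegel_of_fix`: an isometry fixing the singular vector `e` and trivial on `e^⊥ / e` is a Siegel transformation.
`E_le`: a group of isometries containing the Siegel transformations of one centre and fusing a hyperbolic pair contains
all the Siegel transformations.
-/

set_option autoImplicit false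

namespace Cfsg.Agent.H848.TenForm

open QuadraticMap Cfsg.Agent.LieClassical.OrthCore Cfsg.Agent.LieClassical.OrthTrans
  Cfsg.Agent.LieClassical.OrthSimple Cfsg.Agent.AutOrth.SemiSim Cfsg.Agent.AutOrth.Gen

variable {F V : Type*} [Field F] [AddCommGroup V] [Module F V] {Q : QuadraticForm F V}

theorem siegel_add_smul {e w : V} (he : Q e = 0) (hw : polar Q e w = 0) (a : F)
    (hw' : polar Q e (w + a • e) = 0) : siegel Q e (w + a • e) he hw' = siegel Q e w he hw := by
  have hwe : polar Q w e = 0 := by rw [polar_comm]; exact hw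
  ext v
  rw [siegel_apply, siegel_apply, polar_add_left, polar_smul_left, Q_add, QuadraticMap.map_smul, he,
    polar_smul_right, hwe]
  simp only [smul_eq_mul, mul_zero, add_zero]
  module

theorem siegel_of_fix {e f : V} (h : Hyp Q e f) {φ : V ≃ₗ[F] V} (hφ : φ ∈ O Q) (he : φ e = e)
    (hp : ∀ v, polar Q e v = 0 → ∃ c : F, φ v = v + c • e) (hw : polar Q e (φ f - f) = 0) :
    φ = siegel Q e (φ f - f) h.left hw := by
  have hef : polar Q e f = 1 := h.pair
  have hfe : polar Q f e = 1 := h.pair'
  -- the value at `f`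
  have h1 : Q (φ f - f) + polar Q (φ f - f) f = 0 := by
    have h2 : Q (φ f) = 0 := by rw [mem_O.1 hφ, h.right]
    have h3 : φ f = (φ f - f) + f := by abel
    rw [h3, Q_add, h.right, add_zero] at h2
    exact h2
  have hf : siegel Q e (φ f - f) h.left hw f = φ f := by
    rw [siegel_apply, hef, mul_one]
    have h2 : f + (1 : F) • (φ f - f) - polar Q (φ f - f) f • e - Q (φ f - f) • e =
      φ f - (Q (φ f - f) + polar Q (φ f - f) f) • e := by module
    rw [h2, h1, zero_smul, sub_zero]
  -- the orthogonal space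
  have hperp : ∀ v, polar Q e v = 0 → siegel Q e (φ f - f) h.left hw v = φ v := by
    intro v hv
    obtain ⟨c, hc⟩ := hp v hv
    have h2 := polar_map hφ v f
    have h3 : φ f = f + (φ f - f) := by abel
    rw [hc] at h2
    conv_lhs at h2 => rw [h3]
    rw [polar_add_left, polar_add_right, polar_smul_left, polar_add_right, hef, hw, add_zero] at h2
    have h4 : c = - polar Q (φ f - f) v := by
      rw [polar_comm Q (φ f - f) v]
      simp only [smul_eq_mul, mul_one] at h2
      linear_combination h2
    rw [siegel_apply, hv, hc, h4]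
    simp only [zero_smul, mul_zero, neg_smul, sub_zero, add_zero]
    module
  ext v
  have h5 : v = (v - polar Q e v • f) + polar Q e v • f := by abel
  have h6 : polar Q e (v - polar Q e v • f) = 0 := by
    rw [polar_sub_right, polar_smul_right, hef, smul_eq_mul, mul_one, sub_self]
  rw [h5, map_add, map_add, map_smul, map_smul, hf, hperp _ h6]

theorem E_le (hG : Good Q) {e f : V} (h : Hyp Q e f) (H : Subgroup (V ≃ₗ[F] V)) (hH : H ≤ O Q)
    (hs : ∀ w (hw : polar Q e w = 0), siegel Q e w h.left hw ∈ H) (hg : ∃ g ∈ H, g e = f) : E Q ≤ H := by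
  obtain ⟨g, hg, hge⟩ := hg
  have h1 : RS Q e h.left ≤ H.comap (E Q).subtype := by
    rintro _ ⟨w, hw, rfl⟩
    exact hs w hw
  have h2 : RS Q f h.right ≤ H.comap (E Q).subtype := by
    rintro _ ⟨w, hw, rfl⟩
    obtain ⟨w', rfl⟩ := g.surjective w
    have hw' : polar Q e w' = 0 := by
      rw [← hge, polar_map (hH hg)] at hw
      exact hw
    have h3 := siegel_conj (hH hg) h.left hw' (by rw [hge]; exact h.right) (by rw [hge]; exact hw)
    have h4 : siegel Q f (g w') h.right hw = g * siegel Q e w' h.left hw' * g⁻¹ := by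
      rw [h3]
      congr 1
      exact hge.symm
    show siegel Q f (g w') h.right hw ∈ H
    rw [h4]
    exact H.mul_mem (H.mul_mem hg (hs w' hw')) (H.inv_mem hg)
  have h3 : (⊤ : Subgroup (E Q)) ≤ H.comap (E Q).subtype := by
    rw [← sup_RS_eq_top hG h]
    exact sup_le h1 h2
  intro x hx
  exact h3 (Subgroup.mem_top (⟨x, hx⟩ : E Q))

open Cfsg.Agent.LieClassical.OmegaReindex in
theorem card_omega_plus_ten :
    Nat.card (Cfsg.Omega (ZMod 2) (Cfsg.quadFormPlus 5 (ZMod 2))) = 23499295948800 := by
  have hcard := Cfsg.Agent.S0287.result (F := ZMod 2) (q := 2) (ZMod.card 2) 5 (by norm_num)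
  have hQ : (QuadraticMap.polarBilin (quadPlus 5 (ZMod 2))).Nondegenerate :=
    quadPlus_nondegenerate
  have hn : Fintype.card (Fin 5 ⊕ Fin 5) = 10 := by
    simp only [Fintype.card_sum, Fintype.card_fin]
  have hi := index_omega_of_fin hn (fun Q' hQ' => Cfsg.Agent.S0789.result (by omega) Q' hQ'
      (Or.inr (by omega))) (quadPlus 5 (ZMod 2)) hQ
  rw [coe_quadPlus] at hi
  have h1 := (Cfsg.Omega (ZMod 2) (Cfsg.quadFormPlus 5 (ZMod 2))).card_mul_index
  rw [hi] at h1
  have h2 : Nat.card (Cfsg.isometryGroup (ZMod 2) (Cfsg.quadFormPlus 5 (ZMod 2))) = 46998591897600 := by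
    rw [hcard]; decide
  rw [h2] at h1
  omega

end Cfsg.Agent.H848.TenForm
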