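import Cfsg.Agent.H848.TenE
import Cfsg.Agent.H848.TenForm

/-!
# The elementary abelian subgroup of order 1024: the action of the normaliser
-/

set_option autoImplicit false
set_option linter.unusedSectionVars false

open Cfsg

namespace Cfsg.Agent.H848.TenF

open QuadraticMap Cfsg.Agent.LieClassical.OrthCore Cfsg.Agent.LieClassical.OrthTrans
open Cfsg.Agent.SporadicA
open Cfsg.Agent.SporadicA.Co1Simple
open Cfsg.Agent.MonsterU.Lam2 (L2 cl cl_surjective bf qf bf_nondeg bf_comm add_self neg_eq IsType type_cases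
  bf_add_left bf_add_right)
open Cfsg.Agent.MonsterU.CoFrameL2
open Cfsg.Agent.MonsterU.CoFrameIrr
open Cfsg.Agent.MonsterU.AmalGen (pre mem_pre pre_mono pre_conj z_mem_pre EE bf_W12 pre_W1)
open Cfsg.Agent.MonsterU.Ch
open Cfsg.Agent.H848.Oct
open Cfsg.Agent.H848.TenA
open Cfsg.Agent.H848.TenB
open Cfsg.Agent.H848.TenC
open Cfsg.Agent.H848.TenD
open Cfsg.Agent.H848.TenE
open Cfsg.Agent.H848.TenForm
open Cfsg.Spor (Co1)

/-- the quadratic form -/
abbrev QF : QuadraticForm (ZMod 2) V5 := Cfsg.Agent.LieClassical.OrthForms.plusForm 5 (ZMod 2)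

theorem QF_apply (v : V5) : QF v = quadFormPlus 5 (ZMod 2) v :=
  congrFun (Cfsg.Agent.LieClassical.OrthForms.coe_plusForm 5 (ZMod 2)) v

theorem good : Good QF := by
  apply Cfsg.Agent.LieClassical.OrthFinite.good_of_finite
  · exact Cfsg.Agent.LieClassical.OrthForms.nondeg_plusForm 5 (ZMod 2)
  · rw [Module.finrank_fintype_fun_eq_card]
    simp

/-- the hyperbolic pair -/
abbrev e0 : V5 := Pi.single (Sum.inl 0) 1
/-- the hyperbolic pair -/
abbrev f0' : V5 := Pi.single (Sum.inr 0) 1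

theorem hyp : Hyp QF e0 f0' := by
  refine ⟨?_, ?_, ?_⟩
  · rw [QF_apply]; decide
  · rw [QF_apply]; decide
  · rw [polar, QF_apply, QF_apply, QF_apply]; decide

variable {G : Type*} [Group G] {Q : Subgroup G} {z : G} {eta : G → L2}
  {pi : Subgroup.centralizer ({z} : Set G) →* Co1}

section

variable {h : Chart Q z eta pi} {o : golayCode} {t : G} {ι : V5 → G} (c : Crd h o t ι)
include c

theorem iota_zero : ι 0 = 1 := by
  have h := c.add 0 0
  rw [add_zero] at h
  exact (left_eq_mul.1 h)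

theorem iota_mem (x : V5) : ι x ∈ T h o := (c.mem _).2 ⟨x, rfl⟩

theorem iota_smul (a : ZMod 2) (x : V5) : ι (a • x) = zp (ι x) a := by
  rcases zmod_cases a with rfl | rfl
  · rw [zero_smul, zp_zero, iota_zero c]
  · rw [one_smul, zp_one]

theorem exists_beta : ∃ β : N h o →* (V5 ≃ₗ[ZMod 2] V5),
    ∀ (g : N h o) (x : V5), ι (β g x) = (g : G) * ι x * (g : G)⁻¹ := by
  have h1 : ∀ (g : N h o) (x : V5), ∃ y, ι y = (g : G) * ι x * (g : G)⁻¹ :=
    fun g x => (c.mem _).1 (conj_N h g.2 (iota_mem c x))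
  choose A hA using h1
  let L : N h o → (V5 →+ V5) := fun g =>
    { toFun := A g
      map_zero' := by
        apply c.inj
        rw [hA, iota_zero c]
        group
      map_add' := by
        intro x y
        apply c.inj
        rw [hA, c.add, c.add, hA, hA]
        group }
  let M : N h o → (V5 →ₗ[ZMod 2] V5) := fun g => AddMonoidHom.toZModLinearMap 2 (L g)
  have hM : ∀ g x, ι (M g x) = (g : G) * ι x * (g : G)⁻¹ := fun g x => hA g x
  have hinv : ∀ g, M g ∘ₗ M g⁻¹ = LinearMap.id := by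
    intro g
    apply LinearMap.ext
    intro x
    apply c.inj
    rw [LinearMap.comp_apply, hM, hM, LinearMap.id_apply, Subgroup.coe_inv]
    group
  have hinv' : ∀ g, M g⁻¹ ∘ₗ M g = LinearMap.id := by
    intro g
    have := hinv g⁻¹
    rwa [inv_inv] at this
  let E : N h o → (V5 ≃ₗ[ZMod 2] V5) := fun g => LinearEquiv.ofLinearMap (M g) (M g⁻¹) (hinv g) (hinv' g)
  have hE : ∀ g x, ι (E g x) = (g : G) * ι x * (g : G)⁻¹ := fun g x => hM g x
  refine ⟨MonoidHom.mk' E fun g k => ?_, hE⟩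
  apply LinearEquiv.ext
  intro x
  apply c.inj
  show ι (E (g * k) x) = ι (E g (E k x))
  rw [hE, hE, hE, Subgroup.coe_mul]
  group

theorem polar_e0 (v : V5) : polar QF e0 v = v (Sum.inr 0) := by
  rw [Cfsg.Agent.LieClassical.OrthForms.polar_plusForm]
  rw [Finset.sum_eq_single 0]
  · simp
  · intro i _ hi
    simp [hi]
  · simp

section

variable {β : N h o →* (V5 ≃ₗ[ZMod 2] V5)}
  (hβ : ∀ (g : N h o) (x : V5), ι (β g x) = (g : G) * ι x * (g : G)⁻¹)
include hβ

theorem ker_beta : β.ker = (Subgroup.centralizer (T h o : Set G)).subgroupOf (N h o) := by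
  ext g
  rw [MonoidHom.mem_ker, Subgroup.mem_subgroupOf, Subgroup.mem_centralizer_iff]
  constructor
  · intro h1 e he
    obtain ⟨x, rfl⟩ := (c.mem e).1 he
    have h2 := hβ g x
    rw [h1] at h2
    have h3 : ι x = (g : G) * ι x * (g : G)⁻¹ := h2
    exact (eq_mul_inv_iff_mul_eq.1 h3)
  · intro h1
    apply LinearEquiv.ext
    intro x
    apply c.inj
    rw [hβ, ← h1 (ι x) (iota_mem c x)]
    show ι x * (g : G) * (g : G)⁻¹ = ι x
    group

theorem range_le : β.range ≤ O QF := by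
  rintro _ ⟨g, rfl⟩ v
  rw [QF_apply, QF_apply, ← c.kap, ← c.kap, hβ, kap_conj]

section

variable (F : Facts o)
  {y τ : G} (hyQ : y ∈ Q) (hy : eta y = f0) (τz : τ * z * τ⁻¹ = y) (τy : τ * y * τ⁻¹ = z * y)
  (τE : ∀ e ∈ EE h, τ * e * τ⁻¹ * e⁻¹ ∈ pre h W1)
  (ht : t ∈ T h o) (htQ : t ∉ Q) (hgt : ∃ g ∈ N h o, g * z * g⁻¹ = t)
include F hyQ hy τz τy τE ht htQ hgt

theorem E_le_range [Finite G] : E QF ≤ β.range := by
  refine E_le good hyp β.range (range_le c hβ) (fun w hw => ?_) ?_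
  · have hw0 : w (Sum.inr 0) = 0 := (polar_e0 c w).symm.trans hw
    have hwQ : ι w ∈ Q := by rw [← nu_eq_zero, c.nu, hw0]
    have hr : ι w * t ∈ T h o := Subgroup.mul_mem _ (iota_mem c w) ht
    have hrQ : ι w * t ∉ Q := by
      intro h1
      exact htQ ((Subgroup.mul_mem_cancel_left _ hwQ).1 h1)
    obtain ⟨q, hq, hqr⟩ := Q_orbit h F hyQ hy τz τy τE ht htQ hr hrQ
    have hqN : q ∈ N h o := Q_le_N h F hyQ hy τz τy τE hq
    set φ := β ⟨q, hqN⟩ with hφ
    have hφι : ∀ x, ι (φ x) = q * ι x * q⁻¹ := fun x => hβ ⟨q, hqN⟩ x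
    have h1 : φ e0 = e0 := by
      apply c.inj
      rw [hφι, c.he, qz h hq, mul_inv_cancel_right]
    have h2 : ∀ v, polar QF e0 v = 0 → ∃ a : ZMod 2, φ v = v + a • e0 := by
      intro v hv
      have hv0 : v (Sum.inr 0) = 0 := (polar_e0 c v).symm.trans hv
      have hvQ : ι v ∈ Q := by rw [← nu_eq_zero, c.nu, hv0]
      refine ⟨bf (eta q) (eta (ι v)), ?_⟩
      apply c.inj
      rw [hφι, conj_Q h hq hvQ, c.add, iota_smul c, c.he]
    have h3 : ∃ a : ZMod 2, φ f0' = w + f0' + a • e0 := by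
      rcases hqr with h3 | h3
      · refine ⟨0, ?_⟩
        apply c.inj
        rw [hφι, c.hf, h3, zero_smul, add_zero, c.add, c.hf]
      · refine ⟨1, ?_⟩
        apply c.inj
        rw [hφι, c.hf, h3, one_smul, c.add, c.add, c.hf, c.he]
    obtain ⟨a, ha⟩ := h3
    have h4 : φ f0' - f0' = w + a • e0 := by rw [ha]; abel
    have h5 : polar QF e0 (w + a • e0) = 0 := by
      rw [polar_add_right, hw, polar_smul_right, polar_self_of_sing hyp.left, smul_zero, add_zero]
    have h6 : polar QF e0 (φ f0' - f0') = 0 := by rw [h4]; exact h5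
    have hφO : φ ∈ O QF := range_le c hβ ⟨_, rfl⟩
    have h7 := siegel_of_fix hyp hφO h1 h2 h6
    have h8 : siegel QF e0 (φ f0' - f0') hyp.left h6 = siegel QF e0 (w + a • e0) hyp.left h5 := by
      congr 1
    rw [h8, siegel_add_smul hyp.left hw] at h7
    rw [← h7]
    exact ⟨_, rfl⟩
  · obtain ⟨g, hg, hgz⟩ := hgt
    refine ⟨β ⟨g, hg⟩, ⟨_, rfl⟩, ?_⟩
    apply c.inj
    rw [hβ, c.he, c.hf]
    exact hgz

end

end

end

end Cfsg.Agent.H848.TenF
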