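import Cfsg.Agent.H848.TenF
import Cfsg.Agent.LieClassical.QuadCount

/-!
# The elementary abelian subgroup of order 1024: the centraliser
-/

set_option autoImplicit false
set_option linter.unusedSectionVars false

open Cfsg

namespace Cfsg.Agent.H848.TenG

open QuadraticMap Cfsg.Agent.LieClassical.OrthCore Cfsg.Agent.LieClassical.OrthTrans
open Cfsg.Agent.SporadicA
open Cfsg.Agent.SporadicA.Co1Simple
open Cfsg.Agent.MonsterU.Lam2 (L2 cl cl_surjective bf qf bf_nondeg bf_comm add_self neg_eq IsType type_cases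
  bf_add_left bf_add_right)
open Cfsg.Agent.MonsterU.CoFrameL2
open Cfsg.Agent.MonsterU.CoFrameIrr
open Cfsg.Agent.MonsterU.AmalGen (pre mem_pre pre_mono pre_conj z_mem_pre EE bf_W12 pre_W1)
open Cfsg.Agent.MonsterU.Ch
open Cfsg.Agent.H848.Dual (perp mem_perp card_perp perp_perp exists_bf perp_anti)
open Cfsg.Agent.H848.Oct
open Cfsg.Agent.H848.TenA
open Cfsg.Agent.H848.TenB
open Cfsg.Agent.H848.TenC
open Cfsg.Agent.H848.TenD
open Cfsg.Agent.H848.TenE
open Cfsg.Agent.H848.TenForm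
open Cfsg.Agent.H848.TenF
open Cfsg.Agent.H848.NormFour (card_pre)
open Cfsg.Spor (Co1)

variable {G : Type*} [Group G] {Q : Subgroup G} {z : G} {eta : G → L2}
  {pi : Subgroup.centralizer ({z} : Set G) →* Co1}

/-- the singular vectors -/
theorem ncard_sing : {v : V5 | quadFormPlus 5 (ZMod 2) v = 0 ∧ v ≠ 0}.ncard = 527 := by
  have h1 := Cfsg.Agent.LieClassical.QuadCount.card_plus (F := ZMod 2) 5 0
  rw [if_pos rfl, ZMod.card] at h1
  have h2' : 2 * Nat.card {v : V5 // quadFormPlus 5 (ZMod 2) v = 0} + 2 ^ 5 = 2 ^ (2 * 5) + 2 ^ (5 + 1) := h1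
  have h2 : Nat.card {v : V5 // quadFormPlus 5 (ZMod 2) v = 0} = 528 := by omega
  have h3 : {v : V5 | quadFormPlus 5 (ZMod 2) v = 0 ∧ v ≠ 0} = {v : V5 | quadFormPlus 5 (ZMod 2) v = 0} \ {0} := by
    ext v
    rfl
  have h4 : (0 : V5) ∈ {v : V5 | quadFormPlus 5 (ZMod 2) v = 0} := by
    show quadFormPlus 5 (ZMod 2) 0 = 0
    unfold quadFormPlus
    simp
  rw [h3, Set.ncard_sdiff_singleton_of_mem h4]
  have h5 : {v : V5 | quadFormPlus 5 (ZMod 2) v = 0}.ncard = 528 := h2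
  rw [h5]

theorem card_mul_rel {H K : Subgroup G} (hHK : H ≤ K) : Nat.card H * H.relIndex K = Nat.card K := by
  rw [← Subgroup.relIndex_bot_left H, ← Subgroup.relIndex_bot_left K]
  exact Subgroup.relIndex_mul_relIndex _ _ _ bot_le hHK

section

variable (h : Chart Q z eta pi) {o : golayCode} (F : Facts o)
include h F

/-- the centraliser -/
noncomputable abbrev C (o : golayCode) : Subgroup G := Subgroup.centralizer (T h o : Set G)

/-- the inverse image of the fixed points -/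
noncomputable abbrev X (o : golayCode) : Subgroup G := pre h (W16 o)

omit F in
theorem mem_C {c : G} : c ∈ C h o ↔ ∀ t ∈ T h o, t * c = c * t := Subgroup.mem_centralizer_iff

omit F in
theorem X_le_C : X h o ≤ C h o := by
  intro x hx
  rw [mem_C]
  intro t ht
  exact ((mem_T h).1 ht x hx).symm

omit F in
theorem z_mem_T : z ∈ T h o := pre_W8_le h (z_mem_pre h _)

omit F in
theorem C_z {c : G} (hc : c ∈ C h o) : c * z = z * c := ((mem_C h).1 hc z (z_mem_T h)).symm

omit F in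
theorem C_le_N : C h o ≤ N h o := by
  intro c hc
  rw [Subgroup.mem_normalizer_iff]
  intro t
  constructor
  · intro ht
    rw [← (mem_C h).1 hc t ht, mul_inv_cancel_right]
    exact ht
  · intro ht
    have h1 := (mem_C h).1 ((C h o).inv_mem hc) _ ht
    have h2 : t = c⁻¹ * (c * t * c⁻¹) * c := by group
    rw [h2, ← h1, inv_mul_cancel_right]
    exact ht

omit F in
theorem C_conj {g : G} (hg : g ∈ N h o) {c : G} (hc : c ∈ C h o) : g * c * g⁻¹ ∈ C h o := by
  rw [mem_C]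
  intro t ht
  have h1 := conj_N h ((N h o).inv_mem hg) ht
  have h2 := (mem_C h).1 hc _ h1
  have h3 : g⁻¹ * t * g⁻¹⁻¹ = g⁻¹ * t * g := by rw [inv_inv]
  rw [h3] at h2
  calc t * (g * c * g⁻¹) = g * ((g⁻¹ * t * g) * c) * g⁻¹ := by group
    _ = g * c * g⁻¹ * t := by rw [h2]; group

section

variable {y τ : G} (hyQ : y ∈ Q) (hy : eta y = f0) (τz : τ * z * τ⁻¹ = y) (τy : τ * y * τ⁻¹ = z * y)
  (τE : ∀ e ∈ EE h, τ * e * τ⁻¹ * e⁻¹ ∈ pre h W1)
include hyQ hy τz τy τE

theorem C_X [Finite G] {c x : G} (hc : c ∈ C h o) (hx : x ∈ X h o) : c * x * c⁻¹ ∈ X h o := by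
  have hcz : c ∈ Subgroup.centralizer ({z} : Set G) := Subgroup.mem_centralizer_singleton_iff.2 (C_z h hc)
  have h1 := (mem_N_iff h F hyQ hy τz τy τE ⟨c, hcz⟩).1 (C_le_N h hc)
  exact pre_conj h ⟨c, hcz⟩ (fun u hu => CO_mem_W16 h1 hu) hx

section

variable {t g : G} (htk : kap z (t * z) = 1) (hg : g ∈ N h o) (hgz : g * z * g⁻¹ = t)
include htk hg hgz

/-- the conjugate -/
noncomputable def Xt (h : Chart Q z eta pi) (o : golayCode) (g : G) : Subgroup G := (X h o).map (MulAut.conj g).toMonoidHom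

omit F hyQ hy τz τy τE htk hg hgz in
theorem mem_Xt {x : G} : x ∈ Xt h o g ↔ g⁻¹ * x * g ∈ X h o := by
  rw [Xt, Subgroup.mem_map]
  constructor
  · rintro ⟨b, hb, rfl⟩
    have : g⁻¹ * ((MulAut.conj g).toMonoidHom b) * g = b := by
      show g⁻¹ * (g * b * g⁻¹) * g = b
      group
    rw [this]; exact hb
  · intro hb
    refine ⟨_, hb, ?_⟩
    show g * (g⁻¹ * x * g) * g⁻¹ = x
    group

omit F hyQ hy τz τy τE htk hgz in
theorem Xt_le_C : Xt h o g ≤ C h o := by
  intro x hx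
  have h1 := C_conj h hg (X_le_C h ((mem_Xt h).1 hx))
  have h2 : x = g * (g⁻¹ * x * g) * g⁻¹ := by group
  rw [h2]; exact h1

omit htk hgz in
theorem C_Xt [Finite G] {c x : G} (hc : c ∈ C h o) (hx : x ∈ Xt h o g) : c * x * c⁻¹ ∈ Xt h o g := by
  rw [mem_Xt] at hx ⊢
  have h1 := C_conj h ((N h o).inv_mem hg) hc
  rw [inv_inv] at h1
  have h2 := C_X h F hyQ hy τz τy τE h1 hx
  have h3 : g⁻¹ * (c * x * c⁻¹) * g = g⁻¹ * c * g * (g⁻¹ * x * g) * (g⁻¹ * c * g)⁻¹ := by group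
  rw [h3]; exact h2

theorem z_not_mem_Xt [Finite G] : z ∉ Xt h o g := by
  intro h1
  rw [mem_Xt] at h1
  have hzT : z ∈ T h o := z_mem_T h
  have h2 := conj_N h ((N h o).inv_mem hg) hzT
  rw [inv_inv] at h2
  have h3 := kap_mul_z h F hyQ hy τz τy τE h2
  rw [nu_eq_zero.2 h1.1, add_zero] at h3
  have h4 : kap z (g⁻¹ * z * g) = 0 := by
    have := kap_conj (z := z) g⁻¹ z
    rw [inv_inv] at this
    rw [this, kap_z]
  rw [h4] at h3
  have h5 : t * z = z * t := by
    have htT : t ∈ T h o := by rw [← hgz]; exact conj_N h hg hzT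
    exact T_z h htT
  have h6 := kap_conj (z := z) g (g⁻¹ * z * g * z)
  have h7 : g * (g⁻¹ * z * g * z) * g⁻¹ = z * t := by rw [← hgz]; group
  rw [h7, h3, ← h5, htk] at h6
  exact one_ne_zero h6

omit F hyQ hy τz τy τE htk hg hgz in
theorem card_Xt [Finite G] : Nat.card (Xt h o g) = Nat.card (X h o) :=
  Nat.card_congr (Subgroup.equivMapOfInjective _ _ (MulAut.conj g).injective).toEquiv.symm

theorem inf_le [Finite G] : X h o ⊓ Xt h o g ≤ pre h (W8 o) := by
  rintro d ⟨hd, hd'⟩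
  have h1 : d ∈ T h o := by
    rw [mem_T]
    intro x hx
    have h2 := C_Xt h F hyQ hy τz τy τE hg (X_le_C h hx) hd'
    have h3 := conj_Q h hx.1 hd.1
    have h4 : zp z (bf (eta x) (eta d)) ∈ Xt h o g := by
      have h5 := (Xt h o g).mul_mem ((Xt h o g).inv_mem hd') h2
      rwa [h3, inv_mul_cancel_left] at h5
    rcases zmod_cases (bf (eta x) (eta d)) with h5 | h5
    · exact (h.comm_iff hx.1 hd.1).2 h5
    · rw [h5, zp_one] at h4
      exact absurd h4 (z_not_mem_Xt h F hyQ hy τz τy τE htk hg hgz)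
  exact mem_pre_W8 h hd.1 h1

theorem card_inf_le [Finite G] : Nat.card (X h o ⊓ Xt h o g : Subgroup G) ≤ 2 ^ 8 := by
  have h1 := inf_le h F hyQ hy τz τy τE htk hg hgz
  have h2 := Subgroup.card_dvd_of_le h1
  have h3 : Nat.card (pre h (W8 o)) = 2 ^ 9 := by
    rw [card_pre, card_W8 F]; norm_num
  have h4 : Nat.card (X h o ⊓ Xt h o g : Subgroup G) ≠ 2 ^ 9 := by
    intro h5
    have h6 := Subgroup.eq_of_le_of_card_ge h1 (by rw [h3, h5])
    have h7 : z ∈ X h o ⊓ Xt h o g := by rw [h6]; exact z_mem_pre h _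
    exact z_not_mem_Xt h F hyQ hy τz τy τE htk hg hgz h7.2
  rw [h3] at h2
  obtain ⟨k, hk, hk2⟩ := (Nat.dvd_prime_pow Nat.prime_two).1 h2
  rw [hk2] at h4 ⊢
  have h5 : k ≠ 9 := fun h5 => h4 (by rw [h5])
  exact Nat.pow_le_pow_right (by norm_num) (by omega)

omit hyQ hy τz τy τE htk hg hgz in
theorem card_X : Nat.card (X h o) = 2 ^ 17 := by
  rw [card_pre, card_W16 F]; norm_num

/-- the lower bound -/
theorem card_ge [Finite G] {Y : Subgroup G} (hX : X h o ≤ Y) (hXt : Xt h o g ≤ Y) : 2 ^ 26 ≤ Nat.card Y := by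
  have h1 : (X h o).relIndex (Xt h o g) ≤ (X h o).relIndex Y :=
    Subgroup.relIndex_le_of_le_right hXt ((X h o).subgroupOf Y).index_ne_zero_of_finite
  have h2 : Nat.card (X h o ⊓ Xt h o g : Subgroup G) * (X h o).relIndex (Xt h o g) = Nat.card (Xt h o g) := by
    rw [← Subgroup.inf_relIndex_right]
    exact card_mul_rel inf_le_right
  have h3 : Nat.card (X h o) * (X h o).relIndex Y = Nat.card Y := card_mul_rel hX
  rw [card_Xt h, card_X h F] at h2
  rw [card_X h F] at h3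
  have h4 := card_inf_le h F hyQ hy τz τy τE htk hg hgz
  have h5 : 2 ^ 9 ≤ (X h o).relIndex (Xt h o g) := by
    by_contra h6
    push Not at h6
    have h7 : Nat.card (X h o ⊓ Xt h o g : Subgroup G) * (X h o).relIndex (Xt h o g) < 2 ^ 17 := by
      calc Nat.card (X h o ⊓ Xt h o g : Subgroup G) * (X h o).relIndex (Xt h o g)
          ≤ 2 ^ 8 * (X h o).relIndex (Xt h o g) := Nat.mul_le_mul_right _ h4
        _ < 2 ^ 8 * 2 ^ 9 := Nat.mul_lt_mul_of_pos_left h6 (by norm_num)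
        _ = 2 ^ 17 := by norm_num
    omega
  rw [← h3]
  calc 2 ^ 26 = 2 ^ 17 * 2 ^ 9 := by norm_num
    _ ≤ 2 ^ 17 * (X h o).relIndex Y := Nat.mul_le_mul_left _ (h5.trans h1)

end

end

end

end Cfsg.Agent.H848.TenG
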