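import Cfsg.Agent.H848.TenG
import Cfsg.Agent.Lib.FrattiniBasic
import Cfsg.Prelude.Def_Transfer

/-!
# The elementary abelian subgroup of order 1024: orders and conclusion
-/

set_option autoImplicit false
set_option linter.unusedSectionVars false

open Cfsg

namespace Cfsg.Agent.H848.TenH

open QuadraticMap Cfsg.Agent.LieClassical.OrthCore Cfsg.Agent.LieClassical.OrthTrans
open Cfsg.Agent.SporadicA
open Cfsg.Agent.SporadicA.Co1Simple
open Cfsg.Agent.MonsterU.Lam2 (L2 cl cl_surjective bf qf bf_nondeg bf_comm add_self neg_eq IsType type_cases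
  bf_add_left bf_add_right)
open Cfsg.Agent.MonsterU.CoFrameL2
open Cfsg.Agent.MonsterU.CoFrameIrr
open Cfsg.Agent.MonsterU.AmalGen (pre mem_pre pre_mono pre_conj z_mem_pre EE bf_W12 pre_W1)
open Cfsg.Agent.MonsterU.Ch
open Cfsg.Agent.H848.Dual (perp mem_perp card_perp perp_perp exists_bf perp_anti)
open Cfsg.Agent.H848.Oct
open Cfsg.Agent.H848.TenA
open Cfsg.Agent.H848.TenB
open Cfsg.Agent.H848.TenC
open Cfsg.Agent.H848.TenD
open Cfsg.Agent.H848.TenE
open Cfsg.Agent.H848.TenForm
open Cfsg.Agent.H848.TenF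
open Cfsg.Agent.H848.TenG
open Cfsg.Agent.H848.NormFour (card_pre)
open Cfsg.Agent.H848.ProdQuot (pCore_eq_ker)
open Cfsg.Spor (Co1)

universe u

/-- a criterion for special groups -/
theorem special_of {P : Type u} [Group P] [Finite P] (hP : IsPGroup 2 P)
    (h1 : ∀ a b : P, a * b * a⁻¹ * b⁻¹ ∈ Subgroup.center P) (h2 : ∀ a : P, a * a ∈ Subgroup.center P)
    (h3 : Subgroup.center P ≤ commutator P) : IsSpecial 2 P := by
  have hc : commutator P ≤ Subgroup.center P := by
    rw [commutator_def, Subgroup.commutator_le]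
    intro a _ b _
    rw [commutatorElement_def]
    exact h1 a b
  have hf1 : commutator P ≤ frattini P := Cfsg.Agent.Lib.FrattiniBasic.commutator_le_frattini hP
  have hf2 : frattini P ≤ Subgroup.center P :=
    Cfsg.Agent.Lib.FrattiniBasic.frattini_le_of_elementary (p := 2) _ hc fun x => by rw [pow_two]; exact h2 x
  exact ⟨hP, le_antisymm hf2 (h3.trans hf1), le_antisymm hc h3⟩

theorem e0_ne : e0 ≠ 0 := by
  intro h2
  have h3 : (Pi.single (Sum.inl 0) 1 : V5) (Sum.inl 0) = 0 := congrFun h2 (Sum.inl 0)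
  rw [Pi.single_eq_same] at h3
  exact one_ne_zero h3

/-- the centre of the orthogonal group over the field of two elements -/
theorem E_center {g : E QF} (hg : g ∈ Subgroup.center (E QF)) : g = 1 := by
  obtain ⟨c, hc⟩ := Cfsg.Agent.AutOrth.Gen.scalar_of_center good hg
  apply Subtype.ext
  apply LinearEquiv.ext
  intro v
  rw [hc v]
  rcases zmod_cases c with rfl | rfl
  · exfalso
    have h1 := hc e0
    rw [zero_smul] at h1
    have h2 := (g : V5 ≃ₗ[ZMod 2] V5).injective (h1.trans (map_zero (g : V5 ≃ₗ[ZMod 2] V5)).symm)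
    exact e0_ne h2
  · rw [one_smul]; rfl

theorem card_E : Nat.card (E QF) = 23499295948800 := by
  rw [← good.commutator_eq_E, ← card_omega_plus_ten]
  have h1 := Nat.card_congr (Cfsg.Agent.LieClassical.OrthFinite.omegaEquiv QF).toEquiv
  rw [← h1, Cfsg.Agent.LieClassical.OrthForms.coe_plusForm]

/-- the orthogonal group has no normal 2-subgroups -/
theorem E_core (K : Subgroup (E QF)) (hK : K.Normal) (h2 : IsPGroup 2 K) : K = ⊥ := by
  have hs := Cfsg.Agent.LieClassical.OrthSimple.good_isSimpleGroup good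
  have hn : (K.map (QuotientGroup.mk' (Subgroup.center (E QF)))).Normal :=
    hK.map _ (QuotientGroup.mk'_surjective _)
  have hker : ∀ x : E QF, (QuotientGroup.mk' (Subgroup.center (E QF))) x = 1 → x = 1 := by
    intro x hx
    exact E_center ((QuotientGroup.eq_one_iff x).1 hx)
  rcases hn.eq_bot_or_eq_top with h1 | h1
  · rw [eq_bot_iff]
    intro k hk
    have h3 : (QuotientGroup.mk' (Subgroup.center (E QF))) k ∈ K.map (QuotientGroup.mk' (Subgroup.center (E QF))) :=
      Subgroup.mem_map_of_mem _ hk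
    rw [h1, Subgroup.mem_bot] at h3
    rw [Subgroup.mem_bot]
    exact hker k h3
  · exfalso
    have h3 : K = ⊤ := by
      rw [eq_top_iff]
      intro x _
      have h4 : (QuotientGroup.mk' (Subgroup.center (E QF))) x ∈ K.map (QuotientGroup.mk' (Subgroup.center (E QF))) := by
        rw [h1]; trivial
      obtain ⟨k, hk, hkx⟩ := h4
      have h5 : k⁻¹ * x = 1 := hker _ (by rw [map_mul, map_inv, hkx, inv_mul_cancel])
      rw [← inv_mul_eq_one.1 h5]
      exact hk
    rw [h3] at h2
    have hfin : Finite (E QF) := Nat.finite_of_card_ne_zero (by rw [card_E]; norm_num)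
    obtain ⟨n, hn⟩ := IsPGroup.iff_card.1 h2
    rw [Subgroup.card_top, card_E] at hn
    have h6 : 3 ∣ 2 ^ n := by rw [← hn]; norm_num
    have h7 := Nat.Prime.dvd_of_dvd_pow Nat.prime_three h6
    norm_num at h7

variable {G : Type u} [Group G] {Q : Subgroup G} {z : G} {eta : G → L2}
  {pi : Subgroup.centralizer ({z} : Set G) →* Co1}

section

variable (h : Chart Q z eta pi) {o : golayCode} (F : Facts o)
  {y τ : G} (hyQ : y ∈ Q) (hy : eta y = f0) (τz : τ * z * τ⁻¹ = y) (τy : τ * y * τ⁻¹ = z * y)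
  (τE : ∀ e ∈ EE h, τ * e * τ⁻¹ * e⁻¹ ∈ pre h W1)
include h F hyQ hy τz τy τE

theorem card_stab [Finite G] :
    Nat.card ((Subgroup.centralizer ({z} : Set G)).subgroupOf (N h o)) ≤ 2 ^ 25 * Nat.card (CO o) := by
  let S := (Subgroup.centralizer ({z} : Set G)).subgroupOf (N h o)
  let ψ : S →* CO o :=
    { toFun := fun x => ⟨pi ⟨((x : N h o) : G), x.2⟩, (mem_N_iff h F hyQ hy τz τy τE _).1 (x : N h o).2⟩
      map_one' := Subtype.ext (map_one pi)
      map_mul' := fun a b => Subtype.ext (map_mul pi ⟨((a : N h o) : G), a.2⟩ ⟨((b : N h o) : G), b.2⟩) }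
  have h1 := ψ.ker.card_mul_index
  rw [Subgroup.index_ker] at h1
  have h2 : Nat.card ψ.ker ≤ Nat.card Q := by
    refine Nat.card_le_card_of_injective (fun x : ψ.ker => (⟨(((x : S) : N h o) : G), ?_⟩ : Q)) ?_
    · have h3 : ψ (x : S) = 1 := x.2
      exact (h.pi_eq_one _).1 (congrArg Subtype.val h3)
    · intro a b hab
      have h4 : (((a : S) : N h o) : G) = (((b : S) : N h o) : G) := congrArg (fun q : Q => (q : G)) hab
      exact Subtype.ext (Subtype.ext (Subtype.ext h4))
  have h3 : Nat.card ψ.range ≤ Nat.card (CO o) := Subgroup.card_le_card_group _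
  rw [h.card_Q] at h2
  show Nat.card S ≤ _
  rw [← h1]
  exact Nat.mul_le_mul h2 h3

section

variable {t : G} {ι : V5 → G} (c : Crd h o t ι) {β : N h o →* (V5 ≃ₗ[ZMod 2] V5)}
  (hβ : ∀ (g : N h o) (x : V5), ι (β g x) = (g : G) * ι x * (g : G)⁻¹)
include c hβ

theorem index_stab [Finite G] : ((Subgroup.centralizer ({z} : Set G)).subgroupOf (N h o)).index ≤ 527 := by
  let _ : MulAction (N h o) V5 := MulAction.compHom V5 β
  have h1 : MulAction.stabilizer (N h o) e0 = (Subgroup.centralizer ({z} : Set G)).subgroupOf (N h o) := by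
    ext g
    rw [MulAction.mem_stabilizer_iff, Subgroup.mem_subgroupOf, Subgroup.mem_centralizer_singleton_iff]
    have h2 : g • e0 = β g e0 := rfl
    rw [h2]
    constructor
    · intro h3
      have h4 := hβ g e0
      rw [h3, c.he] at h4
      exact (mul_inv_eq_iff_eq_mul.1 h4.symm)
    · intro h3
      apply c.inj
      rw [hβ, c.he, h3, mul_inv_cancel_right]
  rw [← h1, MulAction.index_stabilizer, ← ncard_sing]
  apply Set.ncard_le_ncard _ (Set.toFinite _)
  rintro _ ⟨g, rfl⟩
  have h2 : g • e0 = β g e0 := rfl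
  show quadFormPlus 5 (ZMod 2) (g • e0) = 0 ∧ g • e0 ≠ 0
  rw [h2]
  refine ⟨?_, ?_⟩
  · rw [← QF_apply, range_le c hβ ⟨g, rfl⟩ e0]
    exact hyp.left
  · intro h3
    have h4 := (β g).injective (h3.trans (map_zero (β g)).symm)
    exact e0_ne h4

theorem card_N_le [Finite G] : Nat.card (N h o) ≤ 23499295948800 * 2 ^ 26 := by
  have h1 := ((Subgroup.centralizer ({z} : Set G)).subgroupOf (N h o)).card_mul_index
  have h2 := index_stab h F hyQ hy τz τy τE c hβ
  have h3 := card_stab h F hyQ hy τz τy τE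
  have h4 := F.card
  rw [← h1]
  calc _ ≤ (2 ^ 25 * Nat.card (CO o)) * 527 := Nat.mul_le_mul h3 h2
    _ ≤ (2 ^ 25 * (135 * 2 ^ 11 * 322560)) * 527 := Nat.mul_le_mul_right _ (Nat.mul_le_mul_left _ h4)
    _ = 23499295948800 * 2 ^ 26 := by norm_num

section

variable (ht : t ∈ T h o) (htQ : t ∉ Q) {g : G} (hg : g ∈ N h o) (hgz : g * z * g⁻¹ = t) (htk : kap z (t * z) = 1)
include ht htQ hg hgz htk

theorem range_eq [Finite G] : β.range = E QF ∧ Nat.card (C h o) = 2 ^ 26 := by
  have h1 := E_le_range c hβ F hyQ hy τz τy τE ht htQ ⟨g, hg, hgz⟩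
  have h2 := card_ge h F hyQ hy τz τy τE htk hg hgz (X_le_C h) (Xt_le_C h hg)
  have h3 := card_N_le h F hyQ hy τz τy τE c hβ
  have h4 : Nat.card β.ker = Nat.card (C h o) := by
    rw [ker_beta c hβ]
    exact Nat.card_congr (Subgroup.subgroupOfEquivOfLe (C_le_N h)).toEquiv
  have h5 := β.ker.card_mul_index
  rw [Subgroup.index_ker, h4] at h5
  have hfin : Finite β.range := Finite.of_surjective β.rangeRestrict β.rangeRestrict_surjective
  have h6 : Nat.card (E QF) ≤ Nat.card β.range := by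
    exact Nat.card_le_card_of_injective (Subgroup.inclusion h1) (Subgroup.inclusion_injective h1)
  rw [card_E] at h6
  rw [← h5] at h3
  have h7 : Nat.card β.range ≤ 23499295948800 := by
    have h8 : 2 ^ 26 * Nat.card β.range ≤ Nat.card (C h o) * Nat.card β.range := Nat.mul_le_mul_right _ h2
    have h9 := h8.trans h3
    omega
  have h8 : Nat.card (C h o) ≤ 2 ^ 26 := by
    have h9 : Nat.card (C h o) * 23499295948800 ≤ Nat.card (C h o) * Nat.card β.range := Nat.mul_le_mul_left _ h6
    have h10 := h9.trans h3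
    omega
  refine ⟨?_, le_antisymm h8 h2⟩
  symm
  apply Subgroup.eq_of_le_of_card_ge h1
  rw [card_E]; exact h7

end

end

end

end Cfsg.Agent.H848.TenH
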