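import Cfsg.Agent.H848.TenH

/-!
# The elementary abelian subgroup of order 1024: the normaliser
-/

set_option autoImplicit false
set_option linter.unusedSectionVars false

open Cfsg

namespace Cfsg.Agent.H848.TenI

open QuadraticMap Cfsg.Agent.LieClassical.OrthCore Cfsg.Agent.LieClassical.OrthTrans
open Cfsg.Agent.SporadicA
open Cfsg.Agent.SporadicA.Co1Simple
open Cfsg.Agent.MonsterU.Lam2 (L2 cl cl_surjective bf qf bf_nondeg bf_comm add_self neg_eq IsType type_cases
  bf_add_left bf_add_right)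
open Cfsg.Agent.MonsterU.CoFrameL2
open Cfsg.Agent.MonsterU.CoFrameIrr
open Cfsg.Agent.MonsterU.AmalGen (pre mem_pre pre_mono pre_conj z_mem_pre EE bf_W12 pre_W1)
open Cfsg.Agent.MonsterU.Ch
open Cfsg.Agent.H848.Dual (perp mem_perp card_perp perp_perp exists_bf perp_anti)
open Cfsg.Agent.H848.Oct
open Cfsg.Agent.H848.TenA
open Cfsg.Agent.H848.TenB
open Cfsg.Agent.H848.TenC
open Cfsg.Agent.H848.TenD
open Cfsg.Agent.H848.TenE
open Cfsg.Agent.H848.TenForm
open Cfsg.Agent.H848.TenF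
open Cfsg.Agent.H848.TenG
open Cfsg.Agent.H848.TenH
open Cfsg.Agent.H848.NormFour (card_pre)
open Cfsg.Agent.H848.ProdQuot (pCore_eq_ker)
open Cfsg.Spor (Co1)

universe u

theorem form_single (i : Fin 5 ⊕ Fin 5) : quadFormPlus 5 (ZMod 2) (Pi.single i 1) = 0 := by
  unfold quadFormPlus
  apply Finset.sum_eq_zero
  intro j _
  rcases i with i | i
  · have h1 : (Pi.single (Sum.inl i) 1 : V5) (Sum.inr j) = 0 := Pi.single_eq_of_ne (by simp) _
    rw [h1, mul_zero]
  · have h1 : (Pi.single (Sum.inr i) 1 : V5) (Sum.inl j) = 0 := Pi.single_eq_of_ne (by simp) _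
    rw [h1, zero_mul]

theorem omega_equiv : Nonempty (E QF ≃* Cfsg.Omega (ZMod 2) (quadFormPlus 5 (ZMod 2))) := by
  rw [← Cfsg.Agent.LieClassical.OrthForms.coe_plusForm 5 (ZMod 2)]
  exact ⟨(MulEquiv.subgroupCongr good.commutator_eq_E.symm).trans
    (Cfsg.Agent.LieClassical.OrthFinite.omegaEquiv QF).symm⟩

variable {G : Type u} [Group G] {Q : Subgroup G} {z : G} {eta : G → L2}
  {pi : Subgroup.centralizer ({z} : Set G) →* Co1}

section

variable (h : Chart Q z eta pi) {o : golayCode} (F : Facts o)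
  {y τ : G} (hyQ : y ∈ Q) (hy : eta y = f0) (τz : τ * z * τ⁻¹ = y) (τy : τ * y * τ⁻¹ = z * y)
  (τE : ∀ e ∈ EE h, τ * e * τ⁻¹ * e⁻¹ ∈ pre h W1)
include h F hyQ hy τz τy τE

/-- the subgroup is contained in its centraliser -/
theorem T_le_C [Finite G] : T h o ≤ C h o := by
  intro t ht
  rw [mem_C]
  intro s hs
  exact ab_T h F hyQ hy τz τy τE hs ht

omit F hyQ hy τz τy τE in
theorem T_of_C {c : G} (hc : ∀ x ∈ C h o, x * c = c * x) : c ∈ T h o := by
  rw [mem_T]
  intro x hx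
  exact hc x (X_le_C h hx)

omit hyQ hy τz τy τE in
theorem exists_comm [Finite G] : ∃ a ∈ X h o, ∃ b ∈ X h o, a * b * a⁻¹ * b⁻¹ = z := by
  have h1 : ∃ u ∈ W16 o, ∃ v ∈ W16 o, bf u v ≠ 0 := by
    by_contra hn
    push Not at hn
    have h2 : W16 o ≤ W8 o := by
      rw [← perp_W16]
      exact fun u hu v hv => hn u hu v hv
    have h3 := AddSubgroup.card_dvd_of_le h2
    rw [card_W16 F, card_W8 F] at h3
    norm_num at h3
  obtain ⟨u, hu, v, hv, huv⟩ := h1
  obtain ⟨a, ha, rfl⟩ := h.eta_surj u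
  obtain ⟨b, hb, rfl⟩ := h.eta_surj v
  refine ⟨a, ⟨ha, hu⟩, b, ⟨hb, hv⟩, ?_⟩
  have h2 : bf (eta a) (eta b) = 1 := (zmod_cases _).resolve_left huv
  rw [conj_Q h ha hb, h2, zp_one, qz h hb, mul_inv_cancel_right]

section

variable {t g : G} (ht : t ∈ T h o) (hg : g ∈ N h o) (hgz : g * z * g⁻¹ = t) (htk : kap z (t * z) = 1)
  (hcard : Nat.card (C h o) = 2 ^ 26)
include ht hg hgz htk hcard

theorem C_eq [Finite G] : C h o = X h o ⊔ Xt h o g := by
  symm
  apply Subgroup.eq_of_le_of_card_ge (sup_le (X_le_C h) (Xt_le_C h hg))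
  rw [hcard]
  exact card_ge h F hyQ hy τz τy τE htk hg hgz le_sup_left le_sup_right

/-- commutators of generators -/
theorem comm_gen [Finite G] {a b : G} (ha : a ∈ X h o ∨ a ∈ Xt h o g) (hb : b ∈ X h o ∨ b ∈ Xt h o g) :
    a * b * a⁻¹ * b⁻¹ ∈ T h o := by
  have hXX : ∀ a ∈ X h o, ∀ b ∈ X h o, a * b * a⁻¹ * b⁻¹ ∈ T h o := by
    intro a ha b hb
    rw [conj_Q h ha.1 hb.1, zp_comm h (qz h hb.1), mul_inv_cancel_right]
    exact pre_W8_le h (zp_mem h _ _)
  have hXXt : ∀ a ∈ X h o, ∀ b ∈ Xt h o g, a * b * a⁻¹ * b⁻¹ ∈ T h o := by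
    intro a ha b hb
    apply pre_W8_le h
    apply inf_le h F hyQ hy τz τy τE htk hg hgz
    refine ⟨?_, ?_⟩
    · have h1 := C_X h F hyQ hy τz τy τE (Xt_le_C h hg hb) ((X h o).inv_mem ha)
      have h2 : a * b * a⁻¹ * b⁻¹ = a * (b * a⁻¹ * b⁻¹) := by group
      rw [h2]; exact (X h o).mul_mem ha h1
    · exact (Xt h o g).mul_mem (C_Xt h F hyQ hy τz τy τE hg (X_le_C h ha) hb) ((Xt h o g).inv_mem hb)
  rcases ha with ha | ha <;> rcases hb with hb | hb
  · exact hXX a ha b hb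
  · exact hXXt a ha b hb
  · have h1 := Subgroup.inv_mem _ (hXXt b hb a ha)
    have h2 : (b * a * b⁻¹ * a⁻¹)⁻¹ = a * b * a⁻¹ * b⁻¹ := by group
    rwa [h2] at h1
  · rw [mem_Xt] at ha hb
    have h1 := conj_N h hg (hXX _ ha _ hb)
    have h2 : g * (g⁻¹ * a * g * (g⁻¹ * b * g) * (g⁻¹ * a * g)⁻¹ * (g⁻¹ * b * g)⁻¹) * g⁻¹ =
      a * b * a⁻¹ * b⁻¹ := by group
    rwa [h2] at h1

/-- commutators -/
theorem comm_C [Finite G] {a b : G} (ha : a ∈ C h o) (hb : b ∈ C h o) : a * b * a⁻¹ * b⁻¹ ∈ T h o := by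
  have hTc : ∀ t ∈ T h o, ∀ x ∈ C h o, x * t * x⁻¹ = t := by
    intro t ht x hx
    rw [← (mem_C h).1 hx t ht, mul_inv_cancel_right]
  -- the elements whose commutator with `b` is in `T`
  let K : G → Subgroup G := fun b =>
    { carrier := {a | a ∈ C h o ∧ a * b * a⁻¹ * b⁻¹ ∈ T h o}
      one_mem' := ⟨Subgroup.one_mem _, by
        have : (1 : G) * b * 1⁻¹ * b⁻¹ = 1 := by group
        rw [this]; exact Subgroup.one_mem _⟩
      mul_mem' := by
        rintro a a' ⟨h1, h2⟩ ⟨h3, h4⟩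
        refine ⟨Subgroup.mul_mem _ h1 h3, ?_⟩
        have h5 : a * a' * b * (a * a')⁻¹ * b⁻¹ = (a * (a' * b * a'⁻¹ * b⁻¹) * a⁻¹) * (a * b * a⁻¹ * b⁻¹) := by group
        rw [h5, hTc _ h4 _ h1]
        exact Subgroup.mul_mem _ h4 h2
      inv_mem' := by
        rintro a ⟨h1, h2⟩
        refine ⟨Subgroup.inv_mem _ h1, ?_⟩
        have h5 : a⁻¹ * b * a⁻¹⁻¹ * b⁻¹ = a⁻¹ * (a * b * a⁻¹ * b⁻¹)⁻¹ * a⁻¹⁻¹ := by group
        rw [h5, hTc _ (Subgroup.inv_mem _ h2) _ (Subgroup.inv_mem _ h1)]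
        exact Subgroup.inv_mem _ h2 }
  have hCeq := C_eq h F hyQ hy τz τy τE ht hg hgz htk hcard
  have key : ∀ b, (b ∈ X h o ∨ b ∈ Xt h o g) → ∀ a ∈ C h o, a * b * a⁻¹ * b⁻¹ ∈ T h o := by
    intro b hb a ha
    have h1 : C h o ≤ K b := by
      rw [hCeq]
      refine sup_le (fun x hx => ⟨X_le_C h hx, ?_⟩) (fun x hx => ⟨Xt_le_C h hg hx, ?_⟩)
      · exact comm_gen h F hyQ hy τz τy τE ht hg hgz htk hcard (Or.inl hx) hb
      · exact comm_gen h F hyQ hy τz τy τE ht hg hgz htk hcard (Or.inr hx) hb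
    exact (h1 ha).2
  have h1 : C h o ≤ K b := by
    rw [hCeq]
    refine sup_le (fun x hx => ⟨X_le_C h hx, ?_⟩) (fun x hx => ⟨Xt_le_C h hg hx, ?_⟩)
    · have h2 := Subgroup.inv_mem _ (key x (Or.inl hx) b hb)
      have h3 : (b * x * b⁻¹ * x⁻¹)⁻¹ = x * b * x⁻¹ * b⁻¹ := by group
      rwa [h3] at h2
    · have h2 := Subgroup.inv_mem _ (key x (Or.inr hx) b hb)
      have h3 : (b * x * b⁻¹ * x⁻¹)⁻¹ = x * b * x⁻¹ * b⁻¹ := by group
      rwa [h3] at h2
  exact (h1 ha).2

/-- squares -/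
theorem sq_C [Finite G] {a : G} (ha : a ∈ C h o) : a * a ∈ T h o := by
  have hTc : ∀ t ∈ T h o, ∀ x ∈ C h o, x * t = t * x := by
    intro t ht x hx
    exact ((mem_C h).1 hx t ht).symm
  let K : Subgroup G :=
    { carrier := {a | a ∈ C h o ∧ a * a ∈ T h o}
      one_mem' := ⟨Subgroup.one_mem _, by rw [mul_one]; exact Subgroup.one_mem _⟩
      mul_mem' := by
        rintro a a' ⟨h1, h2⟩ ⟨h3, h4⟩
        refine ⟨Subgroup.mul_mem _ h1 h3, ?_⟩
        have h5 := comm_C h F hyQ hy τz τy τE ht hg hgz htk hcard h3 h1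
        have h6 := hTc _ h5 _ h1
        have h7 : a * a' * (a * a') = a * (a' * a * a'⁻¹ * a⁻¹) * (a * (a' * a')) := by group
        have h8 : a * (a' * a * a'⁻¹ * a⁻¹) * (a * (a' * a')) = (a' * a * a'⁻¹ * a⁻¹) * (a * a) * (a' * a') := by
          rw [h6]; group
        rw [h7, h8]
        exact Subgroup.mul_mem _ (Subgroup.mul_mem _ h5 h2) h4
      inv_mem' := by
        rintro a ⟨h1, h2⟩
        refine ⟨Subgroup.inv_mem _ h1, ?_⟩
        rw [← mul_inv_rev]
        exact Subgroup.inv_mem _ h2 }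
  have hCeq := C_eq h F hyQ hy τz τy τE ht hg hgz htk hcard
  have hX : ∀ x ∈ X h o, x * x ∈ T h o := by
    intro x hx
    rcases zmod_cases (qf (eta x)) with h6 | h6
    · rw [(h.sq_one hx.1).2 h6]; exact Subgroup.one_mem _
    · rw [(h.sq_z hx.1).2 h6]; exact z_mem_T h
  have h1 : C h o ≤ K := by
    rw [hCeq]
    refine sup_le (fun x hx => ⟨X_le_C h hx, hX x hx⟩) (fun x hx => ⟨Xt_le_C h hg hx, ?_⟩)
    have h2 := conj_N h hg (hX _ ((mem_Xt h).1 hx))
    have h3 : g * (g⁻¹ * x * g * (g⁻¹ * x * g)) * g⁻¹ = x * x := by group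
    rwa [h3] at h2
  exact (h1 ha).2

end

/-- the derived group of the centraliser contains the subgroup -/
theorem T_le_comm [Finite G] {t g : G} {ι : V5 → G} (c : Crd h o t ι) (hg : g ∈ N h o) (hgz : g * z * g⁻¹ = t) :
    T h o ≤ ⁅C h o, C h o⁆ := by
  set M := ⁅C h o, C h o⁆ with hM
  have hNM : ∀ g ∈ N h o, ∀ m ∈ M, g * m * g⁻¹ ∈ M := by
    intro g hg m hm
    have h1 : (C h o).map (MulAut.conj g).toMonoidHom ≤ C h o := by
      rintro _ ⟨x, hx, rfl⟩
      exact C_conj h hg hx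
    have h2 : M.map (MulAut.conj g).toMonoidHom ≤ M := by
      rw [hM, Subgroup.map_commutator]
      exact Subgroup.commutator_mono h1 h1
    exact h2 ⟨m, hm, rfl⟩
  have hzM : z ∈ M := by
    obtain ⟨a, ha, b, hb, hab⟩ := exists_comm h F
    rw [← hab]
    exact Subgroup.commutator_mem_commutator (X_le_C h ha) (X_le_C h hb)
  have htM : t ∈ M := by rw [← hgz]; exact hNM g hg z hzM
  have hsing : ∀ i, ι (Pi.single i 1) ∈ M := by
    intro i
    by_cases hi : i = Sum.inr 0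
    · rw [hi, c.hf]; exact htM
    · have h1 : TenD.nu Q (ι (Pi.single i 1)) = 0 := by
        rw [c.nu]
        exact Pi.single_eq_of_ne (fun h => hi h.symm) _
      have h2 := mem_pre_W8 h (nu_eq_zero.1 h1) (iota_mem c _)
      have h3 := c.kap (Pi.single i 1)
      rw [form_single, kap_pre h F hyQ hy τz τy τE h2] at h3
      rcases F.type8 _ h2.2 with h4 | h4 | h4
      · rcases (h.eta_zero _ h2.1).1 h4 with h5 | h5
        · rw [h5]; exact M.one_mem
        · rw [h5]; exact hzM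
      · exfalso
        unfold q8 at h3
        rw [if_pos h4] at h3
        exact one_ne_zero h3
      · obtain ⟨k, hk, hkz, -⟩ := conj_of_type_four h F hyQ hy τz τy τE h2 h4
        rw [← hkz]
        exact hNM k hk z hzM
  let K : AddSubgroup V5 :=
    { carrier := {v | ι v ∈ M}
      zero_mem' := by
        show ι 0 ∈ M
        rw [iota_zero c]; exact M.one_mem
      add_mem' := by
        intro a b ha hb
        show ι (a + b) ∈ M
        rw [c.add]; exact M.mul_mem ha hb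
      neg_mem' := by
        intro a ha
        show ι (-a) ∈ M
        have : -a = a := by
          funext i
          exact CharTwo.neg_eq (a i)
        rw [this]; exact ha }
  intro s hs
  obtain ⟨v, rfl⟩ := (c.mem s).1 hs
  show v ∈ K
  rw [← Finset.univ_sum_single v]
  apply K.sum_mem
  intro i _
  rcases zmod_cases (v i) with h1 | h1
  · rw [h1, Pi.single_zero]; exact K.zero_mem
  · rw [h1]; exact hsing i

/-- **The normaliser of the subgroup of order 1024.** -/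
theorem main [Finite G] : ∃ (E N : Subgroup G) (O : Subgroup ↥N), Cfsg.IsElementaryAbelian 2 E ∧
    Nat.card ↥E = 2 ^ 10 ∧ N = Subgroup.normalizer (E : Set G) ∧ O = Cfsg.pCore 2 ↥N ∧ Cfsg.IsSpecial 2 ↥O ∧
    Nat.card ↥O = 2 ^ 26 ∧ (Subgroup.center ↥O).map O.subtype = E.subgroupOf N ∧
    O = Subgroup.centralizer (E.subgroupOf N : Set ↥N) ∧
    ∃ _ : O.Normal, Nonempty (↥N ⧸ O ≃* ↥(Cfsg.Omega (ZMod 2) (Cfsg.quadFormPlus 5 (ZMod 2)))) := by
  obtain ⟨t, ht, htQ, ⟨g, hg, hgz⟩, htk, ι, c⟩ := exists_crd h F hyQ hy τz τy τE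
  obtain ⟨β, hβ⟩ := exists_beta c
  obtain ⟨hrange, hcard⟩ := range_eq h F hyQ hy τz τy τE c hβ ht htQ hg hgz htk
  have hker := ker_beta c hβ
  let f : N h o →* E QF := (MulEquiv.subgroupCongr hrange).toMonoidHom.comp β.rangeRestrict
  have hf : Function.Surjective f :=
    (MulEquiv.subgroupCongr hrange).surjective.comp β.rangeRestrict_surjective
  have hfk : f.ker = (C h o).subgroupOf (N h o) := by
    rw [← hker]
    ext x
    rw [MonoidHom.mem_ker, MonoidHom.mem_ker]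
    constructor
    · intro h1
      exact congrArg (fun u : E QF => (u : V5 ≃ₗ[ZMod 2] V5)) h1
    · intro h1
      exact Subtype.ext h1
  have hOcard : Nat.card ((C h o).subgroupOf (N h o)) = 2 ^ 26 := by
    rw [← hcard]
    exact Nat.card_congr (Subgroup.subgroupOfEquivOfLe (C_le_N h)).toEquiv
  have hp : IsPGroup 2 ((C h o).subgroupOf (N h o)) := IsPGroup.of_card hOcard
  have hcore := pCore_eq_ker (p := 2) f hf (by rw [hfk]; exact hp) E_core
  have hmemC : ∀ x : (C h o).subgroupOf (N h o), ((x : N h o) : G) ∈ C h o := fun x => x.2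
  -- elements of `T` are central
  have hcent : ∀ x : (C h o).subgroupOf (N h o), x ∈ Subgroup.center _ ↔ ((x : N h o) : G) ∈ T h o := by
    intro x
    rw [Subgroup.mem_center_iff]
    constructor
    · intro h1
      apply T_of_C h
      intro y hy
      exact congrArg (fun u : (C h o).subgroupOf (N h o) => ((u : N h o) : G)) (h1 ⟨⟨y, C_le_N h hy⟩, hy⟩)
    · intro h1 y
      apply Subtype.ext
      apply Subtype.ext
      exact ((mem_C h).1 (hmemC y) _ h1).symm
  refine ⟨T h o, N h o, (C h o).subgroupOf (N h o), ⟨⟨⟨fun a b => Subtype.ext (ab_T h F hyQ hy τz τy τE a.2 b.2)⟩⟩,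
    fun a ha => ?_⟩, card_T h F hyQ hy τz τy τE, rfl, ?_, ?_, hOcard, ?_, ?_, ?_⟩
  · rw [pow_two]; exact sq_T h F hyQ hy τz τy τE ha
  · rw [hcore, hfk]
  · refine special_of hp (fun a b => ?_) (fun a => ?_) ?_
    · rw [hcent]
      exact comm_C h F hyQ hy τz τy τE ht hg hgz htk hcard (hmemC a) (hmemC b)
    · rw [hcent]
      exact sq_C h F hyQ hy τz τy τE ht hg hgz htk hcard (hmemC a)
    · intro x hx
      rw [hcent] at hx
      have h1 := T_le_comm h F hyQ hy τz τy τE c hg hgz hx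
      let φ : (C h o).subgroupOf (N h o) →* G := (N h o).subtype.comp ((C h o).subgroupOf (N h o)).subtype
      have h2 : (commutator ((C h o).subgroupOf (N h o))).map φ = ⁅C h o, C h o⁆ := by
        rw [commutator_def, Subgroup.map_commutator]
        have h3 : (⊤ : Subgroup ((C h o).subgroupOf (N h o))).map φ = C h o := by
          ext y
          constructor
          · rintro ⟨x, -, rfl⟩
            exact hmemC x
          · intro hy
            exact ⟨⟨⟨y, C_le_N h hy⟩, hy⟩, trivial, rfl⟩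
        rw [h3]
      rw [← h2] at h1
      obtain ⟨y, hy, hyx⟩ := h1
      have h3 : y = x := Subtype.ext (Subtype.ext hyx)
      rw [← h3]; exact hy
  · ext n
    rw [Subgroup.mem_map, Subgroup.mem_subgroupOf]
    constructor
    · rintro ⟨x, hx, rfl⟩
      exact (hcent x).1 hx
    · intro hn
      have hnC : (n : G) ∈ C h o := T_le_C h F hyQ hy τz τy τE hn
      exact ⟨⟨n, hnC⟩, (hcent _).2 hn, rfl⟩
  · ext n
    rw [Subgroup.mem_subgroupOf, Subgroup.mem_centralizer_iff, Subgroup.mem_centralizer_iff]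
    constructor
    · intro h1 x hx
      exact Subtype.ext (h1 x hx)
    · intro h1 x hx
      have hxN : x ∈ N h o := C_le_N h (T_le_C h F hyQ hy τz τy τE hx)
      exact congrArg Subtype.val (h1 ⟨x, hxN⟩ hx)
  · have hn : ((C h o).subgroupOf (N h o)).Normal := by rw [← hfk]; infer_instance
    obtain ⟨e⟩ := omega_equiv
    exact ⟨hn, ⟨((QuotientGroup.quotientMulEquivOfEq hfk.symm).trans
      (QuotientGroup.quotientKerEquivOfSurjective f hf)).trans e⟩⟩

end

end Cfsg.Agent.H848.TenI
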