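import Cfsg.Agent.LThreeFfour.Mat
import Cfsg.Agent.TypeD4Two.Recog
import Cfsg.Agent.ChevalleyStructure.FieldIso
import Cfsg.Agent.H944.TS.Iface

/-!
# `³D₄(2) ≤ F₄(2)` (TEAM EXCSUB, S5741, B5)

Five words in root elements of `F₄(2)` satisfying the relations of `³D₄(2)` (`TypeD4Two.Recog`).  They were found as
`g h g⁻¹`, `h` in `³D₄(2) ≤ D₄(8) ≤ F₄(8)`, `g ∈ SL₃(8)` (short roots) with `σ(g) = g n`.
-/

set_option autoImplicit false
set_option maxRecDepth 100000
set_option linter.unusedSimpArgs false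

namespace Cfsg.Agent.H848.TriF4

open Cfsg Cfsg.Lie
open Cfsg.Agent.FourTwo.Base (LL x x_inv wd wd_nil wd_cons wd_append wd_one)
open Cfsg.Agent.LThreeFfour.Mat (mt mt_inj mt_wd)
open Cfsg.Agent.FourTwo.RankInv (wordM)
open Cfsg.Agent.TypeD4Two
open Cfsg.Agent.TypeD4Two.Cert (RelL RelC RelT bb zz cc)

universe u

theorem wd_inv (w : List ℕ) : (wd w)⁻¹ = wd w.reverse := by
  induction w with
  | nil => simp
  | cons r w ih => rw [wd_cons, mul_inv_rev, ih, x_inv, List.reverse_cons, wd_append, wd_one]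

theorem wd_pow (w : List ℕ) (k : ℕ) : wd w ^ k = wd (List.replicate k w).flatten := by
  induction k with
  | zero => rfl
  | succ k ih => rw [pow_succ', ih, ← wd_append]; rfl

theorem one_wd : (1 : LL) = wd [] := rfl

/-- the check -/
def ck (w w' : List ℕ) : Bool :=
  (w.all fun r => decide (r < 48)) && (w'.all fun r => decide (r < 48)) && Nat.beq (wordM w) (wordM w')

theorem wd_eq {w w' : List ℕ} (h : ck w w' = true) : wd w = wd w' := by
  unfold ck at h
  rw [Bool.and_eq_true, Bool.and_eq_true] at h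
  apply mt_inj
  rw [mt_wd w h.1.1, mt_wd w' h.1.2, Nat.eq_of_beq_eq_true h.2]

/-- the words -/
def dW : List ℕ := [33, 27, 20, 27, 34, 13, 34]
def eW : List ℕ := [28, 41]
def nW : List ℕ := [28, 19, 28, 41, 6, 41]
def aW : List ℕ := [46]
def tW : List ℕ := [24, 23, 24]

theorem relL : RelL (wd dW) (wd eW) (wd nW) where
  dd := by simp only [wd_pow, one_wd, wd_inv, ← wd_append]; exact wd_eq (by decide +kernel)
  ee := by simp only [wd_pow, one_wd, wd_inv, ← wd_append]; exact wd_eq (by decide +kernel)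
  nn := by simp only [wd_pow, one_wd, wd_inv, ← wd_append]; exact wd_eq (by decide +kernel)
  l1 := by simp only [wd_pow, one_wd, wd_inv, ← wd_append]; exact wd_eq (by decide +kernel)
  l2 := by simp only [wd_pow, one_wd, wd_inv, ← wd_append]; exact wd_eq (by decide +kernel)
  nd := by simp only [wd_pow, one_wd, wd_inv, ← wd_append]; exact wd_eq (by decide +kernel)
  ne := by simp only [wd_pow, one_wd, wd_inv, ← wd_append]; exact wd_eq (by decide +kernel)

theorem relC : RelC (wd dW) (wd eW) (wd nW) (wd aW) where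
  toRelL := relL
  aa := by simp only [bb, zz, cc, wd_pow, one_wd, wd_inv, ← wd_append]; exact wd_eq (by decide +kernel)
  ad := by simp only [bb, zz, cc, wd_pow, one_wd, wd_inv, ← wd_append]; exact wd_eq (by decide +kernel)
  ae := by simp only [bb, zz, cc, wd_pow, one_wd, wd_inv, ← wd_append]; exact wd_eq (by decide +kernel)
  ab := by simp only [bb, zz, cc, wd_pow, one_wd, wd_inv, ← wd_append]; exact wd_eq (by decide +kernel)
  ze := by simp only [bb, zz, cc, wd_pow, one_wd, wd_inv, ← wd_append]; exact wd_eq (by decide +kernel)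
  prod := by simp only [bb, zz, cc, wd_pow, one_wd, wd_inv, ← wd_append]; exact wd_eq (by decide +kernel)

theorem relT : RelT (wd dW) (wd eW) (wd nW) (wd aW) (wd tW) where
  toRelC := relC
  tt := by simp only [bb, zz, cc, wd_pow, one_wd, wd_inv, ← wd_append]; exact wd_eq (by decide +kernel)
  td := by simp only [bb, zz, cc, wd_pow, one_wd, wd_inv, ← wd_append]; exact wd_eq (by decide +kernel)
  tz := by simp only [bb, zz, cc, wd_pow, one_wd, wd_inv, ← wd_append]; exact wd_eq (by decide +kernel)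
  bt := by simp only [bb, zz, cc, wd_pow, one_wd, wd_inv, ← wd_append]; exact wd_eq (by decide +kernel)
  te := by simp only [bb, zz, cc, wd_pow, one_wd, wd_inv, ← wd_append]; exact wd_eq (by decide +kernel)
  tc := by simp only [bb, zz, cc, wd_pow, one_wd, wd_inv, ← wd_append]; exact wd_eq (by decide +kernel)

theorem tn : (wd tW * (wd nW * wd tW * wd nW)) ^ 3 = 1 := by
  simp only [wd_pow, one_wd, wd_inv, ← wd_append]; exact wd_eq (by decide +kernel)

theorem t_ne : wd tW ≠ 1 := by
  intro h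
  have h1 : x 24 * (x 23 * (x 24 * 1)) = 1 := h
  have h2 : x 24 * x 24 = 1 := Cfsg.Agent.FourTwo.Base.x_mul_self 24
  apply Cfsg.Agent.FourTwo.BN.x_ne_one (r := 23) (by omega)
  calc x 23 = (x 24 * x 24) * x 23 * (x 24 * x 24) := by rw [h2, one_mul, mul_one]
    _ = x 24 * (x 24 * (x 23 * (x 24 * 1))) * x 24 := by group
    _ = 1 := by rw [h1, mul_one, h2]

/-- **`³D₄(2) ≤ F₄(2)`** -/
theorem exists_tri : ∃ L : Subgroup LL, ∀ (K : Type) [Field K] [Fintype K], Fintype.card K = 8 →
    Nonempty (L ≃* twistedD4 K 2) :=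
  ⟨_, fun K _ _ hK => Recog.recognize_field relT tn t_ne K hK⟩

open Cfsg.Agent.OrdDiv Cfsg.Agent.H944.TS in
/-- task B5 -/
theorem sub_f4_td4 : Sub.{u} (.f4 2) (.td4 2) := by
  rintro X _ ⟨F, i1, i2, hF, ⟨e⟩⟩
  obtain ⟨L, hL⟩ := exists_tri
  have hZ : Fintype.card (ZMod 2) = 2 := ZMod.card 2
  let φ : ZMod 2 ≃+* F := FiniteField.ringEquivOfCardEq (hZ.trans hF.symm)
  let f : LL ≃* X := (ChevalleyStructure.FieldIso.groupEquiv chevF4 φ).trans e.symm
  obtain ⟨k⟩ := hL F8 F8.card_F8
  let j : twistedD4 F8 2 →* X := (f.toMonoidHom.comp L.subtype).comp k.symm.toMonoidHom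
  have hj : Function.Injective j := fun a b h => k.symm.injective (L.subtype_injective (f.injective h))
  exact ⟨j.range, F8, inferInstance, inferInstance, by rw [F8.card_F8]; norm_num, ⟨(MonoidHom.ofInjective hj).symm⟩⟩

end Cfsg.Agent.H848.TriF4
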